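import Cfsg.Agent.Lib.Compute.CosetOrbit

/-! Coset enumeration certificate data (S3348, case GenM). -/

set_option autoImplicit false
set_option maxRecDepth 100000
set_option Elab.async false

namespace Cfsg.Agent.GL23Amalgam.Data.GenM

open Cfsg.Agent.CosetCert

/-- the coset table -/
def tab : Tab :=
  .leaf 0x0

/-- base relators -/
def base : List (List ℕ) := [
  [0, 1, 0, 1],
  [0, 1, 0, 1, 0, 2, 0, 2],
  [0, 1, 0, 1, 0, 4, 0, 4],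
  [0, 1, 0, 1, 3, 1, 3, 1],
  [0, 1, 0, 1, 5, 1, 5, 1],
  [0, 1, 0, 2, 0, 1, 2],
  [0, 1, 0, 3, 0, 1, 0, 3],
  [0, 1, 0, 3, 1, 3],
  [0, 1, 0, 3, 5, 1, 5, 3],
  [0, 1, 0, 4, 1, 4, 1, 4],
  [0, 1, 0, 5, 0, 1, 0, 5],
  [0, 1, 0, 5, 1, 5],
  [0, 1, 0, 5, 3, 1, 3, 5],
  [0, 1, 2, 0, 2, 1],
  [0, 1, 2, 0, 2, 5, 1, 5],
  [0, 1, 2, 1, 0, 1, 2, 1],
  [0, 1, 2, 1, 2],
  [0, 1, 2, 4, 0, 4, 2, 1],
  [0, 1, 2, 5, 1, 5, 2],
  [0, 1, 3, 0, 1, 3, 1],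
  [0, 1, 3, 0, 3],
  [0, 1, 3, 1, 3, 4, 0, 4],
  [0, 1, 3, 4, 0, 4, 3],
  [0, 1, 4, 0, 1, 4, 1, 4],
  [0, 1, 4, 0, 4, 1],
  [0, 1, 4, 0, 4, 3, 1, 3],
  [0, 1, 4, 0, 4, 5, 1, 5],
  [0, 1, 4, 1, 0, 1, 4, 1],
  [0, 1, 4, 1, 0, 4, 1, 4],
  [0, 1, 4, 1, 4, 1, 0, 4],
  [0, 1, 4, 2, 0, 2, 4, 1],
  [0, 1, 5, 0, 1, 5, 0, 5],
  [0, 1, 5, 0, 5, 0, 5, 1],
  [0, 1, 5, 0, 5, 1, 0, 5],
  [0, 1, 5, 1, 0, 5, 0, 5],
  [0, 1, 5, 1, 5, 2, 0, 2],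
  [0, 1, 5, 1, 5, 4, 0, 4],
  [0, 2, 0, 2],
  [0, 2, 0, 2, 0, 4, 0, 4],
  [0, 2, 0, 2, 1, 5, 1, 5],
  [0, 2, 1, 2, 0, 2, 1, 2],
  [0, 2, 1, 2, 5, 1, 5],
  [0, 2, 1, 4, 0, 4, 1, 2],
  [0, 2, 4, 0, 4, 2],
  [0, 2, 4, 2, 0, 2, 4, 2],
  [0, 2, 4, 2, 4, 2, 4],
  [0, 2, 5, 0, 5, 0, 5, 2],
  [0, 2, 5, 2, 4, 5, 4, 5],
  [0, 2, 5, 4, 5, 4, 2, 5],
  [0, 3, 0, 3, 0, 3, 0, 3],
  [0, 3, 0, 3, 5, 1, 5],
  [0, 3, 1, 3, 0, 3, 1, 3],
  [0, 3, 1, 3, 0, 5, 1, 5],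
  [0, 3, 1, 3, 1, 4, 0, 4],
  [0, 3, 1, 4, 0, 4, 3],
  [0, 4, 0, 4],
  [0, 4, 0, 4, 1, 5, 1, 5],
  [0, 4, 1, 2, 1, 2, 4],
  [0, 4, 1, 4, 0, 4, 1, 4],
  [0, 4, 2, 4, 0, 4, 2, 4],
  [0, 4, 5, 0, 5, 0, 5, 4],
  [0, 5, 0, 5, 0, 5],
  [0, 5, 1, 5, 0, 5, 1, 5],
  [1, 2, 1, 2, 1, 2, 1, 2],
  [1, 2, 1, 4, 2, 4, 2, 4],
  [1, 3, 1, 3],
  [1, 3, 1, 3, 1, 5, 1, 5],
  [1, 3, 1, 5, 3, 5, 3, 5],
  [1, 3, 4, 1, 4, 1, 4, 3],
  [1, 3, 4, 3, 4, 5, 4, 5],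
  [1, 3, 5, 1, 3, 5, 3, 5],
  [1, 3, 5, 1, 5, 3],
  [1, 3, 5, 3, 1, 3, 5, 3],
  [1, 3, 5, 3, 1, 5, 3, 5],
  [1, 3, 5, 3, 5, 3, 1, 5],
  [1, 3, 5, 4, 5, 4, 3, 4],
  [1, 4, 1, 4, 1, 4],
  [1, 4, 1, 4, 5, 1, 5, 4],
  [1, 4, 5, 4, 3, 4, 3, 5],
  [1, 5, 1, 5],
  [1, 5, 3, 5, 1, 5, 3, 5],
  [2, 4, 5, 4, 2, 4, 5, 4],
  [3, 5, 3, 5, 3, 5],
  [2, 3, 2, 3, 2, 3, 1, 4, 2, 3, 2, 3, 2, 3, 4, 1, 4, 1, 2, 3, 2, 3, 2, 3, 1, 4, 0]]

/-- rotations of the relators -/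
def rots : WTab :=
  (.node (.node (.node (.node (.node (.node (.node (.node (.node (.node (.leaf [0, 1, 0, 1]) (.leaf [4, 1, 3, 1, 3, 0, 4, 0])) (.node (.leaf [1, 0, 5, 1, 5, 4, 0, 4]) (.leaf [3, 2, 1, 4, 1, 4, 3, 2, 3, 2, 3, 2, 4, 1, 3, 2, 3, 2, 3, 2, 0, 4, 1, 3, 2, 3, 2]))) (.node (.node (.leaf [0, 1, 2, 4, 0, 4, 2, 1]) (.leaf [5, 1, 3, 5, 3, 5, 1, 3])) (.node (.leaf [0, 2, 1, 2, 0, 2, 1, 2]) (.leaf [0, 1, 0, 1])))) (.node (.node (.node (.leaf [5, 3, 0, 1, 0, 3, 5, 1]) (.leaf [5, 0, 5, 4, 0, 4, 5, 0])) (.node (.leaf [5, 1, 0, 5, 0, 5, 0, 1]) (.leaf [0, 1, 0, 1]))) (.node (.node (.leaf [3, 4, 0, 4, 3, 0, 1]) (.leaf [5, 4, 1, 4, 1, 4, 5, 1])) (.node (.leaf [4, 5, 0, 2, 5, 2, 4, 5]) (.leaf [0, 1, 0, 1]))))) (.node (.node (.node (.node (.leaf [5, 1, 0, 1, 0, 1, 5, 1]) (.leaf [5, 1, 4, 0, 4, 0, 5, 1])) (.node (.leaf [5, 0, 1, 5, 0, 5, 0,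 1]) (.leaf [0, 1, 0, 1]))) (.node (.node (.leaf [0, 3, 1, 0, 1, 3, 1]) (.leaf [1, 3, 5, 3, 5, 3, 1, 5])) (.node (.leaf [0, 2, 4, 2, 0, 2, 4, 2]) (.leaf [0, 1, 0, 1])))) (.node (.node (.node (.leaf [2, 1, 0, 1, 2, 0]) (.leaf [1, 5, 3, 5, 3, 5, 1, 3])) (.node (.leaf [4, 5, 1, 5, 1, 0, 4, 0]) (.leaf [0, 1, 0, 1]))) (.node (.node (.leaf [4, 1, 0, 1, 4, 0]) (.leaf [2, 3, 2, 3, 1, 4, 2, 3, 2, 3, 2, 3, 4, 1, 4, 1, 2, 3, 2, 3, 2, 3, 1, 4, 0, 2, 3])) (.node (.leaf [5, 1, 5, 0, 3, 0, 3]) (.leaf [0, 1, 0, 1])))))) (.node (.node (.node (.node (.node (.leaf [0, 4, 0, 1, 0, 1, 0, 4]) (.leaf [4, 1, 3, 0, 3, 4, 0])) (.node (.leaf [4, 1, 4, 1, 0, 4, 0, 1]) (.leaf [3, 2, 3, 2, 0, 4, 1, 3, 2, 3, 2, 3, 2, 1, 4, 1, 4, 3, 2, 3, 2, 3, 2, 4, 1, 3, 2]))) (.node (.node (.leaf [5, 1, 5, 2, 1, 0, 2]) (.leaf [5, 1, 5, 3, 1, 3])) (.node (.leaf [2, 0, 5, 1, 5, 2, 1])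 (.leaf [0, 1, 0, 1])))) (.node (.node (.node (.leaf [0, 5, 1, 5, 0, 1]) (.leaf [2, 4, 2, 4, 1, 2, 1, 4])) (.node (.leaf [2, 5, 1, 5, 1, 0, 2, 0]) (.leaf [0, 1, 0, 1]))) (.node (.node (.leaf [1, 4, 1, 4, 0, 1, 4, 0]) (.leaf [4, 1, 5, 3, 4, 3, 4, 5])) (.node (.leaf [2, 5, 0, 2, 5, 4, 5, 4]) (.leaf [0, 1, 0, 1]))))) (.node (.node (.node (.node (.leaf [0, 1, 0, 3, 0, 1, 0, 3]) (.leaf [2, 1, 4, 0, 4, 2, 1])) (.node (.leaf [5, 0, 5, 0, 5, 1, 0, 1]) (.leaf [0, 1, 0, 1]))) (.node (.node (.leaf [3, 1, 3, 4, 0, 4, 0, 1]) (.leaf [4, 3, 4, 5, 4, 5, 3, 1])) (.node (.leaf [2, 0, 4, 2, 4, 2, 4]) (.leaf [0, 1, 0, 1])))) (.node (.node (.node (.leaf [1, 0, 5, 1, 5, 2, 0, 2]) (.leaf [4, 3, 4, 5, 4, 5, 1, 3])) (.node (.leaf [0, 2, 0, 2, 1, 5, 1, 5]) (.leaf [0, 1, 0, 1]))) (.node (.node (.leaf [1, 0, 3, 1, 3, 4, 0, 4]) (.leaf [2, 3, 2, 3, 2, 3, 1, 4, 0, 2,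 3, 2, 3, 2, 3, 1, 4, 2, 3, 2, 3, 2, 3, 4, 1, 4, 1])) (.node (.leaf [1, 3, 0, 5, 1, 5, 0, 3]) (.leaf [0, 1, 0, 1]))))))) (.node (.node (.node (.node (.node (.node (.leaf [0, 2, 0, 1, 0, 1, 0, 2]) (.leaf [1, 4, 0, 4, 3, 0, 3])) (.node (.leaf [4, 1, 0, 4, 1, 4, 0, 1]) (.leaf [3, 2, 3, 2, 4, 1, 3, 2, 3, 2, 3, 2, 0, 4, 1, 3, 2, 3, 2, 3, 2, 1, 4, 1, 4, 3, 2]))) (.node (.node (.leaf [0, 1, 2, 5, 1, 5, 2]) (.leaf [5, 3, 1, 5, 3, 1, 5, 3])) (.node (.leaf [5, 1, 5, 0, 2, 1, 2]) (.leaf [0, 1, 0, 1])))) (.node (.node (.node (.leaf [1, 4, 0, 1, 0, 4, 1, 4]) (.leaf [1, 5, 0, 5, 1, 5, 0, 5])) (.node (.leaf [5, 1, 5, 2, 0, 2, 0, 1]) (.leaf [0, 1, 0, 1]))) (.node (.node (.leaf [4, 3, 1, 0, 3, 4, 0]) (.leaf [3, 5, 1, 4, 5, 4, 3, 4])) (.node (.leaf [2, 0, 5, 4, 5, 4, 2, 5]) (.leaf [0, 1, 0, 1]))))) (.node (.node (.node (.node (.leaf [2, 0, 1, 0, 2, 0, 1])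 (.leaf [1, 2, 1, 2, 4, 0, 4])) (.node (.leaf [5, 1, 0, 5, 1, 0, 5, 0]) (.leaf [0, 1, 0, 1]))) (.node (.node (.leaf [3, 0, 1, 3, 0]) (.leaf [1, 3, 5, 4, 5, 4, 3, 4])) (.node (.leaf [4, 2, 4, 0, 2, 4, 2]) (.leaf [0, 1, 0, 1])))) (.node (.node (.node (.leaf [1, 5, 0, 1, 2, 0, 2, 5]) (.leaf [4, 1, 4, 1, 4, 3, 1, 3])) (.node (.leaf [0, 2, 0, 2, 0, 4, 0, 4]) (.leaf [0, 1, 0, 1]))) (.node (.node (.leaf [1, 3, 0, 1, 4, 0, 4, 3]) (.leaf [2, 3, 2, 3, 4, 1, 4, 1, 2, 3, 2, 3, 2, 3, 1, 4, 0, 2, 3, 2, 3, 2, 3, 1, 4, 2, 3])) (.node (.leaf [3, 0, 5, 1, 5, 3, 0]) (.leaf [0, 1, 0, 1])))))) (.node (.node (.node (.node (.node (.leaf [3, 1, 0, 1, 0, 1, 3, 1]) (.leaf [0, 4, 1, 5, 1, 5, 0, 4])) (.node (.leaf [4, 2, 0, 2, 4, 1, 0, 1]) (.leaf [0, 1, 0, 1]))) (.node (.node (.leaf [3, 0, 1, 3, 1, 0, 1]) (.leaf [1, 3, 5, 3, 1, 5, 3, 5])) (.node (.leaf [1, 2, 0, 2,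 1, 4, 0, 4]) (.leaf [0, 1, 0, 1])))) (.node (.node (.node (.leaf [3, 1, 3, 5, 0, 1, 0, 5]) (.leaf [1, 3, 1, 5, 1, 5, 1, 3])) (.node (.leaf [5, 1, 5, 4, 0, 4, 0, 1]) (.leaf [0, 1, 0, 1]))) (.node (.node (.leaf [0, 4, 1, 0, 4, 1, 4, 1]) (.leaf [2, 4, 5, 4, 2, 4, 5, 4])) (.node (.leaf [2, 0, 5, 2, 4, 5, 4, 5]) (.leaf [0, 1, 0, 1]))))) (.node (.node (.node (.node (.leaf [1, 3, 0, 1, 0, 3]) (.leaf [0, 4, 2, 4, 0, 4, 2, 4])) (.node (.leaf [5, 0, 5, 1, 0, 5, 0, 1]) (.leaf [0, 1, 0, 1]))) (.node (.node (.leaf [4, 3, 1, 3, 1, 0, 4, 0]) (.leaf [1, 4, 1, 4, 1, 4])) (.node (.leaf [5, 2, 0, 2, 5, 0, 5, 0]) (.leaf [0, 1, 0, 1])))) (.node (.node (.node (.leaf [2, 1, 2, 0, 1]) (.leaf [5, 4, 3, 4, 3, 1, 5, 4])) (.node (.leaf [5, 1, 5, 1, 2, 0, 2, 0]) (.leaf [0, 1, 0, 1]))) (.node (.node (.leaf [1, 5, 0, 1, 4, 0, 4, 5]) (.leaf [0, 2, 3, 2, 3, 2, 3, 1, 4,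 2, 3, 2, 3, 2, 3, 4, 1, 4, 1, 2, 3, 2, 3, 2, 3, 1, 4])) (.node (.leaf [1, 3, 1, 4, 0, 4, 0, 3]) (.leaf [0, 1, 0, 1])))))))) (.node (.node (.node (.node (.node (.node (.node (.leaf [0, 1, 0, 2, 0, 2, 0, 1]) (.leaf [3, 0, 4, 0, 4, 1, 3, 1])) (.node (.leaf [4, 1, 0, 1, 4, 1, 0, 1]) (.leaf [1, 4, 3, 2, 3, 2, 3, 2, 4, 1, 3, 2, 3, 2, 3, 2, 0, 4, 1, 3, 2, 3, 2, 3, 2, 1, 4]))) (.node (.node (.leaf [0, 4, 2, 1, 0, 1, 2, 4]) (.leaf [3, 5, 1, 3, 5, 1, 3, 5])) (.node (.leaf [0, 2, 1, 2, 5, 1, 5]) (.leaf [0, 1, 0, 1])))) (.node (.node (.node (.leaf [0, 4, 1, 4, 1, 4, 0, 1]) (.leaf [0, 5, 0, 5, 0, 5])) (.node (.leaf [0, 5, 0, 1, 5, 1, 0, 5]) (.leaf [0, 1, 0, 1]))) (.node (.node (.leaf [3, 0, 1, 3, 4, 0, 4]) (.leaf [5, 4, 3, 4, 3, 5, 1, 4])) (.node (.leaf [5, 4, 2, 5, 2, 0, 5, 4]) (.leaf [0, 1, 0, 1]))))) (.node (.node (.node (.node (.leaf [0, 2, 0,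 1, 2, 0, 1]) (.leaf [4, 0, 5, 1, 5, 1, 4, 0])) (.node (.leaf [0, 5, 0, 1, 5, 0, 1, 5]) (.leaf [0, 1, 0, 1]))) (.node (.node (.leaf [0, 1, 3, 0, 3]) (.leaf [5, 3, 1, 5, 1, 3, 5, 3])) (.node (.leaf [0, 2, 4, 2, 4, 2, 4]) (.leaf [0, 1, 0, 1])))) (.node (.node (.node (.leaf [2, 0, 2, 5, 1, 5, 0, 1]) (.leaf [3, 5, 1, 3, 1, 5, 3, 5])) (.node (.leaf [1, 0, 4, 0, 4, 5, 1, 5]) (.leaf [0, 1, 0, 1]))) (.node (.node (.leaf [4, 0, 4, 3, 1, 3, 0, 1]) (.leaf [1, 4, 2, 3, 2, 3, 2, 3, 4, 1, 4, 1, 2, 3, 2, 3, 2, 3, 1, 4, 0, 2, 3, 2, 3, 2, 3])) (.node (.leaf [1, 5, 3, 0, 3, 0, 5]) (.leaf [0, 1, 0, 1])))))) (.node (.node (.node (.node (.node (.leaf [0, 1, 3, 1, 3, 1, 0, 1]) (.leaf [0, 4, 0, 4])) (.node (.leaf [0, 4, 0, 1, 4, 1, 4, 1]) (.leaf [0, 1, 0, 1]))) (.node (.node (.leaf [1, 0, 2, 5, 1, 5, 2]) (.leaf [1, 3, 5, 3, 1, 3, 5, 3])) (.node (.leaf [1, 4,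 0, 4, 1, 2, 0, 2]) (.leaf [0, 1, 0, 1])))) (.node (.node (.node (.leaf [0, 1, 0, 5, 3, 1, 3, 5]) (.leaf [1, 3, 1, 3])) (.node (.leaf [1, 0, 2, 0, 2, 5, 1, 5]) (.leaf [0, 1, 0, 1]))) (.node (.node (.leaf [4, 1, 4, 1, 0, 4, 1, 0]) (.leaf [1, 5, 3, 5, 1, 5, 3, 5])) (.node (.leaf [4, 5, 4, 5, 2, 0, 5, 2]) (.leaf [0, 1, 0, 1]))))) (.node (.node (.node (.node (.leaf [0, 1, 0, 3, 1, 3]) (.leaf [0, 4, 1, 4, 0, 4, 1, 4])) (.node (.leaf [5, 1, 0, 1, 5, 0, 5, 0]) (.leaf [0, 1, 0, 1]))) (.node (.node (.leaf [0, 4, 0, 1, 3, 1, 3, 4]) (.leaf [4, 5, 3, 1, 4, 3, 4, 5])) (.node (.leaf [5, 0, 5, 0, 5, 2, 0, 2]) (.leaf [0, 1, 0, 1])))) (.node (.node (.node (.leaf [2, 1, 0, 1, 2, 1, 0, 1]) (.leaf [4, 5, 1, 3, 4, 3, 4, 5])) (.node (.leaf [1, 5, 1, 5, 0, 2, 0, 2]) (.leaf [0, 1, 0, 1]))) (.node (.node (.leaf [4, 0, 4, 5, 1, 5, 0, 1]) (.leaf [2, 3, 1, 4, 0, 2,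 3, 2, 3, 2, 3, 1, 4, 2, 3, 2, 3, 2, 3, 4, 1, 4, 1, 2, 3, 2, 3])) (.node (.leaf [1, 5, 0, 3, 1, 3, 0, 5]) (.leaf [0, 1, 0, 1]))))))) (.node (.node (.node (.node (.node (.node (.leaf [0, 1, 0, 4, 0, 4, 0, 1]) (.leaf [3, 0, 3, 1, 4, 0, 4])) (.node (.leaf [1, 4, 0, 1, 4, 1, 0, 4]) (.leaf [4, 1, 3, 2, 3, 2, 3, 2, 0, 4, 1, 3, 2, 3, 2, 3, 2, 1, 4, 1, 4, 3, 2, 3, 2, 3, 2]))) (.node (.node (.leaf [1, 5, 2, 0, 1, 2, 5]) (.leaf [3, 1, 5, 3, 5, 3, 1, 5])) (.node (.leaf [1, 5, 2, 1, 2, 0, 5]) (.leaf [0, 1, 0, 1])))) (.node (.node (.node (.leaf [0, 5, 0, 1, 0, 5, 0, 1]) (.leaf [1, 2, 1, 4, 2, 4, 2, 4])) (.node (.leaf [0, 2, 0, 1, 5, 1, 5, 2]) (.leaf [0, 1, 0, 1]))) (.node (.node (.leaf [0, 1, 4, 0, 1, 4, 1, 4]) (.leaf [4, 3, 4, 5, 4, 1, 5, 3])) (.node (.leaf [5, 4, 5, 4, 2, 5, 0, 2]) (.leaf [0, 1, 0, 1]))))) (.node (.node (.node (.node (.leaf [2, 0,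 1, 0, 2, 1, 0]) (.leaf [4, 0, 4, 1, 2, 1, 2])) (.node (.leaf [1, 0, 5, 0, 5, 1, 0, 5]) (.leaf [0, 1, 0, 1]))) (.node (.node (.leaf [1, 0, 3, 0, 3]) (.leaf [5, 4, 3, 4, 1, 3, 5, 4])) (.node (.leaf [2, 4, 2, 4, 2, 0, 4]) (.leaf [0, 1, 0, 1])))) (.node (.node (.node (.leaf [5, 2, 0, 2, 1, 0, 5, 1]) (.leaf [4, 3, 1, 3, 4, 1, 4, 1])) (.node (.leaf [0, 4, 0, 4, 0, 2, 0, 2]) (.leaf [0, 1, 0, 1]))) (.node (.node (.leaf [3, 4, 0, 4, 1, 0, 3, 1]) (.leaf [4, 1, 4, 1, 2, 3, 2, 3, 2, 3, 1, 4, 0, 2, 3, 2, 3, 2, 3, 1, 4, 2, 3, 2, 3, 2, 3])) (.node (.leaf [1, 3, 0, 3, 1, 3, 0, 3]) (.leaf [0, 1, 0, 1])))))) (.node (.node (.node (.node (.node (.leaf [0, 1, 5, 1, 5, 1, 0, 1]) (.leaf [1, 5, 0, 4, 0, 4, 1, 5])) (.node (.leaf [4, 1, 0, 1, 4, 2, 0, 2]) (.leaf [0, 1, 0, 1]))) (.node (.node (.leaf [1, 0, 1, 3, 0, 1, 3]) (.leaf [1, 5, 3, 5, 1, 3, 5, 3])) (.node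 (.leaf [4, 0, 4, 2, 0, 2]) (.leaf [0, 1, 0, 1])))) (.node (.node (.node (.leaf [0, 1, 2, 0, 2, 1]) (.leaf [1, 5, 1, 3, 1, 3, 1, 5])) (.node (.leaf [0, 4, 0, 1, 5, 1, 5, 4]) (.leaf [0, 1, 0, 1]))) (.node (.node (.leaf [0, 1, 4, 0, 4, 1]) (.leaf [3, 5, 3, 5, 3, 5])) (.node (.leaf [0, 3, 0, 3, 5, 1, 5]) (.leaf [0, 1, 0, 1]))))) (.node (.node (.node (.node (.leaf [0, 3, 5, 1, 5, 3, 0, 1]) (.leaf [0, 4, 5, 0, 5, 0, 5, 4])) (.node (.leaf [0, 5, 0, 1, 5, 0, 5, 1]) (.leaf [0, 1, 0, 1]))) (.node (.node (.leaf [1, 0, 4, 0, 4, 3, 1, 3]) (.leaf [1, 4, 5, 1, 5, 4, 1, 4])) (.node (.leaf [5, 2, 4, 5, 4, 5, 0, 2]) (.leaf [0, 1, 0, 1])))) (.node (.node (.node (.leaf [1, 2, 1, 0, 2]) (.leaf [3, 1, 5, 4, 5, 4, 3, 4])) (.node (.leaf [2, 0, 2, 0, 5, 1, 5, 1]) (.leaf [0, 1, 0, 1]))) (.node (.node (.leaf [5, 4, 0, 4, 1, 0, 5, 1]) (.leaf [3, 2, 3, 2, 3, 2, 1,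 4, 1, 4, 3, 2, 3, 2, 3, 2, 4, 1, 3, 2, 3, 2, 3, 2, 0, 4, 1])) (.node (.leaf [0, 4, 0, 3, 1, 3, 1, 4]) (.leaf [0, 1, 0, 1]))))))))) (.node (.node (.node (.node (.node (.node (.node (.node (.leaf [0, 1, 0, 1, 0, 2, 0, 2]) (.leaf [3, 1, 3, 0, 4, 0, 4, 1])) (.node (.leaf [0, 1, 4, 1, 0, 1, 4, 1]) (.leaf [1, 4, 1, 4, 3, 2, 3, 2, 3, 2, 4, 1, 3, 2, 3, 2, 3, 2, 0, 4, 1, 3, 2, 3, 2, 3, 2]))) (.node (.node (.leaf [2, 4, 0, 4, 2, 1, 0, 1]) (.leaf [3, 5, 3, 5, 1, 3, 5, 1])) (.node (.leaf [1, 2, 0, 2, 1, 2, 0, 2]) (.leaf [0, 1, 0, 1])))) (.node (.node (.node (.leaf [0, 1, 0, 4, 1, 4, 1, 4]) (.leaf [5, 4, 0, 4, 5, 0, 5, 0])) (.node (.leaf [0, 5, 0, 5, 0, 1, 5, 1]) (.leaf [0, 1, 0, 1]))) (.node (.node (.leaf [0, 4, 3, 0, 1, 3, 4]) (.leaf [1, 4, 5, 4, 3, 4, 3, 5])) (.node (.leaf [5, 4, 5, 4, 2, 5, 2, 0]) (.leaf [0, 1, 0, 1]))))) (.node (.node (.node (.node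 (.leaf [0, 1, 0, 2, 0, 1, 2]) (.leaf [4, 0, 4, 0, 5, 1, 5, 1])) (.node (.leaf [1, 5, 0, 5, 0, 1, 5, 0]) (.leaf [0, 1, 0, 1]))) (.node (.node (.leaf [1, 0, 1, 3, 1, 0, 3]) (.leaf [5, 3, 5, 3, 1, 5, 1, 3])) (.node (.leaf [4, 2, 0, 2, 4, 2, 0, 2]) (.leaf [0, 1, 0, 1])))) (.node (.node (.node (.leaf [0, 1, 2, 0, 2, 5, 1, 5]) (.leaf [3, 5, 3, 5, 1, 3, 1, 5])) (.node (.leaf [1, 5, 1, 0, 4, 0, 4, 5]) (.leaf [0, 1, 0, 1]))) (.node (.node (.leaf [0, 1, 4, 0, 4, 3, 1, 3]) (.leaf [2, 3, 1, 4, 2, 3, 2, 3, 2, 3, 4, 1, 4, 1, 2, 3, 2, 3, 2, 3, 1, 4, 0, 2, 3, 2, 3])) (.node (.leaf [5, 0, 3, 0, 3, 5, 1]) (.leaf [0, 1, 0, 1])))))) (.node (.node (.node (.node (.node (.leaf [0, 1, 0, 1, 3, 1, 3, 1]) (.leaf [3, 0, 3, 4, 0, 4, 1])) (.node (.leaf [4, 1, 0, 4, 0, 1, 4, 1]) (.leaf [3, 2, 0, 4, 1, 3, 2, 3, 2, 3, 2, 1, 4, 1, 4, 3, 2, 3, 2, 3, 2, 4, 1, 3, 2, 3, 2])))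 (.node (.node (.leaf [5, 2, 1, 0, 2, 5, 1]) (.leaf [5, 3, 1, 3, 5, 1])) (.node (.leaf [0, 2, 1, 4, 0, 4, 1, 2]) (.leaf [0, 1, 0, 1])))) (.node (.node (.node (.leaf [1, 5, 0, 1, 0, 5]) (.leaf [2, 4, 1, 2, 1, 4, 2, 4])) (.node (.leaf [1, 5, 1, 0, 2, 0, 2, 5]) (.leaf [0, 1, 0, 1]))) (.node (.node (.leaf [1, 4, 0, 1, 4, 0, 1, 4]) (.leaf [1, 5, 1, 5])) (.node (.leaf [5, 2, 4, 5, 4, 5, 2, 0]) (.leaf [0, 1, 0, 1]))))) (.node (.node (.node (.node (.leaf [0, 3, 0, 1, 0, 3, 0, 1]) (.leaf [4, 0, 4, 2, 1, 2, 1])) (.node (.leaf [5, 0, 5, 1, 0, 1, 5, 0]) (.leaf [0, 1, 0, 1]))) (.node (.node (.leaf [3, 4, 0, 4, 0, 1, 3, 1]) (.leaf [4, 5, 4, 5, 3, 1, 4, 3])) (.node (.leaf [0, 2, 5, 0, 5, 0, 5, 2]) (.leaf [0, 1, 0, 1])))) (.node (.node (.node (.leaf [0, 1, 2, 1, 0, 1, 2, 1]) (.leaf [4, 5, 4, 5, 1, 3, 4, 3])) (.node (.leaf [0, 2, 1, 5, 1, 5, 0, 2]) (.leaf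 [0, 1, 0, 1]))) (.node (.node (.leaf [0, 1, 4, 0, 4, 5, 1, 5]) (.leaf [2, 3, 2, 3, 1, 4, 0, 2, 3, 2, 3, 2, 3, 1, 4, 2, 3, 2, 3, 2, 3, 4, 1, 4, 1, 2, 3])) (.node (.leaf [0, 5, 1, 5, 0, 3, 1, 3]) (.leaf [0, 1, 0, 1]))))))) (.node (.node (.node (.node (.node (.node (.leaf [0, 1, 0, 1, 0, 4, 0, 4]) (.leaf [0, 4, 3, 0, 3, 1, 4])) (.node (.leaf [0, 4, 1, 4, 0, 1, 4, 1]) (.leaf [3, 2, 4, 1, 3, 2, 3, 2, 3, 2, 0, 4, 1, 3, 2, 3, 2, 3, 2, 1, 4, 1, 4, 3, 2, 3, 2]))) (.node (.node (.leaf [2, 5, 1, 5, 2, 0, 1]) (.leaf [1, 5, 3, 1, 5, 3, 5, 3])) (.node (.leaf [5, 0, 2, 1, 2, 5, 1]) (.leaf [0, 1, 0, 1])))) (.node (.node (.node (.leaf [0, 1, 0, 5, 0, 1, 0, 5]) (.leaf [1, 2, 1, 2, 1, 2, 1, 2])) (.node (.leaf [5, 2, 0, 2, 0, 1, 5, 1]) (.leaf [0, 1, 0, 1]))) (.node (.node (.leaf [1, 0, 3, 4, 0, 4, 3]) (.leaf [5, 3, 4, 3, 4, 5, 4, 1])) (.node (.leaf [0, 2,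 5, 4, 5, 4, 2, 5]) (.leaf [0, 1, 0, 1]))))) (.node (.node (.node (.node (.leaf [1, 0, 2, 0, 1, 0, 2]) (.leaf [1, 2, 4, 0, 4, 1, 2])) (.node (.leaf [0, 5, 1, 0, 5, 0, 5, 1]) (.leaf [0, 1, 0, 1]))) (.node (.node (.leaf [0, 3, 1, 0, 3]) (.leaf [5, 4, 5, 4, 3, 4, 1, 3])) (.node (.leaf [4, 0, 2, 4, 2, 4, 2]) (.leaf [0, 1, 0, 1])))) (.node (.node (.node (.leaf [5, 1, 5, 2, 0, 2, 1, 0]) (.leaf [4, 1, 4, 3, 1, 3, 4, 1])) (.node (.leaf [0, 2, 0, 4, 0, 4, 0, 2]) (.leaf [0, 1, 0, 1]))) (.node (.node (.leaf [3, 1, 3, 4, 0, 4, 1, 0]) (.leaf [2, 3, 4, 1, 4, 1, 2, 3, 2, 3, 2, 3, 1, 4, 0, 2, 3, 2, 3, 2, 3, 1, 4, 2, 3, 2, 3])) (.node (.leaf [0, 3, 1, 3, 0, 3, 1, 3]) (.leaf [0, 1, 0, 1])))))) (.node (.node (.node (.node (.node (.leaf [0, 1, 0, 1, 5, 1, 5, 1]) (.leaf [1, 5, 1, 5, 0, 4, 0, 4])) (.node (.leaf [0, 2, 4, 1, 0, 1, 4, 2]) (.leaf [0, 1, 0, 1])))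 (.node (.node (.leaf [1, 3, 1, 0, 1, 3, 0]) (.leaf [5, 3, 1, 5, 3, 5, 1, 3])) (.node (.leaf [0, 2, 4, 0, 4, 2]) (.leaf [0, 1, 0, 1])))) (.node (.node (.node (.leaf [3, 5, 0, 1, 0, 5, 3, 1]) (.leaf [1, 5, 1, 5, 1, 3, 1, 3])) (.node (.leaf [5, 4, 0, 4, 0, 1, 5, 1]) (.leaf [0, 1, 0, 1]))) (.node (.node (.leaf [1, 0, 4, 1, 4, 1, 0, 4]) (.leaf [5, 4, 2, 4, 5, 4, 2, 4])) (.node (.leaf [0, 3, 0, 3, 0, 3, 0, 3]) (.leaf [0, 1, 0, 1]))))) (.node (.node (.node (.node (.leaf [0, 1, 0, 3, 5, 1, 5, 3]) (.leaf [2, 4, 0, 4, 2, 4, 0, 4])) (.node (.leaf [5, 1, 0, 5, 0, 1, 5, 0]) (.leaf [0, 1, 0, 1]))) (.node (.node (.leaf [1, 3, 1, 0, 4, 0, 4, 3]) (.leaf [1, 4, 1, 4, 5, 1, 5, 4])) (.node (.leaf [0, 2, 5, 2, 4, 5, 4, 5]) (.leaf [0, 1, 0, 1])))) (.node (.node (.node (.leaf [2, 0, 1, 2, 1]) (.leaf [3, 4, 3, 1, 5, 4, 5, 4])) (.node (.leaf [5, 1, 2, 0, 2, 0,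 5, 1]) (.leaf [0, 1, 0, 1]))) (.node (.node (.leaf [5, 1, 5, 4, 0, 4, 1, 0]) (.leaf [4, 1, 3, 2, 3, 2, 3, 2, 1, 4, 1, 4, 3, 2, 3, 2, 3, 2, 4, 1, 3, 2, 3, 2, 3, 2, 0])) (.node (.leaf [1, 4, 0, 4, 0, 3, 1, 3]) (.leaf [0, 1, 0, 1])))))))) (.node (.node (.node (.node (.node (.node (.node (.leaf [0, 2, 0, 2, 0, 1, 0, 1]) (.leaf [0, 3, 1, 4, 0, 4, 3])) (.node (.leaf [0, 1, 4, 1, 0, 4, 1, 4]) (.leaf [3, 2, 3, 2, 3, 2, 4, 1, 3, 2, 3, 2, 3, 2, 0, 4, 1, 3, 2, 3, 2, 3, 2, 1, 4, 1, 4]))) (.node (.node (.leaf [2, 1, 0, 1, 2, 4, 0, 4]) (.leaf [5, 3, 5, 3, 1, 5, 3, 1])) (.node (.leaf [1, 2, 5, 1, 5, 0, 2]) (.leaf [0, 1, 0, 1])))) (.node (.node (.node (.leaf [1, 4, 1, 4, 0, 1, 0, 4]) (.leaf [0, 5, 1, 5, 0, 5, 1, 5])) (.node (.leaf [0, 1, 5, 1, 5, 2, 0, 2]) (.leaf [0, 1, 0, 1]))) (.node (.node (.leaf [4, 0, 4, 3, 1, 0, 3]) (.leaf [3, 4, 3, 5, 1, 4, 5,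 4])) (.node (.leaf [2, 5, 2, 0, 5, 4, 5, 4]) (.leaf [0, 1, 0, 1]))))) (.node (.node (.node (.node (.leaf [0, 1, 2, 0, 1, 0, 2]) (.leaf [0, 4, 1, 2, 1, 2, 4])) (.node (.leaf [5, 0, 5, 1, 0, 5, 1, 0]) (.leaf [0, 1, 0, 1]))) (.node (.node (.leaf [3, 0, 3, 0, 1]) (.leaf [1, 5, 1, 3, 5, 3, 5, 3])) (.node (.leaf [4, 2, 4, 2, 4, 0, 2]) (.leaf [0, 1, 0, 1])))) (.node (.node (.node (.leaf [2, 5, 1, 5, 0, 1, 2, 0]) (.leaf [1, 3, 4, 1, 4, 1, 4, 3])) (.node (.leaf [0, 2, 0, 2]) (.leaf [0, 1, 0, 1]))) (.node (.node (.leaf [4, 3, 1, 3, 0, 1, 4, 0]) (.leaf [2, 3, 2, 3, 2, 3, 4, 1, 4, 1, 2, 3, 2, 3, 2, 3, 1, 4, 0, 2, 3, 2, 3, 2, 3, 1, 4])) (.node (.leaf [3, 0, 3, 0, 5, 1, 5]) (.leaf [0, 1, 0, 1])))))) (.node (.node (.node (.node (.node (.leaf [3, 1, 3, 1, 0, 1, 0, 1]) (.leaf [0, 4, 0, 4, 1, 5, 1, 5])) (.node (.leaf [0, 1, 4, 2, 0, 2, 4, 1]) (.leaf [0,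 1, 0, 1]))) (.node (.node (.leaf [0, 1, 3, 0, 1, 3, 1]) (.leaf [5, 3, 1, 3, 5, 3, 1, 3])) (.node (.leaf [0, 4, 1, 2, 0, 2, 1, 4]) (.leaf [0, 1, 0, 1])))) (.node (.node (.node (.leaf [0, 5, 3, 1, 3, 5, 0, 1]) (.leaf [1, 3, 1, 3, 1, 5, 1, 5])) (.node (.leaf [0, 1, 5, 1, 5, 4, 0, 4]) (.leaf [0, 1, 0, 1]))) (.node (.node (.leaf [4, 1, 0, 4, 1, 0, 4, 1]) (.leaf [3, 5, 1, 5, 3, 5, 1, 5])) (.node (.leaf [4, 5, 2, 0, 5, 2, 4, 5]) (.leaf [0, 1, 0, 1]))))) (.node (.node (.node (.node (.leaf [0, 3, 1, 3, 0, 1]) (.leaf [1, 4, 0, 4, 1, 4, 0, 4])) (.node (.leaf [0, 1, 5, 0, 5, 1, 0, 5]) (.leaf [0, 1, 0, 1]))) (.node (.node (.leaf [4, 0, 4, 3, 1, 3, 1, 0]) (.leaf [3, 1, 4, 3, 4, 5, 4, 5])) (.node (.leaf [5, 0, 5, 2, 0, 2, 5, 0]) (.leaf [0, 1, 0, 1])))) (.node (.node (.node (.leaf [0, 1, 2, 1, 2]) (.leaf [5, 4, 5, 4, 3, 4, 3, 1])) (.node (.leaf [1, 5,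 0, 2, 0, 2, 1, 5]) (.leaf [0, 1, 0, 1]))) (.node (.node (.leaf [4, 5, 1, 5, 0, 1, 4, 0]) (.leaf [1, 4, 0, 2, 3, 2, 3, 2, 3, 1, 4, 2, 3, 2, 3, 2, 3, 4, 1, 4, 1, 2, 3, 2, 3, 2, 3])) (.node (.leaf [0, 3, 1, 3, 1, 4, 0, 4]) (.leaf [0, 1, 0, 1]))))))) (.node (.node (.node (.node (.node (.node (.leaf [0, 4, 0, 4, 0, 1, 0, 1]) (.leaf [4, 0, 4, 1, 3, 0, 3])) (.node (.leaf [0, 1, 4, 1, 4, 1, 0, 4]) (.leaf [3, 2, 3, 2, 3, 2, 0, 4, 1, 3, 2, 3, 2, 3, 2, 1, 4, 1, 4, 3, 2, 3, 2, 3, 2, 4, 1]))) (.node (.node (.leaf [2, 0, 1, 2, 5, 1, 5]) (.leaf [1, 3, 5, 1, 5, 3])) (.node (.leaf [2, 1, 2, 0, 5, 1, 5]) (.leaf [0, 1, 0, 1])))) (.node (.node (.node (.leaf [0, 1, 0, 5, 1, 5]) (.leaf [1, 4, 2, 4, 2, 4, 1, 2])) (.node (.leaf [2, 0, 2, 5, 1, 5, 1, 0]) (.leaf [0, 1, 0, 1]))) (.node (.node (.leaf [4, 0, 1, 4, 1, 4, 0, 1]) (.leaf [4, 5, 4, 1, 5, 3, 4, 3])) (.node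 (.leaf [5, 4, 2, 5, 0, 2, 5, 4]) (.leaf [0, 1, 0, 1]))))) (.node (.node (.node (.node (.leaf [1, 0, 2, 1, 0, 2, 0]) (.leaf [2, 1, 2, 1, 4, 0, 4])) (.node (.leaf [0, 1, 5, 0, 5, 0, 5, 1]) (.leaf [0, 1, 0, 1]))) (.node (.node (.leaf [0, 1, 3, 1, 3, 4, 0, 4]) (.leaf [3, 4, 1, 3, 5, 4, 5, 4])) (.node (.leaf [2, 4, 2, 0, 4, 2, 4]) (.leaf [0, 1, 0, 1])))) (.node (.node (.node (.leaf [0, 2, 1, 0, 5, 1, 5, 2]) (.leaf [1, 3, 4, 3, 4, 5, 4, 5])) (.node (.leaf [0, 4, 0, 2, 0, 2, 0, 4]) (.leaf [0, 1, 0, 1]))) (.node (.node (.leaf [0, 4, 1, 0, 3, 1, 3, 4]) (.leaf [4, 1, 2, 3, 2, 3, 2, 3, 1, 4, 0, 2, 3, 2, 3, 2, 3, 1, 4, 2, 3, 2, 3, 2, 3, 4, 1])) (.node (.leaf [0, 3, 1, 3, 0, 5, 1, 5]) (.leaf [0, 1, 0, 1])))))) (.node (.node (.node (.node (.node (.leaf [5, 1, 5, 1, 0, 1, 0, 1]) (.leaf [5, 1, 5, 1, 4, 0, 4, 0])) (.node (.leaf [0, 1, 5, 0, 1, 5, 0, 5])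 (.leaf [0, 1, 0, 1]))) (.node (.node (.leaf [3, 1, 0, 3, 1, 0, 1]) (.leaf [3, 5, 1, 3, 5, 3, 1, 5])) (.node (.leaf [4, 2, 0, 2, 4, 0]) (.leaf [0, 1, 0, 1])))) (.node (.node (.node (.leaf [2, 0, 2, 1, 0, 1]) (.leaf [1, 3, 1, 5, 3, 5, 3, 5])) (.node (.leaf [4, 0, 4, 5, 1, 5, 1, 0]) (.leaf [0, 1, 0, 1]))) (.node (.node (.leaf [4, 0, 4, 1, 0, 1]) (.leaf [2, 3, 2, 3, 2, 3, 1, 4, 2, 3, 2, 3, 2, 3, 4, 1, 4, 1, 2, 3, 2, 3, 2, 3, 1, 4, 0])) (.node (.leaf [0, 3, 5, 1, 5, 0, 3]) (.leaf [0, 1, 0, 1]))))) (.node (.node (.node (.node (.leaf [5, 1, 5, 3, 0, 1, 0, 3]) (.leaf [5, 0, 5, 0, 5, 4, 0, 4])) (.node (.leaf [0, 1, 5, 1, 0, 5, 0, 5]) (.leaf [0, 1, 0, 1]))) (.node (.node (.leaf [0, 1, 3, 4, 0, 4, 3]) (.leaf [5, 1, 5, 4, 1, 4, 1, 4])) (.node (.leaf [4, 5, 4, 5, 0, 2, 5, 2]) (.leaf [0, 1, 0, 1])))) (.node (.node (.node (.leaf [1, 0, 2, 1, 2]) (.leaf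 [1, 3, 5, 1, 3, 5, 3, 5])) (.node (.leaf [2, 0, 5, 1, 5, 1, 2, 0]) (.leaf [0, 1, 0, 1]))) (.node (.node (.leaf [0, 4, 1, 0, 5, 1, 5, 4]) (.leaf [3, 2, 3, 2, 1, 4, 1, 4, 3, 2, 3, 2, 3, 2, 4, 1, 3, 2, 3, 2, 3, 2, 0, 4, 1, 3, 2])) (.node (.leaf [4, 0, 4, 1, 3, 1, 3, 0]) (.leaf [0, 1, 0, 1])))))))))) (.node (.node (.node (.node (.node (.node (.node (.node (.node (.leaf [1, 0, 1, 0]) (.leaf [1, 3, 1, 3, 0, 4, 0, 4])) (.node (.leaf [0, 5, 1, 5, 4, 0, 4, 1]) (.leaf [2, 1, 4, 1, 4, 3, 2, 3, 2, 3, 2, 4, 1, 3, 2, 3, 2, 3, 2, 0, 4, 1, 3, 2, 3, 2, 3]))) (.node (.node (.leaf [1, 2, 4, 0, 4, 2, 1, 0]) (.leaf [1, 3, 5, 3, 5, 1, 3, 5])) (.node (.leaf [2, 1, 2, 0, 2, 1, 2, 0]) (.leaf [0, 1, 0, 1])))) (.node (.node (.node (.leaf [3, 0, 1, 0, 3, 5, 1, 5]) (.leaf [0, 5, 4, 0, 4, 5, 0, 5])) (.node (.leaf [1, 0, 5, 0, 5, 0, 1, 5]) (.leaf [0, 1, 0, 1]))) (.node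 (.node (.leaf [4, 0, 4, 3, 0, 1, 3]) (.leaf [4, 1, 4, 1, 4, 5, 1, 5])) (.node (.leaf [5, 0, 2, 5, 2, 4, 5, 4]) (.leaf [0, 1, 0, 1]))))) (.node (.node (.node (.node (.leaf [1, 0, 1, 0, 1, 5, 1, 5]) (.leaf [1, 4, 0, 4, 0, 5, 1, 5])) (.node (.leaf [0, 1, 5, 0, 5, 0, 1, 5]) (.leaf [0, 1, 0, 1]))) (.node (.node (.leaf [3, 1, 0, 1, 3, 1, 0]) (.leaf [3, 5, 3, 5, 3, 1, 5, 1])) (.node (.leaf [2, 4, 2, 0, 2, 4, 2, 0]) (.leaf [0, 1, 0, 1])))) (.node (.node (.node (.leaf [1, 0, 1, 2, 0, 2]) (.leaf [5, 3, 5, 3, 5, 1, 3, 1])) (.node (.leaf [5, 1, 5, 1, 0, 4, 0, 4]) (.leaf [0, 1, 0, 1]))) (.node (.node (.leaf [1, 0, 1, 4, 0, 4]) (.leaf [3, 2, 3, 1, 4, 2, 3, 2, 3, 2, 3, 4, 1, 4, 1, 2, 3, 2, 3, 2, 3, 1, 4, 0, 2, 3, 2])) (.node (.leaf [1, 5, 0, 3, 0, 3, 5]) (.leaf [0, 1, 0, 1])))))) (.node (.node (.node (.node (.node (.leaf [4, 0, 1, 0, 1, 0, 4, 0]) (.leaf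 [1, 3, 0, 3, 4, 0, 4])) (.node (.leaf [1, 4, 1, 0, 4, 0, 1, 4]) (.leaf [2, 3, 2, 0, 4, 1, 3, 2, 3, 2, 3, 2, 1, 4, 1, 4, 3, 2, 3, 2, 3, 2, 4, 1, 3, 2, 3]))) (.node (.node (.leaf [1, 5, 2, 1, 0, 2, 5]) (.leaf [1, 5, 3, 1, 3, 5])) (.node (.leaf [0, 5, 1, 5, 2, 1, 2]) (.leaf [0, 1, 0, 1])))) (.node (.node (.node (.leaf [5, 1, 5, 0, 1, 0]) (.leaf [4, 2, 4, 1, 2, 1, 4, 2])) (.node (.leaf [5, 1, 5, 1, 0, 2, 0, 2]) (.leaf [0, 1, 0, 1]))) (.node (.node (.leaf [4, 1, 4, 0, 1, 4, 0, 1]) (.leaf [1, 5, 3, 4, 3, 4, 5, 4])) (.node (.leaf [5, 0, 2, 5, 4, 5, 4, 2]) (.leaf [0, 1, 0, 1]))))) (.node (.node (.node (.node (.leaf [1, 0, 3, 0, 1, 0, 3, 0]) (.leaf [1, 4, 0, 4, 2, 1, 2])) (.node (.leaf [0, 5, 0, 5, 1, 0, 1, 5]) (.leaf [0, 1, 0, 1]))) (.node (.node (.leaf [1, 3, 4, 0, 4, 0, 1, 3]) (.leaf [3, 4, 5, 4, 5, 3, 1, 4])) (.node (.leaf [0, 4, 2, 4, 2, 4,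 2]) (.leaf [0, 1, 0, 1])))) (.node (.node (.node (.leaf [0, 5, 1, 5, 2, 0, 2, 1]) (.leaf [3, 4, 5, 4, 5, 1, 3, 4])) (.node (.leaf [2, 0, 2, 1, 5, 1, 5, 0]) (.leaf [0, 1, 0, 1]))) (.node (.node (.leaf [0, 3, 1, 3, 4, 0, 4, 1]) (.leaf [3, 2, 3, 2, 3, 1, 4, 0, 2, 3, 2, 3, 2, 3, 1, 4, 2, 3, 2, 3, 2, 3, 4, 1, 4, 1, 2])) (.node (.leaf [3, 0, 5, 1, 5, 0, 3, 1]) (.leaf [0, 1, 0, 1]))))))) (.node (.node (.node (.node (.node (.node (.leaf [2, 0, 1, 0, 1, 0, 2, 0]) (.leaf [4, 0, 4, 3, 0, 3, 1])) (.node (.leaf [1, 0, 4, 1, 4, 0, 1, 4]) (.leaf [2, 3, 2, 4, 1, 3, 2, 3, 2, 3, 2, 0, 4, 1, 3, 2, 3, 2, 3, 2, 1, 4, 1, 4, 3, 2, 3]))) (.node (.node (.leaf [1, 2, 5, 1, 5, 2, 0]) (.leaf [3, 1, 5, 3, 1, 5, 3, 5])) (.node (.leaf [1, 5, 0, 2, 1, 2, 5]) (.leaf [0, 1, 0, 1])))) (.node (.node (.node (.leaf [4, 0, 1, 0, 4, 1, 4, 1]) (.leaf [5, 0, 5, 1, 5, 0, 5, 1]))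 (.node (.leaf [1, 5, 2, 0, 2, 0, 1, 5]) (.leaf [0, 1, 0, 1]))) (.node (.node (.leaf [3, 1, 0, 3, 4, 0, 4]) (.leaf [5, 1, 4, 5, 4, 3, 4, 3])) (.node (.leaf [0, 5, 4, 5, 4, 2, 5, 2]) (.leaf [0, 1, 0, 1]))))) (.node (.node (.node (.node (.leaf [2, 1, 0, 2, 0, 1, 0]) (.leaf [2, 1, 2, 4, 0, 4, 1])) (.node (.leaf [1, 0, 5, 1, 0, 5, 0, 5]) (.leaf [0, 1, 0, 1]))) (.node (.node (.leaf [3, 0, 3, 1, 0]) (.leaf [3, 5, 4, 5, 4, 3, 4, 1])) (.node (.leaf [2, 4, 0, 2, 4, 2, 4]) (.leaf [0, 1, 0, 1])))) (.node (.node (.node (.leaf [5, 0, 1, 2, 0, 2, 5, 1]) (.leaf [1, 4, 1, 4, 3, 1, 3, 4])) (.node (.leaf [2, 0, 2, 0, 4, 0, 4, 0]) (.leaf [0, 1, 0, 1]))) (.node (.node (.leaf [3, 0, 1, 4, 0, 4, 3, 1]) (.leaf [3, 2, 3, 4, 1, 4, 1, 2, 3, 2, 3, 2, 3, 1, 4, 0, 2, 3, 2, 3, 2, 3, 1, 4, 2, 3, 2])) (.node (.leaf [0, 5, 1, 5, 3, 0, 3]) (.leaf [0, 1, 0, 1])))))) (.node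 (.node (.node (.node (.node (.leaf [1, 0, 1, 0, 1, 3, 1, 3]) (.leaf [4, 1, 5, 1, 5, 0, 4, 0])) (.node (.leaf [2, 0, 2, 4, 1, 0, 1, 4]) (.leaf [0, 1, 0, 1]))) (.node (.node (.leaf [0, 1, 3, 1, 0, 1, 3]) (.leaf [3, 5, 3, 1, 5, 3, 5, 1])) (.node (.leaf [2, 0, 2, 1, 4, 0, 4, 1]) (.leaf [0, 1, 0, 1])))) (.node (.node (.node (.leaf [1, 3, 5, 0, 1, 0, 5, 3]) (.leaf [3, 1, 5, 1, 5, 1, 3, 1])) (.node (.leaf [1, 5, 4, 0, 4, 0, 1, 5]) (.leaf [0, 1, 0, 1]))) (.node (.node (.leaf [4, 1, 0, 4, 1, 4, 1, 0]) (.leaf [4, 5, 4, 2, 4, 5, 4, 2])) (.node (.leaf [0, 5, 2, 4, 5, 4, 5, 2]) (.leaf [0, 1, 0, 1]))))) (.node (.node (.node (.node (.leaf [3, 0, 1, 0, 3, 1]) (.leaf [4, 2, 4, 0, 4, 2, 4, 0])) (.node (.leaf [0, 5, 1, 0, 5, 0, 1, 5]) (.leaf [0, 1, 0, 1]))) (.node (.node (.leaf [3, 1, 3, 1, 0, 4, 0, 4]) (.leaf [4, 1, 4, 1, 4, 1])) (.node (.leaf [2, 0, 2,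 5, 0, 5, 0, 5]) (.leaf [0, 1, 0, 1])))) (.node (.node (.node (.leaf [1, 2, 0, 1, 2]) (.leaf [4, 3, 4, 3, 1, 5, 4, 5])) (.node (.leaf [1, 5, 1, 2, 0, 2, 0, 5]) (.leaf [0, 1, 0, 1]))) (.node (.node (.leaf [5, 0, 1, 4, 0, 4, 5, 1]) (.leaf [0, 4, 1, 3, 2, 3, 2, 3, 2, 1, 4, 1, 4, 3, 2, 3, 2, 3, 2, 4, 1, 3, 2, 3, 2, 3, 2])) (.node (.leaf [3, 1, 4, 0, 4, 0, 3, 1]) (.leaf [0, 1, 0, 1])))))))) (.node (.node (.node (.node (.node (.node (.node (.leaf [1, 0, 2, 0, 2, 0, 1, 0]) (.leaf [0, 4, 0, 4, 1, 3, 1, 3])) (.node (.leaf [1, 0, 1, 4, 1, 0, 1, 4]) (.leaf [4, 3, 2, 3, 2, 3, 2, 4, 1, 3, 2, 3, 2, 3, 2, 0, 4, 1, 3, 2, 3, 2, 3, 2, 1, 4, 1]))) (.node (.node (.leaf [4, 2, 1, 0, 1, 2, 4, 0]) (.leaf [5, 1, 3, 5, 1, 3, 5, 3])) (.node (.leaf [2, 1, 2, 5, 1, 5, 0]) (.leaf [0, 1, 0, 1])))) (.node (.node (.node (.leaf [4, 1, 4, 1, 4, 0, 1, 0]) (.leaf [5, 0, 5,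 0, 5, 0])) (.node (.leaf [5, 0, 1, 5, 1, 0, 5, 0]) (.leaf [0, 1, 0, 1]))) (.node (.node (.leaf [3, 4, 0, 4, 3, 1, 0]) (.leaf [4, 3, 4, 3, 5, 1, 4, 5])) (.node (.leaf [4, 2, 5, 2, 0, 5, 4, 5]) (.leaf [0, 1, 0, 1]))))) (.node (.node (.node (.node (.leaf [2, 0, 1, 2, 0, 1, 0]) (.leaf [0, 5, 1, 5, 1, 4, 0, 4])) (.node (.leaf [5, 0, 1, 5, 0, 1, 5, 0]) (.leaf [0, 1, 0, 1]))) (.node (.node (.leaf [1, 3, 0, 3, 0]) (.leaf [3, 1, 5, 1, 3, 5, 3, 5])) (.node (.leaf [2, 4, 2, 4, 2, 4, 0]) (.leaf [0, 1, 0, 1])))) (.node (.node (.node (.leaf [0, 2, 5, 1, 5, 0, 1, 2]) (.leaf [5, 1, 3, 1, 5, 3, 5, 3])) (.node (.leaf [0, 4, 0, 4, 5, 1, 5, 1]) (.leaf [0, 1, 0, 1]))) (.node (.node (.leaf [0, 4, 3, 1, 3, 0, 1, 4]) (.leaf [4, 2, 3, 2, 3, 2, 3, 4, 1, 4, 1, 2, 3, 2, 3, 2, 3, 1, 4, 0, 2, 3, 2, 3, 2, 3, 1])) (.node (.leaf [5, 3, 0, 3, 0, 5, 1]) (.leaf [0, 1, 0,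 1])))))) (.node (.node (.node (.node (.node (.leaf [1, 3, 1, 3, 1, 0, 1, 0]) (.leaf [4, 0, 4, 0])) (.node (.leaf [4, 0, 1, 4, 1, 4, 1, 0]) (.leaf [0, 1, 0, 1]))) (.node (.node (.leaf [0, 2, 5, 1, 5, 2, 1]) (.leaf [3, 5, 3, 1, 3, 5, 3, 1])) (.node (.leaf [4, 0, 4, 1, 2, 0, 2, 1]) (.leaf [0, 1, 0, 1])))) (.node (.node (.node (.leaf [1, 0, 5, 3, 1, 3, 5, 0]) (.leaf [3, 1, 3, 1])) (.node (.leaf [0, 2, 0, 2, 5, 1, 5, 1]) (.leaf [0, 1, 0, 1]))) (.node (.node (.leaf [1, 4, 1, 0, 4, 1, 0, 4]) (.leaf [5, 3, 5, 1, 5, 3, 5, 1])) (.node (.leaf [5, 4, 5, 2, 0, 5, 2, 4]) (.leaf [0, 1, 0, 1]))))) (.node (.node (.node (.node (.leaf [1, 0, 3, 1, 3, 0]) (.leaf [4, 1, 4, 0, 4, 1, 4, 0])) (.node (.leaf [1, 0, 1, 5, 0, 5, 0, 5]) (.leaf [0, 1, 0, 1]))) (.node (.node (.leaf [4, 0, 1, 3, 1, 3, 4, 0]) (.leaf [5, 3, 1, 4, 3, 4, 5, 4])) (.node (.leaf [0, 5, 0, 5,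 2, 0, 2, 5]) (.leaf [0, 1, 0, 1])))) (.node (.node (.node (.leaf [1, 0, 1, 2, 1, 0, 1, 2]) (.leaf [5, 1, 3, 4, 3, 4, 5, 4])) (.node (.leaf [5, 1, 5, 0, 2, 0, 2, 1]) (.leaf [0, 1, 0, 1]))) (.node (.node (.leaf [0, 4, 5, 1, 5, 0, 1, 4]) (.leaf [3, 1, 4, 0, 2, 3, 2, 3, 2, 3, 1, 4, 2, 3, 2, 3, 2, 3, 4, 1, 4, 1, 2, 3, 2, 3, 2])) (.node (.leaf [5, 0, 3, 1, 3, 0, 5, 1]) (.leaf [0, 1, 0, 1]))))))) (.node (.node (.node (.node (.node (.node (.leaf [1, 0, 4, 0, 4, 0, 1, 0]) (.leaf [3, 4, 0, 4, 1, 3, 0])) (.node (.leaf [4, 0, 1, 4, 1, 0, 4, 1]) (.leaf [1, 3, 2, 3, 2, 3, 2, 0, 4, 1, 3, 2, 3, 2, 3, 2, 1, 4, 1, 4, 3, 2, 3, 2, 3, 2, 4]))) (.node (.node (.leaf [5, 2, 0, 1, 2, 5, 1]) (.leaf [1, 5, 3, 5, 3, 1, 5, 3])) (.node (.leaf [5, 2, 1, 2, 0, 5, 1]) (.leaf [0, 1, 0, 1])))) (.node (.node (.node (.leaf [5, 0, 1, 0, 5, 0, 1, 0]) (.leaf [2, 1, 4, 2, 4,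 2, 4, 1])) (.node (.leaf [2, 0, 1, 5, 1, 5, 2, 0]) (.leaf [0, 1, 0, 1]))) (.node (.node (.leaf [1, 4, 0, 1, 4, 1, 4, 0]) (.leaf [3, 4, 5, 4, 1, 5, 3, 4])) (.node (.leaf [4, 5, 4, 2, 5, 0, 2, 5]) (.leaf [0, 1, 0, 1]))))) (.node (.node (.node (.node (.leaf [0, 1, 0, 2, 1, 0, 2]) (.leaf [4, 2, 1, 2, 1, 4, 0])) (.node (.leaf [0, 5, 0, 5, 1, 0, 5, 1]) (.leaf [0, 1, 0, 1]))) (.node (.node (.leaf [0, 3, 0, 3, 1]) (.leaf [4, 3, 4, 1, 3, 5, 4, 5])) (.node (.leaf [4, 2, 4, 2, 0, 4, 2]) (.leaf [0, 1, 0, 1])))) (.node (.node (.node (.leaf [2, 0, 2, 1, 0, 5, 1, 5]) (.leaf [3, 1, 3, 4, 1, 4, 1, 4])) (.node (.leaf [4, 0, 4, 0, 2, 0, 2, 0]) (.leaf [0, 1, 0, 1]))) (.node (.node (.leaf [4, 0, 4, 1, 0, 3, 1, 3]) (.leaf [1, 4, 1, 2, 3, 2, 3, 2, 3, 1, 4, 0, 2, 3, 2, 3, 2, 3, 1, 4, 2, 3, 2, 3, 2, 3, 4])) (.node (.leaf [3, 0, 3, 1, 3, 0, 3, 1]) (.leaf [0, 1,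 0, 1])))))) (.node (.node (.node (.node (.node (.leaf [1, 5, 1, 5, 1, 0, 1, 0]) (.leaf [5, 0, 4, 0, 4, 1, 5, 1])) (.node (.leaf [1, 0, 1, 4, 2, 0, 2, 4]) (.leaf [0, 1, 0, 1]))) (.node (.node (.leaf [1, 3, 1, 0, 3, 1, 0]) (.leaf [5, 3, 5, 1, 3, 5, 3, 1])) (.node (.leaf [0, 4, 2, 0, 2, 4]) (.leaf [0, 1, 0, 1])))) (.node (.node (.node (.leaf [1, 2, 0, 2, 1, 0]) (.leaf [5, 1, 3, 1, 3, 1, 5, 1])) (.node (.leaf [4, 0, 1, 5, 1, 5, 4, 0]) (.leaf [0, 1, 0, 1]))) (.node (.node (.leaf [1, 4, 0, 4, 1, 0]) (.leaf [5, 3, 5, 3, 5, 3])) (.node (.leaf [3, 0, 3, 5, 1, 5, 0]) (.leaf [0, 1, 0, 1]))))) (.node (.node (.node (.node (.leaf [3, 5, 1, 5, 3, 0, 1, 0]) (.leaf [4, 5, 0, 5, 0, 5, 4, 0])) (.node (.leaf [5, 0, 1, 5, 0, 5, 1, 0]) (.leaf [0, 1, 0, 1]))) (.node (.node (.leaf [0, 4, 0, 4, 3, 1, 3, 1]) (.leaf [4, 5, 1, 5, 4, 1, 4, 1])) (.node (.leaf [2, 4,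 5, 4, 5, 0, 2, 5]) (.leaf [0, 1, 0, 1])))) (.node (.node (.node (.leaf [2, 1, 0, 2, 1]) (.leaf [1, 5, 4, 5, 4, 3, 4, 3])) (.node (.leaf [0, 2, 0, 5, 1, 5, 1, 2]) (.leaf [0, 1, 0, 1]))) (.node (.node (.leaf [4, 0, 4, 1, 0, 5, 1, 5]) (.leaf [2, 3, 2, 3, 2, 1, 4, 1, 4, 3, 2, 3, 2, 3, 2, 4, 1, 3, 2, 3, 2, 3, 2, 0, 4, 1, 3])) (.node (.leaf [4, 0, 3, 1, 3, 1, 4, 0]) (.leaf [0, 1, 0, 1]))))))))) (.node (.node (.node (.node (.node (.node (.node (.node (.leaf [1, 0, 1, 0, 2, 0, 2, 0]) (.leaf [1, 3, 0, 4, 0, 4, 1, 3])) (.node (.leaf [1, 4, 1, 0, 1, 4, 1, 0]) (.leaf [4, 1, 4, 3, 2, 3, 2, 3, 2, 4, 1, 3, 2, 3, 2, 3, 2, 0, 4, 1, 3, 2, 3, 2, 3, 2, 1]))) (.node (.node (.leaf [4, 0, 4, 2, 1, 0, 1, 2]) (.leaf [5, 3, 5, 1, 3, 5, 1, 3])) (.node (.leaf [2, 0, 2, 1, 2, 0, 2, 1]) (.leaf [0, 1, 0, 1])))) (.node (.node (.node (.leaf [1, 0, 4, 1, 4, 1, 4, 0]) (.leaf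 [4, 0, 4, 5, 0, 5, 0, 5])) (.node (.leaf [5, 0, 5, 0, 1, 5, 1, 0]) (.leaf [0, 1, 0, 1]))) (.node (.node (.leaf [4, 3, 0, 1, 3, 4, 0]) (.leaf [4, 5, 4, 3, 4, 3, 5, 1])) (.node (.leaf [4, 5, 4, 2, 5, 2, 0, 5]) (.leaf [0, 1, 0, 1]))))) (.node (.node (.node (.node (.leaf [1, 0, 2, 0, 1, 2, 0]) (.leaf [0, 4, 0, 5, 1, 5, 1, 4])) (.node (.leaf [5, 0, 5, 0, 1, 5, 0, 1]) (.leaf [0, 1, 0, 1]))) (.node (.node (.leaf [0, 1, 3, 1, 0, 3, 1]) (.leaf [3, 5, 3, 1, 5, 1, 3, 5])) (.node (.leaf [2, 0, 2, 4, 2, 0, 2, 4]) (.leaf [0, 1, 0, 1])))) (.node (.node (.node (.leaf [1, 2, 0, 2, 5, 1, 5, 0]) (.leaf [5, 3, 5, 1, 3, 1, 5, 3])) (.node (.leaf [5, 1, 0, 4, 0, 4, 5, 1]) (.leaf [0, 1, 0, 1]))) (.node (.node (.leaf [1, 4, 0, 4, 3, 1, 3, 0]) (.leaf [3, 1, 4, 2, 3, 2, 3, 2, 3, 4, 1, 4, 1, 2, 3, 2, 3, 2, 3, 1, 4, 0, 2, 3, 2, 3, 2])) (.node (.leaf [5, 1, 5, 3, 0,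 3, 0]) (.leaf [0, 1, 0, 1])))))) (.node (.node (.node (.node (.node (.leaf [1, 0, 1, 3, 1, 3, 1, 0]) (.leaf [0, 3, 4, 0, 4, 1, 3])) (.node (.leaf [1, 0, 4, 0, 1, 4, 1, 4]) (.leaf [2, 0, 4, 1, 3, 2, 3, 2, 3, 2, 1, 4, 1, 4, 3, 2, 3, 2, 3, 2, 4, 1, 3, 2, 3, 2, 3]))) (.node (.node (.leaf [2, 1, 0, 2, 5, 1, 5]) (.leaf [3, 1, 3, 5, 1, 5])) (.node (.leaf [2, 1, 4, 0, 4, 1, 2, 0]) (.leaf [0, 1, 0, 1])))) (.node (.node (.node (.leaf [5, 0, 1, 0, 5, 1]) (.leaf [4, 1, 2, 1, 4, 2, 4, 2])) (.node (.leaf [5, 1, 0, 2, 0, 2, 5, 1]) (.leaf [0, 1, 0, 1]))) (.node (.node (.leaf [4, 0, 1, 4, 0, 1, 4, 1]) (.leaf [5, 1, 5, 1])) (.node (.leaf [2, 4, 5, 4, 5, 2, 0, 5]) (.leaf [0, 1, 0, 1]))))) (.node (.node (.node (.node (.leaf [3, 0, 1, 0, 3, 0, 1, 0]) (.leaf [0, 4, 2, 1, 2, 1, 4])) (.node (.leaf [0, 5, 1, 0, 1, 5, 0, 5]) (.leaf [0, 1, 0, 1]))) (.node (.node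 (.leaf [4, 0, 4, 0, 1, 3, 1, 3]) (.leaf [5, 4, 5, 3, 1, 4, 3, 4])) (.node (.leaf [2, 5, 0, 5, 0, 5, 2, 0]) (.leaf [0, 1, 0, 1])))) (.node (.node (.node (.leaf [1, 2, 1, 0, 1, 2, 1, 0]) (.leaf [5, 4, 5, 1, 3, 4, 3, 4])) (.node (.leaf [2, 1, 5, 1, 5, 0, 2, 0]) (.leaf [0, 1, 0, 1]))) (.node (.node (.leaf [1, 4, 0, 4, 5, 1, 5, 0]) (.leaf [3, 2, 3, 1, 4, 0, 2, 3, 2, 3, 2, 3, 1, 4, 2, 3, 2, 3, 2, 3, 4, 1, 4, 1, 2, 3, 2])) (.node (.leaf [5, 1, 5, 0, 3, 1, 3, 0]) (.leaf [0, 1, 0, 1]))))))) (.node (.node (.node (.node (.node (.node (.leaf [1, 0, 1, 0, 4, 0, 4, 0]) (.leaf [4, 3, 0, 3, 1, 4, 0])) (.node (.leaf [4, 1, 4, 0, 1, 4, 1, 0]) (.leaf [2, 4, 1, 3, 2, 3, 2, 3, 2, 0, 4, 1, 3, 2, 3, 2, 3, 2, 1, 4, 1, 4, 3, 2, 3, 2, 3]))) (.node (.node (.leaf [5, 1, 5, 2, 0, 1, 2]) (.leaf [5, 3, 1, 5, 3, 5, 3, 1])) (.node (.leaf [5, 1, 5, 2, 1, 2, 0]) (.leaf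 [0, 1, 0, 1])))) (.node (.node (.node (.leaf [1, 0, 5, 0, 1, 0, 5, 0]) (.leaf [2, 1, 2, 1, 2, 1, 2, 1])) (.node (.leaf [2, 0, 2, 0, 1, 5, 1, 5]) (.leaf [0, 1, 0, 1]))) (.node (.node (.leaf [0, 3, 4, 0, 4, 3, 1]) (.leaf [3, 4, 3, 4, 5, 4, 1, 5])) (.node (.leaf [2, 5, 4, 5, 4, 2, 5, 0]) (.leaf [0, 1, 0, 1]))))) (.node (.node (.node (.node (.leaf [0, 2, 0, 1, 0, 2, 1]) (.leaf [2, 4, 0, 4, 1, 2, 1])) (.node (.leaf [5, 1, 0, 5, 0, 5, 1, 0]) (.leaf [0, 1, 0, 1]))) (.node (.node (.leaf [3, 1, 0, 3, 0]) (.leaf [4, 5, 4, 3, 4, 1, 3, 5])) (.node (.leaf [4, 2, 4, 2, 4, 2, 0]) (.leaf [0, 1, 0, 1])))) (.node (.node (.node (.leaf [1, 5, 2, 0, 2, 1, 0, 5]) (.leaf [1, 4, 3, 1, 3, 4, 1, 4])) (.node (.leaf [2, 0, 4, 0, 4, 0, 2, 0]) (.leaf [0, 1, 0, 1]))) (.node (.node (.leaf [1, 3, 4, 0, 4, 1, 0, 3]) (.leaf [3, 4, 1, 4, 1, 2, 3, 2, 3, 2, 3, 1, 4, 0, 2,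 3, 2, 3, 2, 3, 1, 4, 2, 3, 2, 3, 2])) (.node (.leaf [3, 1, 3, 0, 3, 1, 3, 0]) (.leaf [0, 1, 0, 1])))))) (.node (.node (.node (.node (.node (.leaf [1, 0, 1, 5, 1, 5, 1, 0]) (.leaf [5, 1, 5, 0, 4, 0, 4, 1])) (.node (.leaf [2, 4, 1, 0, 1, 4, 2, 0]) (.leaf [0, 1, 0, 1]))) (.node (.node (.leaf [3, 1, 0, 1, 3, 0, 1]) (.leaf [3, 1, 5, 3, 5, 1, 3, 5])) (.node (.leaf [2, 4, 0, 4, 2, 0]) (.leaf [0, 1, 0, 1])))) (.node (.node (.node (.leaf [5, 0, 1, 0, 5, 3, 1, 3]) (.leaf [5, 1, 5, 1, 3, 1, 3, 1])) (.node (.leaf [4, 0, 4, 0, 1, 5, 1, 5]) (.leaf [0, 1, 0, 1]))) (.node (.node (.leaf [0, 4, 1, 4, 1, 0, 4, 1]) (.leaf [4, 2, 4, 5, 4, 2, 4, 5])) (.node (.leaf [3, 0, 3, 0, 3, 0, 3, 0]) (.leaf [0, 1, 0, 1]))))) (.node (.node (.node (.node (.leaf [1, 0, 3, 5, 1, 5, 3, 0]) (.leaf [4, 0, 4, 2, 4, 0, 4, 2])) (.node (.leaf [1, 0, 5, 0, 1, 5, 0, 5]) (.leaf [0,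 1, 0, 1]))) (.node (.node (.leaf [3, 1, 0, 4, 0, 4, 3, 1]) (.leaf [4, 1, 4, 5, 1, 5, 4, 1])) (.node (.leaf [2, 5, 2, 4, 5, 4, 5, 0]) (.leaf [0, 1, 0, 1])))) (.node (.node (.node (.leaf [2, 1, 2, 1, 0]) (.leaf [4, 3, 1, 5, 4, 5, 4, 3])) (.node (.leaf [1, 2, 0, 2, 0, 5, 1, 5]) (.leaf [0, 1, 0, 1]))) (.node (.node (.leaf [1, 5, 4, 0, 4, 1, 0, 5]) (.leaf [1, 3, 2, 3, 2, 3, 2, 1, 4, 1, 4, 3, 2, 3, 2, 3, 2, 4, 1, 3, 2, 3, 2, 3, 2, 0, 4])) (.node (.leaf [4, 0, 4, 0, 3, 1, 3, 1]) (.leaf [0, 1, 0, 1])))))))) (.node (.node (.node (.node (.node (.node (.node (.leaf [2, 0, 2, 0, 1, 0, 1, 0]) (.leaf [3, 1, 4, 0, 4, 3, 0])) (.node (.leaf [1, 4, 1, 0, 4, 1, 4, 0]) (.leaf [2, 3, 2, 3, 2, 4, 1, 3, 2, 3, 2, 3, 2, 0, 4, 1, 3, 2, 3, 2, 3, 2, 1, 4, 1, 4, 3]))) (.node (.node (.leaf [1, 0, 1, 2, 4, 0, 4, 2]) (.leaf [3, 5, 3, 1, 5, 3, 1, 5])) (.node (.leaf [2,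 5, 1, 5, 0, 2, 1]) (.leaf [0, 1, 0, 1])))) (.node (.node (.node (.leaf [4, 1, 4, 0, 1, 0, 4, 1]) (.leaf [5, 1, 5, 0, 5, 1, 5, 0])) (.node (.leaf [1, 5, 1, 5, 2, 0, 2, 0]) (.leaf [0, 1, 0, 1]))) (.node (.node (.leaf [0, 4, 3, 1, 0, 3, 4]) (.leaf [4, 3, 5, 1, 4, 5, 4, 3])) (.node (.leaf [5, 2, 0, 5, 4, 5, 4, 2]) (.leaf [0, 1, 0, 1]))))) (.node (.node (.node (.node (.leaf [1, 2, 0, 1, 0, 2, 0]) (.leaf [4, 1, 2, 1, 2, 4, 0])) (.node (.leaf [0, 5, 1, 0, 5, 1, 0, 5]) (.leaf [0, 1, 0, 1]))) (.node (.node (.leaf [0, 3, 0, 1, 3]) (.leaf [5, 1, 3, 5, 3, 5, 3, 1])) (.node (.leaf [2, 4, 2, 4, 0, 2, 4]) (.leaf [0, 1, 0, 1])))) (.node (.node (.node (.leaf [5, 1, 5, 0, 1, 2, 0, 2]) (.leaf [3, 4, 1, 4, 1, 4, 3, 1])) (.node (.leaf [2, 0, 2, 0]) (.leaf [0, 1, 0, 1]))) (.node (.node (.leaf [3, 1, 3, 0, 1, 4, 0, 4]) (.leaf [3, 2, 3, 2, 3, 4, 1, 4, 1, 2, 3,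 2, 3, 2, 3, 1, 4, 0, 2, 3, 2, 3, 2, 3, 1, 4, 2])) (.node (.leaf [0, 3, 0, 5, 1, 5, 3]) (.leaf [0, 1, 0, 1])))))) (.node (.node (.node (.node (.node (.leaf [1, 3, 1, 0, 1, 0, 1, 3]) (.leaf [4, 0, 4, 1, 5, 1, 5, 0])) (.node (.leaf [1, 4, 2, 0, 2, 4, 1, 0]) (.leaf [0, 1, 0, 1]))) (.node (.node (.leaf [1, 3, 0, 1, 3, 1, 0]) (.leaf [3, 1, 3, 5, 3, 1, 3, 5])) (.node (.leaf [4, 1, 2, 0, 2, 1, 4, 0]) (.leaf [0, 1, 0, 1])))) (.node (.node (.node (.leaf [5, 3, 1, 3, 5, 0, 1, 0]) (.leaf [3, 1, 3, 1, 5, 1, 5, 1])) (.node (.leaf [1, 5, 1, 5, 4, 0, 4, 0]) (.leaf [0, 1, 0, 1]))) (.node (.node (.leaf [1, 0, 4, 1, 0, 4, 1, 4]) (.leaf [5, 1, 5, 3, 5, 1, 5, 3])) (.node (.leaf [5, 2, 0, 5, 2, 4, 5, 4]) (.leaf [0, 1, 0, 1]))))) (.node (.node (.node (.node (.leaf [3, 1, 3, 0, 1, 0]) (.leaf [4, 0, 4, 1, 4, 0, 4, 1])) (.node (.leaf [1, 5, 0, 5, 1, 0, 5, 0]) (.leaf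 [0, 1, 0, 1]))) (.node (.node (.leaf [0, 4, 3, 1, 3, 1, 0, 4]) (.leaf [1, 4, 3, 4, 5, 4, 5, 3])) (.node (.leaf [0, 5, 2, 0, 2, 5, 0, 5]) (.leaf [0, 1, 0, 1])))) (.node (.node (.node (.leaf [1, 2, 1, 2, 0]) (.leaf [4, 5, 4, 3, 4, 3, 1, 5])) (.node (.leaf [5, 0, 2, 0, 2, 1, 5, 1]) (.leaf [0, 1, 0, 1]))) (.node (.node (.leaf [5, 1, 5, 0, 1, 4, 0, 4]) (.leaf [4, 0, 2, 3, 2, 3, 2, 3, 1, 4, 2, 3, 2, 3, 2, 3, 4, 1, 4, 1, 2, 3, 2, 3, 2, 3, 1])) (.node (.leaf [3, 1, 3, 1, 4, 0, 4, 0]) (.leaf [0, 1, 0, 1]))))))) (.node (.node (.node (.node (.node (.node (.leaf [4, 0, 4, 0, 1, 0, 1, 0]) (.leaf [0, 4, 1, 3, 0, 3, 4])) (.node (.leaf [1, 4, 1, 4, 1, 0, 4, 0]) (.leaf [2, 3, 2, 3, 2, 0, 4, 1, 3, 2, 3, 2, 3, 2, 1, 4, 1, 4, 3, 2, 3, 2, 3, 2, 4, 1, 3]))) (.node (.node (.leaf [2, 5, 1, 5, 2, 1, 0]) (.leaf [3, 5, 1, 5, 3, 1])) (.node (.leaf [1, 2, 0, 5, 1,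 5, 2]) (.leaf [0, 1, 0, 1])))) (.node (.node (.node (.leaf [1, 0, 5, 1, 5, 0]) (.leaf [4, 2, 4, 2, 4, 1, 2, 1])) (.node (.leaf [0, 2, 5, 1, 5, 1, 0, 2]) (.leaf [0, 1, 0, 1]))) (.node (.node (.leaf [0, 1, 4, 1, 4, 0, 1, 4]) (.leaf [5, 4, 1, 5, 3, 4, 3, 4])) (.node (.leaf [4, 2, 5, 0, 2, 5, 4, 5]) (.leaf [0, 1, 0, 1]))))) (.node (.node (.node (.node (.leaf [0, 2, 1, 0, 2, 0, 1]) (.leaf [1, 2, 1, 4, 0, 4, 2])) (.node (.leaf [1, 5, 0, 5, 0, 5, 1, 0]) (.leaf [0, 1, 0, 1]))) (.node (.node (.leaf [1, 3, 1, 3, 4, 0, 4, 0]) (.leaf [4, 1, 3, 5, 4, 5, 4, 3])) (.node (.leaf [4, 2, 0, 4, 2, 4, 2]) (.leaf [0, 1, 0, 1])))) (.node (.node (.node (.leaf [2, 1, 0, 5, 1, 5, 2, 0]) (.leaf [3, 4, 3, 4, 5, 4, 5, 1])) (.node (.leaf [4, 0, 2, 0, 2, 0, 4, 0]) (.leaf [0, 1, 0, 1]))) (.node (.node (.leaf [4, 1, 0, 3, 1, 3, 4, 0]) (.leaf [1, 2, 3, 2, 3, 2, 3, 1, 4,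 0, 2, 3, 2, 3, 2, 3, 1, 4, 2, 3, 2, 3, 2, 3, 4, 1, 4])) (.node (.leaf [3, 1, 3, 0, 5, 1, 5, 0]) (.leaf [0, 1, 0, 1])))))) (.node (.node (.node (.node (.node (.leaf [1, 5, 1, 0, 1, 0, 1, 5]) (.leaf [1, 5, 1, 4, 0, 4, 0, 5])) (.node (.leaf [1, 5, 0, 1, 5, 0, 5, 0]) (.leaf [0, 1, 0, 1]))) (.node (.node (.leaf [1, 0, 3, 1, 0, 1, 3]) (.leaf [5, 1, 3, 5, 3, 1, 5, 3])) (.node (.leaf [2, 0, 2, 4, 0, 4]) (.leaf [0, 1, 0, 1])))) (.node (.node (.node (.leaf [0, 2, 1, 0, 1, 2]) (.leaf [3, 1, 5, 3, 5, 3, 5, 1])) (.node (.leaf [0, 4, 5, 1, 5, 1, 0, 4]) (.leaf [0, 1, 0, 1]))) (.node (.node (.leaf [0, 4, 1, 0, 1, 4]) (.leaf [3, 2, 3, 2, 3, 1, 4, 2, 3, 2, 3, 2, 3, 4, 1, 4, 1, 2, 3, 2, 3, 2, 3, 1, 4, 0, 2])) (.node (.leaf [3, 5, 1, 5, 0, 3, 0]) (.leaf [0, 1, 0, 1]))))) (.node (.node (.node (.node (.leaf [1, 5, 3, 0, 1, 0, 3, 5]) (.leaf [0, 5, 0, 5, 4, 0,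 4, 5])) (.node (.leaf [1, 5, 1, 0, 5, 0, 5, 0]) (.leaf [0, 1, 0, 1]))) (.node (.node (.leaf [1, 3, 4, 0, 4, 3, 0]) (.leaf [1, 5, 4, 1, 4, 1, 4, 5])) (.node (.leaf [5, 4, 5, 0, 2, 5, 2, 4]) (.leaf [0, 1, 0, 1])))) (.node (.node (.node (.leaf [0, 2, 1, 2, 1]) (.leaf [3, 5, 1, 3, 5, 3, 5, 1])) (.node (.leaf [0, 5, 1, 5, 1, 2, 0, 2]) (.leaf [0, 1, 0, 1]))) (.node (.node (.leaf [4, 1, 0, 5, 1, 5, 4, 0]) (.leaf [2, 3, 2, 1, 4, 1, 4, 3, 2, 3, 2, 3, 2, 4, 1, 3, 2, 3, 2, 3, 2, 0, 4, 1, 3, 2, 3])) (.node (.leaf [0, 4, 1, 3, 1, 3, 0, 4]) (.leaf [0, 1, 0, 1])))))))))))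

def hints_0 : List (ℕ × ℕ × Bool) := [
  (0, 0, false), (53, 2, true), (26, 6, true), (83, 7, true), (17, 0, false), (70, 2, false), (40, 0, false), (0, 0, false),
  (8, 6, false), (60, 4, false), (34, 2, false), (0, 0, false), (22, 2, false), (77, 6, false), (47, 6, false), (0, 0, false),
  (4, 6, false), (56, 2, true), (31, 2, false), (0, 0, false), (19, 3, true), (74, 0, false), (44, 0, false), (0, 0, false),
  (13, 4, false), (67, 2, false), (36, 2, true), (0, 0, false), (24, 4, false), (83, 2, false), (50, 4, false), (0, 0, false),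
  (2, 6, false), (54, 3, true), (29, 2, false), (83, 23, true), (18, 1, true), (71, 2, false), (41, 5, true), (0, 0, false),
  (11, 2, false), (64, 4, false), (35, 2, true), (0, 0, false), (23, 4, false), (78, 6, true), (48, 6, false), (0, 0, false),
  (6, 0, false), (57, 3, true), (32, 2, false), (0, 0, false), (21, 2, false), (75, 0, true), (45, 5, true), (0, 0, false),
  (14, 6, true), (69, 2, false), (39, 0, false), (0, 0, false), (25, 6, true), (83, 18, false), (52, 2, false), (0, 0, false),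
  (1, 6, false), (54, 2, false), (28, 2, false), (83, 15, true), (18, 0, false), (70, 2, true), (41, 4, false), (0, 0, false),
  (9, 6, false), (62, 2, false), (35, 2, false), (0, 0, false), (22, 3, true), (78, 6, false), (47, 6, true), (0, 0, false),
  (5, 6, false), (57, 2, false), (31, 2, true), (0, 0, false), (20, 4, false), (75, 0, false), (45, 4, false), (0, 0, false),
  (14, 6, false), (68, 2, false), (38, 0, false), (0, 0, false), (25, 6, false), (83, 10, false), (50, 5, true), (0, 0, false),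
  (3, 6, false), (56, 2, false), (30, 2, false), (0, 0, false), (19, 2, false), (73, 0, false), (42, 6, false), (0, 0, false),
  (12, 4, false), (66, 2, false), (36, 2, false), (0, 0, false), (23, 4, true), (81, 0, false), (48, 6, true), (0, 0, false),
  (7, 4, false), (59, 0, false), (33, 2, false), (0, 0, false), (21, 2, true), (76, 0, false), (46, 6, false), (0, 0, false),
  (16, 2, false), (69, 2, true), (39, 0, true), (0, 0, false), (26, 6, false), (83, 26, false), (53, 2, false), (0, 0, false),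
  (1, 2, false), (53, 6, true), (27, 2, false), (83, 11, true), (17, 4, false), (70, 6, false), (41, 0, false), (0, 0, false),
  (9, 2, false), (61, 0, false), (34, 6, false), (0, 0, false), (22, 6, false), (78, 2, false), (47, 2, true), (0, 0, false),
  (5, 2, false), (56, 6, true), (31, 6, false), (0, 0, false), (20, 0, false), (74, 4, false), (45, 0, false), (0, 0, false),
  (14, 2, false), (67, 6, false), (36, 6, true), (0, 0, false), (25, 2, false), (83, 6, false), (50, 1, true), (0, 0, false),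
  (3, 2, false), (55, 0, false), (29, 6, false), (0, 0, false), (18, 5, true), (72, 0, false), (42, 2, false), (0, 0, false),
  (12, 0, false), (65, 0, false), (35, 6, true), (0, 0, false), (23, 0, true), (80, 0, false), (48, 2, true), (0, 0, false),
  (7, 0, false), (58, 0, false), (32, 6, false), (0, 0, false), (21, 6, false), (75, 4, true), (46, 2, false), (0, 0, false),
  (15, 2, false), (69, 6, false), (39, 4, false), (0, 0, false), (26, 2, false), (83, 22, false), (52, 6, false), (0, 0, false),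
  (2, 2, false), (54, 6, false), (28, 6, false), (83, 19, true), (18, 4, false), (70, 6, true), (41, 1, true), (0, 0, false),
  (10, 2, false), (64, 0, false), (35, 6, false), (0, 0, false), (23, 0, false), (78, 2, true), (48, 2, false), (0, 0, false),
  (5, 3, true), (57, 6, false), (31, 6, true), (0, 0, false), (20, 3, true), (75, 4, false), (45, 1, true), (0, 0, false),
  (14, 2, true), (68, 6, false), (38, 4, false), (0, 0, false), (25, 2, true), (83, 14, false), (51, 2, false), (0, 0, false),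
  (4, 2, false), (56, 6, false), (30, 6, false), (0, 0, false), (19, 6, false), (73, 4, false), (43, 2, false), (0, 0, false),
  (13, 0, false), (66, 6, false), (36, 6, false), (0, 0, false), (24, 0, false), (82, 0, false), (50, 0, false), (0, 0, false),
  (8, 2, false), (60, 0, false), (33, 6, false), (0, 0, false), (21, 6, true), (77, 2, false), (47, 2, false), (0, 0, false),
  (16, 1, true), (69, 6, true), (39, 4, true), (0, 0, false), (26, 2, true), (83, 3, true), (53, 6, false), (0, 0, false),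
  (1, 0, false), (53, 4, true), (27, 0, false), (83, 9, true), (17, 2, false), (70, 4, false), (40, 2, false), (0, 0, false),
  (9, 0, false), (60, 6, false), (34, 4, false), (0, 0, false), (22, 4, false), (78, 0, false), (47, 0, true), (0, 0, false),
  (5, 0, false), (56, 4, true), (31, 4, false), (0, 0, false), (19, 5, true), (74, 2, false), (44, 2, false), (0, 0, false),
  (14, 0, false), (67, 4, false), (36, 4, true), (0, 0, false), (25, 0, false), (83, 4, false), (50, 6, false), (0, 0, false),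
  (3, 0, false), (54, 5, true), (29, 4, false), (83, 25, true), (18, 3, true), (71, 4, false), (42, 0, false), (0, 0, false),
  (11, 4, false), (64, 6, false), (35, 4, true), (0, 0, false), (23, 6, false), (79, 0, false), (48, 0, true), (0, 0, false),
  (6, 2, false), (57, 5, true), (32, 4, false), (0, 0, false), (21, 4, false), (75, 2, true), (46, 0, false), (0, 0, false),
  (15, 0, false), (69, 4, false), (39, 2, false), (0, 0, false), (26, 0, false), (83, 20, false), (52, 4, false), (0, 0, false),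
  (2, 0, false), (54, 4, false), (28, 4, false), (83, 17, true), (18, 2, false), (70, 4, true), (41, 6, false), (0, 0, false),
  (10, 0, false), (63, 0, false), (35, 4, false), (0, 0, false), (22, 5, true), (78, 0, true), (48, 0, false), (0, 0, false),
  (5, 1, true), (57, 4, false), (31, 4, true), (0, 0, false), (20, 1, true), (75, 2, false), (45, 6, false), (0, 0, false),
  (14, 0, true), (68, 4, false), (38, 2, false), (0, 0, false), (25, 0, true), (83, 12, false), (51, 0, false), (0, 0, false),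
  (4, 0, false), (56, 4, false), (30, 4, false), (0, 0, false), (19, 4, false), (73, 2, false), (43, 0, false), (0, 0, false),
  (12, 6, false), (66, 4, false), (36, 4, false), (0, 0, false), (23, 6, true), (81, 2, false), (49, 0, false), (0, 0, false),
  (8, 0, false), (59, 2, false), (33, 4, false), (0, 0, false), (21, 4, true), (77, 0, false), (47, 0, false), (0, 0, false),
  (16, 4, false), (69, 4, true), (39, 2, true), (0, 0, false), (26, 0, true), (83, 1, true), (53, 4, false), (0, 0, false),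
  (1, 4, false), (54, 0, false), (28, 0, false), (83, 13, true), (17, 6, false), (70, 0, true), (41, 2, false), (0, 0, false),
  (9, 4, false), (62, 0, false), (35, 0, false), (0, 0, false), (22, 1, true), (78, 4, false), (47, 4, true), (0, 0, false)]
def hints_1 : List (ℕ × ℕ × Bool) := [
  (5, 4, false), (57, 0, false), (31, 0, true), (0, 0, false), (20, 2, false), (74, 6, false), (45, 2, false), (0, 0, false),
  (14, 4, false), (68, 0, false), (37, 0, false), (0, 0, false), (25, 4, false), (83, 8, false), (50, 3, true), (0, 0, false),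
  (3, 4, false), (56, 0, false), (30, 0, false), (0, 0, false), (19, 0, false), (72, 2, false), (42, 4, false), (0, 0, false),
  (12, 2, false), (66, 0, false), (36, 0, false), (0, 0, false), (23, 2, true), (80, 2, false), (48, 4, true), (0, 0, false),
  (7, 2, false), (58, 2, false), (33, 0, false), (0, 0, false), (21, 0, true), (75, 6, true), (46, 4, false), (0, 0, false),
  (16, 0, false), (69, 0, true), (39, 6, false), (0, 0, false), (26, 4, false), (83, 24, false), (53, 0, false), (0, 0, false),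
  (2, 4, false), (54, 1, true), (29, 0, false), (83, 21, true), (18, 6, false), (71, 0, false), (41, 3, true), (0, 0, false),
  (11, 0, false), (64, 2, false), (35, 0, true), (0, 0, false), (23, 2, false), (78, 4, true), (48, 4, false), (0, 0, false),
  (5, 5, true), (57, 1, true), (32, 0, false), (0, 0, false), (21, 0, false), (75, 6, false), (45, 3, true), (0, 0, false),
  (14, 4, true), (69, 0, false), (38, 6, false), (0, 0, false), (25, 4, true), (83, 16, false), (52, 0, false), (0, 0, false),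
  (4, 4, false), (56, 0, true), (31, 0, false), (0, 0, false), (19, 1, true), (73, 6, false), (43, 4, false), (0, 0, false),
  (13, 2, false), (67, 0, false), (36, 0, true), (0, 0, false), (24, 2, false), (83, 0, false), (50, 2, false), (0, 0, false),
  (8, 4, false), (60, 2, false), (34, 0, false), (0, 0, false), (22, 0, false), (77, 4, false), (47, 4, false), (0, 0, false),
  (16, 3, true), (70, 0, false), (39, 6, true), (0, 0, false), (26, 4, true), (83, 5, true), (53, 0, true), (0, 0, false),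
  (0, 1, false), (53, 3, true), (26, 7, true), (83, 8, true), (17, 1, false), (70, 3, false), (40, 1, false), (0, 0, false),
  (8, 7, false), (60, 5, false), (34, 3, false), (0, 0, false), (22, 3, false), (77, 7, false), (47, 7, false), (0, 0, false),
  (4, 7, false), (56, 3, true), (31, 3, false), (0, 0, false), (19, 4, true), (74, 1, false), (44, 1, false), (0, 0, false),
  (13, 5, false), (67, 3, false), (36, 3, true), (0, 0, false), (24, 5, false), (83, 3, false), (50, 5, false), (0, 0, false),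
  (2, 7, false), (54, 4, true), (29, 3, false), (83, 24, true), (18, 2, true), (71, 3, false), (41, 6, true), (0, 0, false),
  (11, 3, false), (64, 5, false), (35, 3, true), (0, 0, false), (23, 5, false), (78, 7, true), (48, 7, false), (0, 0, false),
  (6, 1, false), (57, 4, true), (32, 3, false), (0, 0, false), (21, 3, false), (75, 1, true), (45, 6, true), (0, 0, false),
  (14, 7, true), (69, 3, false), (39, 1, false), (0, 0, false), (25, 7, true), (83, 19, false), (52, 3, false), (0, 0, false),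
  (1, 7, false), (54, 3, false), (28, 3, false), (83, 16, true), (18, 1, false), (70, 3, true), (41, 5, false), (0, 0, false),
  (9, 7, false), (62, 3, false), (35, 3, false), (0, 0, false), (22, 4, true), (78, 7, false), (47, 7, true), (0, 0, false),
  (5, 0, true), (57, 3, false), (31, 3, true), (0, 0, false), (20, 0, true), (75, 1, false), (45, 5, false), (0, 0, false),
  (14, 7, false), (68, 3, false), (38, 1, false), (0, 0, false), (25, 7, false), (83, 11, false), (50, 6, true), (0, 0, false),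
  (3, 7, false), (56, 3, false), (30, 3, false), (0, 0, false), (19, 3, false), (73, 1, false), (42, 7, false), (0, 0, false),
  (12, 5, false), (66, 3, false), (36, 3, false), (0, 0, false), (23, 5, true), (81, 1, false), (48, 7, true), (0, 0, false),
  (7, 5, false), (59, 1, false), (33, 3, false), (0, 0, false), (21, 3, true), (76, 1, false), (46, 7, false), (0, 0, false),
  (16, 3, false), (69, 3, true), (39, 1, true), (0, 0, false), (26, 7, false), (83, 0, true), (53, 3, false), (0, 0, false),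
  (1, 3, false), (53, 7, true), (27, 3, false), (83, 12, true), (17, 5, false), (70, 7, false), (41, 1, false), (0, 0, false),
  (9, 3, false), (61, 1, false), (34, 7, false), (0, 0, false), (22, 0, true), (78, 3, false), (47, 3, true), (0, 0, false),
  (5, 3, false), (56, 7, true), (31, 7, false), (0, 0, false), (20, 1, false), (74, 5, false), (45, 1, false), (0, 0, false),
  (14, 3, false), (67, 7, false), (36, 7, true), (0, 0, false), (25, 3, false), (83, 7, false), (50, 2, true), (0, 0, false),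
  (3, 3, false), (55, 1, false), (29, 7, false), (0, 0, false), (18, 6, true), (72, 1, false), (42, 3, false), (0, 0, false),
  (12, 1, false), (65, 1, false), (35, 7, true), (0, 0, false), (23, 1, true), (80, 1, false), (48, 3, true), (0, 0, false),
  (7, 1, false), (58, 1, false), (32, 7, false), (0, 0, false), (21, 7, false), (75, 5, true), (46, 3, false), (0, 0, false),
  (15, 3, false), (69, 7, false), (39, 5, false), (0, 0, false), (26, 3, false), (83, 23, false), (52, 7, false), (0, 0, false),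
  (2, 3, false), (54, 0, true), (28, 7, false), (83, 20, true), (18, 5, false), (70, 7, true), (41, 2, true), (0, 0, false),
  (10, 3, false), (64, 1, false), (35, 7, false), (0, 0, false), (23, 1, false), (78, 3, true), (48, 3, false), (0, 0, false),
  (5, 4, true), (57, 0, true), (31, 7, true), (0, 0, false), (20, 4, true), (75, 5, false), (45, 2, true), (0, 0, false),
  (14, 3, true), (68, 7, false), (38, 5, false), (0, 0, false), (25, 3, true), (83, 15, false), (51, 3, false), (0, 0, false),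
  (4, 3, false), (56, 7, false), (30, 7, false), (0, 0, false), (19, 0, true), (73, 5, false), (43, 3, false), (0, 0, false),
  (13, 1, false), (66, 7, false), (36, 7, false), (0, 0, false), (24, 1, false), (82, 1, false), (50, 1, false), (0, 0, false),
  (8, 3, false), (60, 1, false), (33, 7, false), (0, 0, false), (21, 7, true), (77, 3, false), (47, 3, false), (0, 0, false),
  (16, 2, true), (69, 7, true), (39, 5, true), (0, 0, false), (26, 3, true), (83, 4, true), (53, 7, false), (0, 0, false),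
  (1, 1, false), (53, 5, true), (27, 1, false), (83, 10, true), (17, 3, false), (70, 5, false), (40, 3, false), (0, 0, false),
  (9, 1, false), (60, 7, false), (34, 5, false), (0, 0, false), (22, 5, false), (78, 1, false), (47, 1, true), (0, 0, false),
  (5, 1, false), (56, 5, true), (31, 5, false), (0, 0, false), (19, 6, true), (74, 3, false), (44, 3, false), (0, 0, false),
  (14, 1, false), (67, 5, false), (36, 5, true), (0, 0, false), (25, 1, false), (83, 5, false), (50, 0, true), (0, 0, false)]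
def hints_2 : List (ℕ × ℕ × Bool) := [
  (3, 1, false), (54, 6, true), (29, 5, false), (83, 26, true), (18, 4, true), (71, 5, false), (42, 1, false), (0, 0, false),
  (11, 5, false), (64, 7, false), (35, 5, true), (0, 0, false), (23, 7, false), (79, 1, false), (48, 1, true), (0, 0, false),
  (6, 3, false), (57, 6, true), (32, 5, false), (0, 0, false), (21, 5, false), (75, 3, true), (46, 1, false), (0, 0, false),
  (15, 1, false), (69, 5, false), (39, 3, false), (0, 0, false), (26, 1, false), (83, 21, false), (52, 5, false), (0, 0, false),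
  (2, 1, false), (54, 5, false), (28, 5, false), (83, 18, true), (18, 3, false), (70, 5, true), (41, 0, true), (0, 0, false),
  (10, 1, false), (63, 1, false), (35, 5, false), (0, 0, false), (22, 6, true), (78, 1, true), (48, 1, false), (0, 0, false),
  (5, 2, true), (57, 5, false), (31, 5, true), (0, 0, false), (20, 2, true), (75, 3, false), (45, 0, true), (0, 0, false),
  (14, 1, true), (68, 5, false), (38, 3, false), (0, 0, false), (25, 1, true), (83, 13, false), (51, 1, false), (0, 0, false),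
  (4, 1, false), (56, 5, false), (30, 5, false), (0, 0, false), (19, 5, false), (73, 3, false), (43, 1, false), (0, 0, false),
  (12, 7, false), (66, 5, false), (36, 5, false), (0, 0, false), (23, 7, true), (81, 3, false), (49, 1, false), (0, 0, false),
  (8, 1, false), (59, 3, false), (33, 5, false), (0, 0, false), (21, 5, true), (77, 1, false), (47, 1, false), (0, 0, false),
  (16, 0, true), (69, 5, true), (39, 3, true), (0, 0, false), (26, 1, true), (83, 2, true), (53, 5, false), (0, 0, false),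
  (1, 5, false), (54, 1, false), (28, 1, false), (83, 14, true), (17, 7, false), (70, 1, true), (41, 3, false), (0, 0, false),
  (9, 5, false), (62, 1, false), (35, 1, false), (0, 0, false), (22, 2, true), (78, 5, false), (47, 5, true), (0, 0, false),
  (5, 5, false), (57, 1, false), (31, 1, true), (0, 0, false), (20, 3, false), (74, 7, false), (45, 3, false), (0, 0, false),
  (14, 5, false), (68, 1, false), (37, 1, false), (0, 0, false), (25, 5, false), (83, 9, false), (50, 4, true), (0, 0, false),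
  (3, 5, false), (56, 1, false), (30, 1, false), (0, 0, false), (19, 1, false), (72, 3, false), (42, 5, false), (0, 0, false),
  (12, 3, false), (66, 1, false), (36, 1, false), (0, 0, false), (23, 3, true), (80, 3, false), (48, 5, true), (0, 0, false),
  (7, 3, false), (58, 3, false), (33, 1, false), (0, 0, false), (21, 1, true), (75, 7, true), (46, 5, false), (0, 0, false),
  (16, 1, false), (69, 1, true), (39, 7, false), (0, 0, false), (26, 5, false), (83, 25, false), (53, 1, false), (0, 0, false),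
  (2, 5, false), (54, 2, true), (29, 1, false), (83, 22, true), (18, 0, true), (71, 1, false), (41, 4, true), (0, 0, false),
  (11, 1, false), (64, 3, false), (35, 1, true), (0, 0, false), (23, 3, false), (78, 5, true), (48, 5, false), (0, 0, false),
  (5, 6, true), (57, 2, true), (32, 1, false), (0, 0, false), (21, 1, false), (75, 7, false), (45, 4, true), (0, 0, false),
  (14, 5, true), (69, 1, false), (38, 7, false), (0, 0, false), (25, 5, true), (83, 17, false), (52, 1, false), (0, 0, false),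
  (4, 5, false), (56, 1, true), (31, 1, false), (0, 0, false), (19, 2, true), (73, 7, false), (43, 5, false), (0, 0, false),
  (13, 3, false), (67, 1, false), (36, 1, true), (0, 0, false), (24, 3, false), (83, 1, false), (50, 3, false), (0, 0, false),
  (8, 5, false), (60, 3, false), (34, 1, false), (0, 0, false), (22, 1, false), (77, 5, false), (47, 5, false), (0, 0, false),
  (16, 4, true), (70, 1, false), (39, 7, true), (0, 0, false), (26, 5, true), (83, 6, true), (53, 1, true), (0, 0, false)]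
def hints : List (ℕ × ℕ × Bool) :=
  (hints_0 ++ (hints_1 ++ hints_2))

/-- subgroup words -/
def sw : List (List ℕ) := [[0], [1], [2], [3], [1, 4, 2, 3, 2, 3, 2, 3, 4, 1], [1, 4, 2, 1, 4, 1]]

def subs : List (List ℕ) := [[0], [1], [2], [3], [1, 4, 2, 3, 2, 3, 2, 3, 4, 1], [1, 4, 2, 1, 4, 1], [1, 4, 3, 2, 3, 2, 3, 2, 4, 1], [1, 4, 1, 2, 4, 1]]

/-- parameters -/
def P : Params := ⟨tab, 6, rots, subs⟩

def tree_0 : List ℕ := [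
  ]
def tree : List ℕ :=
  tree_0

def ph0_0 : List ℕ := [
  2048, 2049, 2050, 2051]

def ph1_0 : List Aux := [
  .node 0 4, .derive 1 [.bwd 0, .edge 0, .edge 1, .edge 0, .edge 1, .edge 0, .fwd 0] [0] (.rel 17), .node 1 2, .derive 2 [.bwd 0, .bwd 2, .edge 1, .edge 0, .edge 1, .fwd 2, .fwd 0] [0] (.rel 283), .derive 2 [.bwd 1, .bwd 2, .bwd 3, .edge 2, .fwd 3, .fwd 1] [4] (.rel 432), .node 2 3, .node 3 2, .node 4 3,
  .node 5 2, .derive 0 [.edge 1, .fwd 8] [1, 4, 2, 3, 2, 3, 2, 3] (.sub 6), .derive 6 [.bwd 1, .bwd 2, .bwd 3, .bwd 4, .bwd 7, .bwd 9, .edge 1, .fwd 0] [3] (.free), .derive 0 [.edge 1, .fwd 10] [1, 4, 2, 1] (.sub 7), .derive 2 [.bwd 9, .bwd 11, .edge 1, .fwd 0] [1] (.free), .derive 3 [.bwd 7, .fwd 0, .fwd 11, .bwd 0, .bwd 9, .fwd 0, .bwd 2] [1] (.rel 24), .derive 6 [.fwd 3, .bwd 1, .bwd 10, .fwd 1, .bwd 3, .bwd 0] [0] (.rel 161),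 .derive 4 [.bwd 8, .bwd 0, .bwd 1, .bwd 0, .bwd 1, .bwd 0, .bwd 6] [0] (.rel 9),
  .derive 5 [.bwd 0, .bwd 9, .bwd 1, .bwd 2, .bwd 1, .bwd 7] [1] (.rel 43), .derive 4 [.fwd 1, .fwd 8, .bwd 3, .bwd 2, .bwd 8, .bwd 1] [1] (.rel 47), .node 0 5, .node 1 5, .node 2 5, .derive 9 [.bwd 0, .fwd 8, .bwd 19, .bwd 8, .bwd 17, .fwd 8, .fwd 1] [1] (.rel 32), .node 3 4, .node 3 5,
  .derive 11 [.bwd 0, .bwd 18, .fwd 11, .bwd 23, .edge 3, .fwd 23, .fwd 4] [4] (.rel 693), .derive 5 [.fwd 16, .fwd 10, .fwd 1, .fwd 0, .bwd 5, .bwd 24, .edge 2, .fwd 6] [] (.rel 456), .derive 7 [.bwd 0] [] (.free), .derive 5 [.bwd 0, .bwd 8] [5] (.free), .derive 10 [.bwd 5, .fwd 4, .fwd 3, .bwd 8, .fwd 25, .bwd 24, .fwd 7] [2] (.rel 468), .derive 11 [.fwd 4, .bwd 9, .bwd 28, .bwd 1, .fwd 20, .fwd 14, .fwd 5] [2] (.rel 468), .derive 10 [.bwd 7, .fwd 6, .fwd 5, .bwd 10, .bwd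 19, .bwd 16, .fwd 7] [3] (.rel 690), .derive 4 [.fwd 15, .bwd 4, .bwd 12, .edge 1, .edge 0, .bwd 3, .bwd 14, .bwd 15] [5] (.rel 295),
  .node 4 4, .derive 12 [.bwd 0, .fwd 25, .bwd 16, .fwd 5, .fwd 32, .fwd 13, .bwd 8] [3] (.rel 635), .node 5 4, .derive 13 [.bwd 0, .bwd 19, .bwd 17, .fwd 19, .bwd 18, .bwd 19, .fwd 2] [0] (.rel 17), .node 6 4, .derive 14 [.bwd 0, .fwd 22, .fwd 23, .fwd 22, .fwd 23, .fwd 22, .fwd 14] [0] (.rel 17), .derive 14 [.bwd 1, .bwd 29, .fwd 10, .edge 2, .edge 0, .fwd 19, .fwd 11, .fwd 3] [5] (.rel 453), .node 6 5,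
  .derive 15 [.bwd 0, .bwd 26, .bwd 25, .bwd 26, .bwd 25, .bwd 26, .fwd 16] [1] (.rel 32), .node 8 0, .node 8 2, .derive 14 [.fwd 5, .fwd 14, .fwd 21, .fwd 0] [1] (.rel 127), .derive 17 [.bwd 0, .fwd 6, .bwd 13, .bwd 6] [3] (.rel 172), .node 8 3, .node 9 0, .derive 19 [.bwd 0, .fwd 25, .fwd 5] [1] (.rel 0),
  .node 9 3, .derive 20 [.bwd 0, .fwd 27, .fwd 7, .bwd 1, .bwd 2, .fwd 27, .fwd 3] [1] (.rel 24), .derive 20 [.bwd 1, .bwd 29, .fwd 37, .bwd 39, .bwd 36, .fwd 26, .bwd 16] [5] (.rel 612), .node 9 4, .derive 21 [.bwd 0, .bwd 23, .bwd 14, .bwd 15, .bwd 43, .fwd 17] [2] (.rel 431), .node 10 1, .derive 22 [.bwd 0, .bwd 16, .fwd 10] [0] (.rel 1), .derive 16 [.bwd 13, .fwd 12, .bwd 0, .bwd 1, .bwd 17, .fwd 11, .bwd 0] [2] (.rel 8),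
  .derive 22 [.bwd 2, .bwd 18, .fwd 12, .bwd 1, .bwd 2, .bwd 25, .fwd 2] [3] (.rel 25), .derive 17 [.bwd 2, .bwd 3, .bwd 19, .bwd 20, .bwd 43, .fwd 34, .fwd 3] [4] (.rel 66), .derive 22 [.fwd 1, .bwd 4, .bwd 35, .bwd 52, .bwd 53, .fwd 37, .fwd 6] [5] (.rel 694), .derive 21 [.bwd 0, .bwd 5, .bwd 21, .fwd 20, .fwd 23, .bwd 8, .fwd 9] [0] (.rel 299), .derive 19 [.fwd 12, .bwd 18, .bwd 38, .fwd 11, .fwd 10, .bwd 0] [3] (.rel 162), .derive 18 [.bwd 1, .fwd 8, .bwd 26, .bwd 44, .bwd 45, .bwd 43, .fwd 28] [2] (.rel 282), .node 10 5, .derive 23 [.bwd 0, .fwd 9, .fwd 8, .bwd 19, .fwd 25, .fwd 9, .fwd 4] [1] (.rel 32),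
  .derive 20 [.fwd 14, .bwd 4, .bwd 0, .bwd 1, .fwd 10, .fwd 5, .bwd 0] [0] (.rel 27), .derive 23 [.bwd 2, .fwd 11, .fwd 6, .bwd 4, .bwd 18, .fwd 43, .fwd 23] [3] (.rel 62), .derive 23 [.bwd 3, .bwd 43, .fwd 59, .bwd 34, .bwd 59, .bwd 51, .fwd 26] [4] (.rel 452), .node 12 1, .derive 24 [.bwd 0, .bwd 32, .bwd 15, .fwd 8, .bwd 18, .fwd 3] [2] (.rel 42), .derive 24 [.bwd 1, .bwd 36, .fwd 53, .bwd 52, .bwd 53, .fwd 36, .fwd 1] [4] (.rel 72), .derive 20 [.bwd 21, .bwd 41, .fwd 39, .fwd 41, .fwd 48, .bwd 45, .bwd 29, .bwd 3, .fwd 4, .fwd 14, .fwd 13, .bwd 14, .bwd 4, .bwd 1, .fwd 0, .bwd 2, .fwd 36, .bwd 40, .bwd 36, .bwd 8, .bwd 24, .fwd 27, .bwd 15, .bwd 12, .bwd 26, .bwd 25, .bwd 27] [] (.rel 766), .derive 20 [.fwd 0] [] (.free),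
  .derive 8 [.bwd 0, .fwd 21] [5] (.free), .derive 1 [.fwd 53, .fwd 0] [] (.free), .derive 12 [.bwd 0] [] (.free), .derive 1 [.bwd 0, .bwd 42] [4] (.free), .derive 0 [.fwd 75, .fwd 0] [] (.free), .derive 4 [.bwd 0] [] (.free), .derive 0 [.bwd 0, .bwd 46, .fwd 0] [5] (.free), .derive 7 [.bwd 60, .bwd 0] [] (.free),
  .derive 5 [.bwd 53, .fwd 0] [] (.free), .derive 7 [.fwd 54, .fwd 0] [] (.free), .derive 0 [.fwd 63, .fwd 0] [5] (.free), .commit 0]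
def ph1 : List Aux :=
  ph1_0

def ph2_0 : List ℕ := [
  ]

def ph3_0 : List Aux := [
  .node 0 4, .derive 25 [.bwd 0, .edge 2, .edge 5, .edge 2, .edge 0, .edge 5, .fwd 0] [5] (.rel 453), .derive 25 [.bwd 1, .edge 3, .edge 1, .edge 5, .fwd 1, .bwd 0, .bwd 1, .edge 3] [] (.rel 635), .derive 25 [.fwd 0] [] (.free), .derive 0 [.fwd 3, .fwd 0] [4] (.free), .commit 0]
def ph3 : List Aux :=
  ph3_0

def ph4_0 : List ℕ := [
  ]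

/-- known edges at a check point -/
def mask0 : ℕ := 0x0

theorem treeRun_ok : stIs (runList (treeStep P) tree ⟨1, 0, []⟩) 1 mask0 = true := by decide +kernel

def seg0 : List Phase := [.scans ph0_0, .aux ph1, .scans ph2_0, .aux ph3, .scans ph4_0]

theorem seg0_ok : stIs (runList (phaseStep P) seg0 ⟨1, mask0, []⟩) 26 (2 ^ (1 * P.k) - 1) = true := by decide +kernel

/-- the certificate -/
def phases : List Phase :=
  seg0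

theorem cert_ok : checkCert P 1 tree phases = true :=
  checkCert_of_run P treeRun_ok (run_last P seg0_ok)

theorem gen0_ok : genOK P 1 0 = true := by decide +kernel

theorem gen1_ok : genOK P 1 1 = true := by decide +kernel

theorem gen2_ok : genOK P 1 2 = true := by decide +kernel

theorem gen3_ok : genOK P 1 3 = true := by decide +kernel

theorem gen4_ok : genOK P 1 4 = true := by decide +kernel

theorem gen5_ok : genOK P 1 5 = true := by decide +kernel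

theorem tab_ok : tableOK P 1 = true := tableOK_of_gens P (by decide +kernel) (by decide +kernel) fun x hx =>
  match x, hx with
  | 0, _ => gen0_ok
  | 1, _ => gen1_ok
  | 2, _ => gen2_ok
  | 3, _ => gen3_ok
  | 4, _ => gen4_ok
  | 5, _ => gen5_ok
  | _ + 6, hx => absurd (show _ + 6 < 6 from hx) (by omega)

theorem base0_ok : Fixes P 1 [0, 1, 0, 1] :=
  fixes_of_powFix P (u := [0, 1]) (e := 2) (by decide +kernel) (by decide +kernel)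

theorem base1_ok : Fixes P 1 [0, 1, 0, 1, 0, 2, 0, 2] := fixes_of_wordFix P (by decide +kernel)

theorem base2_ok : Fixes P 1 [0, 1, 0, 1, 0, 4, 0, 4] := fixes_of_wordFix P (by decide +kernel)

theorem base3_ok : Fixes P 1 [0, 1, 0, 1, 3, 1, 3, 1] := fixes_of_wordFix P (by decide +kernel)

theorem base4_ok : Fixes P 1 [0, 1, 0, 1, 5, 1, 5, 1] := fixes_of_wordFix P (by decide +kernel)

theorem base5_ok : Fixes P 1 [0, 1, 0, 2, 0, 1, 2] := fixes_of_wordFix P (by decide +kernel)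

theorem base6_ok : Fixes P 1 [0, 1, 0, 3, 0, 1, 0, 3] :=
  fixes_of_powFix P (u := [0, 1, 0, 3]) (e := 2) (by decide +kernel) (by decide +kernel)

theorem base7_ok : Fixes P 1 [0, 1, 0, 3, 1, 3] := fixes_of_wordFix P (by decide +kernel)

theorem base8_ok : Fixes P 1 [0, 1, 0, 3, 5, 1, 5, 3] := fixes_of_wordFix P (by decide +kernel)

theorem base9_ok : Fixes P 1 [0, 1, 0, 4, 1, 4, 1, 4] := fixes_of_wordFix P (by decide +kernel)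

theorem base10_ok : Fixes P 1 [0, 1, 0, 5, 0, 1, 0, 5] :=
  fixes_of_powFix P (u := [0, 1, 0, 5]) (e := 2) (by decide +kernel) (by decide +kernel)

theorem base11_ok : Fixes P 1 [0, 1, 0, 5, 1, 5] := fixes_of_wordFix P (by decide +kernel)

theorem base12_ok : Fixes P 1 [0, 1, 0, 5, 3, 1, 3, 5] := fixes_of_wordFix P (by decide +kernel)

theorem base13_ok : Fixes P 1 [0, 1, 2, 0, 2, 1] := fixes_of_wordFix P (by decide +kernel)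

theorem base14_ok : Fixes P 1 [0, 1, 2, 0, 2, 5, 1, 5] := fixes_of_wordFix P (by decide +kernel)

theorem base15_ok : Fixes P 1 [0, 1, 2, 1, 0, 1, 2, 1] :=
  fixes_of_powFix P (u := [0, 1, 2, 1]) (e := 2) (by decide +kernel) (by decide +kernel)

theorem base16_ok : Fixes P 1 [0, 1, 2, 1, 2] := fixes_of_wordFix P (by decide +kernel)

theorem base17_ok : Fixes P 1 [0, 1, 2, 4, 0, 4, 2, 1] := fixes_of_wordFix P (by decide +kernel)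

theorem base18_ok : Fixes P 1 [0, 1, 2, 5, 1, 5, 2] := fixes_of_wordFix P (by decide +kernel)

theorem base19_ok : Fixes P 1 [0, 1, 3, 0, 1, 3, 1] := fixes_of_wordFix P (by decide +kernel)

theorem base20_ok : Fixes P 1 [0, 1, 3, 0, 3] := fixes_of_wordFix P (by decide +kernel)

theorem base21_ok : Fixes P 1 [0, 1, 3, 1, 3, 4, 0, 4] := fixes_of_wordFix P (by decide +kernel)

theorem base22_ok : Fixes P 1 [0, 1, 3, 4, 0, 4, 3] := fixes_of_wordFix P (by decide +kernel)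

theorem base23_ok : Fixes P 1 [0, 1, 4, 0, 1, 4, 1, 4] := fixes_of_wordFix P (by decide +kernel)

theorem base24_ok : Fixes P 1 [0, 1, 4, 0, 4, 1] := fixes_of_wordFix P (by decide +kernel)

theorem base25_ok : Fixes P 1 [0, 1, 4, 0, 4, 3, 1, 3] := fixes_of_wordFix P (by decide +kernel)

theorem base26_ok : Fixes P 1 [0, 1, 4, 0, 4, 5, 1, 5] := fixes_of_wordFix P (by decide +kernel)

theorem base27_ok : Fixes P 1 [0, 1, 4, 1, 0, 1, 4, 1] :=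
  fixes_of_powFix P (u := [0, 1, 4, 1]) (e := 2) (by decide +kernel) (by decide +kernel)

theorem base28_ok : Fixes P 1 [0, 1, 4, 1, 0, 4, 1, 4] := fixes_of_wordFix P (by decide +kernel)

theorem base29_ok : Fixes P 1 [0, 1, 4, 1, 4, 1, 0, 4] := fixes_of_wordFix P (by decide +kernel)

theorem base30_ok : Fixes P 1 [0, 1, 4, 2, 0, 2, 4, 1] := fixes_of_wordFix P (by decide +kernel)

theorem base31_ok : Fixes P 1 [0, 1, 5, 0, 1, 5, 0, 5] := fixes_of_wordFix P (by decide +kernel)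

theorem base32_ok : Fixes P 1 [0, 1, 5, 0, 5, 0, 5, 1] := fixes_of_wordFix P (by decide +kernel)

theorem base33_ok : Fixes P 1 [0, 1, 5, 0, 5, 1, 0, 5] := fixes_of_wordFix P (by decide +kernel)

theorem base34_ok : Fixes P 1 [0, 1, 5, 1, 0, 5, 0, 5] := fixes_of_wordFix P (by decide +kernel)

theorem base35_ok : Fixes P 1 [0, 1, 5, 1, 5, 2, 0, 2] := fixes_of_wordFix P (by decide +kernel)

theorem base36_ok : Fixes P 1 [0, 1, 5, 1, 5, 4, 0, 4] := fixes_of_wordFix P (by decide +kernel)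

theorem base37_ok : Fixes P 1 [0, 2, 0, 2] :=
  fixes_of_powFix P (u := [0, 2]) (e := 2) (by decide +kernel) (by decide +kernel)

theorem base38_ok : Fixes P 1 [0, 2, 0, 2, 0, 4, 0, 4] := fixes_of_wordFix P (by decide +kernel)

theorem base39_ok : Fixes P 1 [0, 2, 0, 2, 1, 5, 1, 5] := fixes_of_wordFix P (by decide +kernel)

theorem base40_ok : Fixes P 1 [0, 2, 1, 2, 0, 2, 1, 2] :=
  fixes_of_powFix P (u := [0, 2, 1, 2]) (e := 2) (by decide +kernel) (by decide +kernel)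

theorem base41_ok : Fixes P 1 [0, 2, 1, 2, 5, 1, 5] := fixes_of_wordFix P (by decide +kernel)

theorem base42_ok : Fixes P 1 [0, 2, 1, 4, 0, 4, 1, 2] := fixes_of_wordFix P (by decide +kernel)

theorem base43_ok : Fixes P 1 [0, 2, 4, 0, 4, 2] := fixes_of_wordFix P (by decide +kernel)

theorem base44_ok : Fixes P 1 [0, 2, 4, 2, 0, 2, 4, 2] :=
  fixes_of_powFix P (u := [0, 2, 4, 2]) (e := 2) (by decide +kernel) (by decide +kernel)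

theorem base45_ok : Fixes P 1 [0, 2, 4, 2, 4, 2, 4] := fixes_of_wordFix P (by decide +kernel)

theorem base46_ok : Fixes P 1 [0, 2, 5, 0, 5, 0, 5, 2] := fixes_of_wordFix P (by decide +kernel)

theorem base47_ok : Fixes P 1 [0, 2, 5, 2, 4, 5, 4, 5] := fixes_of_wordFix P (by decide +kernel)

theorem base48_ok : Fixes P 1 [0, 2, 5, 4, 5, 4, 2, 5] := fixes_of_wordFix P (by decide +kernel)

theorem base49_ok : Fixes P 1 [0, 3, 0, 3, 0, 3, 0, 3] :=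
  fixes_of_powFix P (u := [0, 3]) (e := 4) (by decide +kernel) (by decide +kernel)

theorem base50_ok : Fixes P 1 [0, 3, 0, 3, 5, 1, 5] := fixes_of_wordFix P (by decide +kernel)

theorem base51_ok : Fixes P 1 [0, 3, 1, 3, 0, 3, 1, 3] :=
  fixes_of_powFix P (u := [0, 3, 1, 3]) (e := 2) (by decide +kernel) (by decide +kernel)

theorem base52_ok : Fixes P 1 [0, 3, 1, 3, 0, 5, 1, 5] := fixes_of_wordFix P (by decide +kernel)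

theorem base53_ok : Fixes P 1 [0, 3, 1, 3, 1, 4, 0, 4] := fixes_of_wordFix P (by decide +kernel)

theorem base54_ok : Fixes P 1 [0, 3, 1, 4, 0, 4, 3] := fixes_of_wordFix P (by decide +kernel)

theorem base55_ok : Fixes P 1 [0, 4, 0, 4] :=
  fixes_of_powFix P (u := [0, 4]) (e := 2) (by decide +kernel) (by decide +kernel)

theorem base56_ok : Fixes P 1 [0, 4, 0, 4, 1, 5, 1, 5] := fixes_of_wordFix P (by decide +kernel)

theorem base57_ok : Fixes P 1 [0, 4, 1, 2, 1, 2, 4] := fixes_of_wordFix P (by decide +kernel)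

theorem base58_ok : Fixes P 1 [0, 4, 1, 4, 0, 4, 1, 4] :=
  fixes_of_powFix P (u := [0, 4, 1, 4]) (e := 2) (by decide +kernel) (by decide +kernel)

theorem base59_ok : Fixes P 1 [0, 4, 2, 4, 0, 4, 2, 4] :=
  fixes_of_powFix P (u := [0, 4, 2, 4]) (e := 2) (by decide +kernel) (by decide +kernel)

theorem base60_ok : Fixes P 1 [0, 4, 5, 0, 5, 0, 5, 4] := fixes_of_wordFix P (by decide +kernel)

theorem base61_ok : Fixes P 1 [0, 5, 0, 5, 0, 5] :=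
  fixes_of_powFix P (u := [0, 5]) (e := 3) (by decide +kernel) (by decide +kernel)

theorem base62_ok : Fixes P 1 [0, 5, 1, 5, 0, 5, 1, 5] :=
  fixes_of_powFix P (u := [0, 5, 1, 5]) (e := 2) (by decide +kernel) (by decide +kernel)

theorem base63_ok : Fixes P 1 [1, 2, 1, 2, 1, 2, 1, 2] :=
  fixes_of_powFix P (u := [1, 2]) (e := 4) (by decide +kernel) (by decide +kernel)

theorem base64_ok : Fixes P 1 [1, 2, 1, 4, 2, 4, 2, 4] := fixes_of_wordFix P (by decide +kernel)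

theorem base65_ok : Fixes P 1 [1, 3, 1, 3] :=
  fixes_of_powFix P (u := [1, 3]) (e := 2) (by decide +kernel) (by decide +kernel)

theorem base66_ok : Fixes P 1 [1, 3, 1, 3, 1, 5, 1, 5] := fixes_of_wordFix P (by decide +kernel)

theorem base67_ok : Fixes P 1 [1, 3, 1, 5, 3, 5, 3, 5] := fixes_of_wordFix P (by decide +kernel)

theorem base68_ok : Fixes P 1 [1, 3, 4, 1, 4, 1, 4, 3] := fixes_of_wordFix P (by decide +kernel)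

theorem base69_ok : Fixes P 1 [1, 3, 4, 3, 4, 5, 4, 5] := fixes_of_wordFix P (by decide +kernel)

theorem base70_ok : Fixes P 1 [1, 3, 5, 1, 3, 5, 3, 5] := fixes_of_wordFix P (by decide +kernel)

theorem base71_ok : Fixes P 1 [1, 3, 5, 1, 5, 3] := fixes_of_wordFix P (by decide +kernel)

theorem base72_ok : Fixes P 1 [1, 3, 5, 3, 1, 3, 5, 3] :=
  fixes_of_powFix P (u := [1, 3, 5, 3]) (e := 2) (by decide +kernel) (by decide +kernel)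

theorem base73_ok : Fixes P 1 [1, 3, 5, 3, 1, 5, 3, 5] := fixes_of_wordFix P (by decide +kernel)

theorem base74_ok : Fixes P 1 [1, 3, 5, 3, 5, 3, 1, 5] := fixes_of_wordFix P (by decide +kernel)

theorem base75_ok : Fixes P 1 [1, 3, 5, 4, 5, 4, 3, 4] := fixes_of_wordFix P (by decide +kernel)

theorem base76_ok : Fixes P 1 [1, 4, 1, 4, 1, 4] :=
  fixes_of_powFix P (u := [1, 4]) (e := 3) (by decide +kernel) (by decide +kernel)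

theorem base77_ok : Fixes P 1 [1, 4, 1, 4, 5, 1, 5, 4] := fixes_of_wordFix P (by decide +kernel)

theorem base78_ok : Fixes P 1 [1, 4, 5, 4, 3, 4, 3, 5] := fixes_of_wordFix P (by decide +kernel)

theorem base79_ok : Fixes P 1 [1, 5, 1, 5] :=
  fixes_of_powFix P (u := [1, 5]) (e := 2) (by decide +kernel) (by decide +kernel)

theorem base80_ok : Fixes P 1 [1, 5, 3, 5, 1, 5, 3, 5] :=
  fixes_of_powFix P (u := [1, 5, 3, 5]) (e := 2) (by decide +kernel) (by decide +kernel)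

theorem base81_ok : Fixes P 1 [2, 4, 5, 4, 2, 4, 5, 4] :=
  fixes_of_powFix P (u := [2, 4, 5, 4]) (e := 2) (by decide +kernel) (by decide +kernel)

theorem base82_ok : Fixes P 1 [3, 5, 3, 5, 3, 5] :=
  fixes_of_powFix P (u := [3, 5]) (e := 3) (by decide +kernel) (by decide +kernel)

theorem base83_ok : Fixes P 1 [2, 3, 2, 3, 2, 3, 1, 4, 2, 3, 2, 3, 2, 3, 4, 1, 4, 1, 2, 3, 2, 3, 2, 3, 1, 4, 0] := fixes_of_wordFix P (by decide +kernel)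

theorem base_ok : ∀ w ∈ base, Fixes P 1 w := by
  intro w hw
  rw [base] at hw
  rcases List.mem_cons.1 hw with rfl | hw
  · exact base0_ok
  rcases List.mem_cons.1 hw with rfl | hw
  · exact base1_ok
  rcases List.mem_cons.1 hw with rfl | hw
  · exact base2_ok
  rcases List.mem_cons.1 hw with rfl | hw
  · exact base3_ok
  rcases List.mem_cons.1 hw with rfl | hw
  · exact base4_ok
  rcases List.mem_cons.1 hw with rfl | hw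
  · exact base5_ok
  rcases List.mem_cons.1 hw with rfl | hw
  · exact base6_ok
  rcases List.mem_cons.1 hw with rfl | hw
  · exact base7_ok
  rcases List.mem_cons.1 hw with rfl | hw
  · exact base8_ok
  rcases List.mem_cons.1 hw with rfl | hw
  · exact base9_ok
  rcases List.mem_cons.1 hw with rfl | hw
  · exact base10_ok
  rcases List.mem_cons.1 hw with rfl | hw
  · exact base11_ok
  rcases List.mem_cons.1 hw with rfl | hw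
  · exact base12_ok
  rcases List.mem_cons.1 hw with rfl | hw
  · exact base13_ok
  rcases List.mem_cons.1 hw with rfl | hw
  · exact base14_ok
  rcases List.mem_cons.1 hw with rfl | hw
  · exact base15_ok
  rcases List.mem_cons.1 hw with rfl | hw
  · exact base16_ok
  rcases List.mem_cons.1 hw with rfl | hw
  · exact base17_ok
  rcases List.mem_cons.1 hw with rfl | hw
  · exact base18_ok
  rcases List.mem_cons.1 hw with rfl | hw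
  · exact base19_ok
  rcases List.mem_cons.1 hw with rfl | hw
  · exact base20_ok
  rcases List.mem_cons.1 hw with rfl | hw
  · exact base21_ok
  rcases List.mem_cons.1 hw with rfl | hw
  · exact base22_ok
  rcases List.mem_cons.1 hw with rfl | hw
  · exact base23_ok
  rcases List.mem_cons.1 hw with rfl | hw
  · exact base24_ok
  rcases List.mem_cons.1 hw with rfl | hw
  · exact base25_ok
  rcases List.mem_cons.1 hw with rfl | hw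
  · exact base26_ok
  rcases List.mem_cons.1 hw with rfl | hw
  · exact base27_ok
  rcases List.mem_cons.1 hw with rfl | hw
  · exact base28_ok
  rcases List.mem_cons.1 hw with rfl | hw
  · exact base29_ok
  rcases List.mem_cons.1 hw with rfl | hw
  · exact base30_ok
  rcases List.mem_cons.1 hw with rfl | hw
  · exact base31_ok
  rcases List.mem_cons.1 hw with rfl | hw
  · exact base32_ok
  rcases List.mem_cons.1 hw with rfl | hw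
  · exact base33_ok
  rcases List.mem_cons.1 hw with rfl | hw
  · exact base34_ok
  rcases List.mem_cons.1 hw with rfl | hw
  · exact base35_ok
  rcases List.mem_cons.1 hw with rfl | hw
  · exact base36_ok
  rcases List.mem_cons.1 hw with rfl | hw
  · exact base37_ok
  rcases List.mem_cons.1 hw with rfl | hw
  · exact base38_ok
  rcases List.mem_cons.1 hw with rfl | hw
  · exact base39_ok
  rcases List.mem_cons.1 hw with rfl | hw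
  · exact base40_ok
  rcases List.mem_cons.1 hw with rfl | hw
  · exact base41_ok
  rcases List.mem_cons.1 hw with rfl | hw
  · exact base42_ok
  rcases List.mem_cons.1 hw with rfl | hw
  · exact base43_ok
  rcases List.mem_cons.1 hw with rfl | hw
  · exact base44_ok
  rcases List.mem_cons.1 hw with rfl | hw
  · exact base45_ok
  rcases List.mem_cons.1 hw with rfl | hw
  · exact base46_ok
  rcases List.mem_cons.1 hw with rfl | hw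
  · exact base47_ok
  rcases List.mem_cons.1 hw with rfl | hw
  · exact base48_ok
  rcases List.mem_cons.1 hw with rfl | hw
  · exact base49_ok
  rcases List.mem_cons.1 hw with rfl | hw
  · exact base50_ok
  rcases List.mem_cons.1 hw with rfl | hw
  · exact base51_ok
  rcases List.mem_cons.1 hw with rfl | hw
  · exact base52_ok
  rcases List.mem_cons.1 hw with rfl | hw
  · exact base53_ok
  rcases List.mem_cons.1 hw with rfl | hw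
  · exact base54_ok
  rcases List.mem_cons.1 hw with rfl | hw
  · exact base55_ok
  rcases List.mem_cons.1 hw with rfl | hw
  · exact base56_ok
  rcases List.mem_cons.1 hw with rfl | hw
  · exact base57_ok
  rcases List.mem_cons.1 hw with rfl | hw
  · exact base58_ok
  rcases List.mem_cons.1 hw with rfl | hw
  · exact base59_ok
  rcases List.mem_cons.1 hw with rfl | hw
  · exact base60_ok
  rcases List.mem_cons.1 hw with rfl | hw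
  · exact base61_ok
  rcases List.mem_cons.1 hw with rfl | hw
  · exact base62_ok
  rcases List.mem_cons.1 hw with rfl | hw
  · exact base63_ok
  rcases List.mem_cons.1 hw with rfl | hw
  · exact base64_ok
  rcases List.mem_cons.1 hw with rfl | hw
  · exact base65_ok
  rcases List.mem_cons.1 hw with rfl | hw
  · exact base66_ok
  rcases List.mem_cons.1 hw with rfl | hw
  · exact base67_ok
  rcases List.mem_cons.1 hw with rfl | hw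
  · exact base68_ok
  rcases List.mem_cons.1 hw with rfl | hw
  · exact base69_ok
  rcases List.mem_cons.1 hw with rfl | hw
  · exact base70_ok
  rcases List.mem_cons.1 hw with rfl | hw
  · exact base71_ok
  rcases List.mem_cons.1 hw with rfl | hw
  · exact base72_ok
  rcases List.mem_cons.1 hw with rfl | hw
  · exact base73_ok
  rcases List.mem_cons.1 hw with rfl | hw
  · exact base74_ok
  rcases List.mem_cons.1 hw with rfl | hw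
  · exact base75_ok
  rcases List.mem_cons.1 hw with rfl | hw
  · exact base76_ok
  rcases List.mem_cons.1 hw with rfl | hw
  · exact base77_ok
  rcases List.mem_cons.1 hw with rfl | hw
  · exact base78_ok
  rcases List.mem_cons.1 hw with rfl | hw
  · exact base79_ok
  rcases List.mem_cons.1 hw with rfl | hw
  · exact base80_ok
  rcases List.mem_cons.1 hw with rfl | hw
  · exact base81_ok
  rcases List.mem_cons.1 hw with rfl | hw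
  · exact base82_ok
  rcases List.mem_cons.1 hw with rfl | hw
  · exact base83_ok
  exact absurd hw List.not_mem_nil

theorem rots_ok : rotsOK base rots.entries hints = true := by decide +kernel

theorem fix_ok : wordsFixBase P sw = true := by decide +kernel

theorem tree_ok : treeOK P tree 0 = true := by decide +kernel

theorem tree_len : tree.length + 1 = 1 := by decide +kernel

end Cfsg.Agent.GL23Amalgam.Data.GenM
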