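import Cfsg.Agent.Lib.Compute.CosetOrbit

/-! Coset enumeration certificate data (S3348, case L13). -/

set_option autoImplicit false
set_option maxRecDepth 100000
set_option Elab.async false

namespace Cfsg.Agent.GL23Amalgam.Data.L13

open Cfsg.Agent.CosetCert

/-- the coset table -/
def tab : Tab :=
  .leaf 0xb000c0009000b000c000c000c00080008000c000b000a000a00050007000a000a000b00050009000c0008000800090004000b000b00090009000700030004000a0007000700080006000600060002000500060009000a0004000400060004000800070005000500020005000700030003000300010003000200020002000600040001000100000001000100030002000000010000000000000000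

/-- base relators -/
def base : List (List ℕ) := [
  [2, 3, 2, 3],
  [2, 3, 2, 3, 2, 1, 2, 1],
  [2, 3, 2, 3, 2, 5, 2, 5],
  [2, 3, 2, 3, 4, 3, 4, 3],
  [2, 3, 2, 3, 0, 3, 0, 3],
  [2, 3, 2, 1, 2, 3, 1],
  [2, 3, 2, 4, 2, 3, 2, 4],
  [2, 3, 2, 4, 3, 4],
  [2, 3, 2, 4, 0, 3, 0, 4],
  [2, 3, 2, 5, 3, 5, 3, 5],
  [2, 3, 2, 0, 2, 3, 2, 0],
  [2, 3, 2, 0, 3, 0],
  [2, 3, 2, 0, 4, 3, 4, 0],
  [2, 3, 1, 2, 1, 3],
  [2, 3, 1, 2, 1, 0, 3, 0],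
  [2, 3, 1, 3, 2, 3, 1, 3],
  [2, 3, 1, 3, 1],
  [2, 3, 1, 5, 2, 5, 1, 3],
  [2, 3, 1, 0, 3, 0, 1],
  [2, 3, 4, 2, 3, 4, 3],
  [2, 3, 4, 2, 4],
  [2, 3, 4, 3, 4, 5, 2, 5],
  [2, 3, 4, 5, 2, 5, 4],
  [2, 3, 5, 2, 3, 5, 3, 5],
  [2, 3, 5, 2, 5, 3],
  [2, 3, 5, 2, 5, 4, 3, 4],
  [2, 3, 5, 2, 5, 0, 3, 0],
  [2, 3, 5, 3, 2, 3, 5, 3],
  [2, 3, 5, 3, 2, 5, 3, 5],
  [2, 3, 5, 3, 5, 3, 2, 5],
  [2, 3, 5, 1, 2, 1, 5, 3],
  [2, 3, 0, 2, 3, 0, 2, 0],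
  [2, 3, 0, 2, 0, 2, 0, 3],
  [2, 3, 0, 2, 0, 3, 2, 0],
  [2, 3, 0, 3, 2, 0, 2, 0],
  [2, 3, 0, 3, 0, 1, 2, 1],
  [2, 3, 0, 3, 0, 5, 2, 5],
  [2, 1, 2, 1],
  [2, 1, 2, 1, 2, 5, 2, 5],
  [2, 1, 2, 1, 3, 0, 3, 0],
  [2, 1, 3, 1, 2, 1, 3, 1],
  [2, 1, 3, 1, 0, 3, 0],
  [2, 1, 3, 5, 2, 5, 3, 1],
  [2, 1, 5, 2, 5, 1],
  [2, 1, 5, 1, 2, 1, 5, 1],
  [2, 1, 5, 1, 5, 1, 5],
  [2, 1, 0, 2, 0, 2, 0, 1],
  [2, 1, 0, 1, 5, 0, 5, 0],
  [2, 1, 0, 5, 0, 5, 1, 0],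
  [2, 4, 2, 4, 2, 4, 2, 4],
  [2, 4, 2, 4, 0, 3, 0],
  [2, 4, 3, 4, 2, 4, 3, 4],
  [2, 4, 3, 4, 2, 0, 3, 0],
  [2, 4, 3, 4, 3, 5, 2, 5],
  [2, 4, 3, 5, 2, 5, 4],
  [2, 5, 2, 5],
  [2, 5, 2, 5, 3, 0, 3, 0],
  [2, 5, 3, 1, 3, 1, 5],
  [2, 5, 3, 5, 2, 5, 3, 5],
  [2, 5, 1, 5, 2, 5, 1, 5],
  [2, 5, 0, 2, 0, 2, 0, 5],
  [2, 0, 2, 0, 2, 0],
  [2, 0, 3, 0, 2, 0, 3, 0],
  [3, 1, 3, 1, 3, 1, 3, 1],
  [3, 1, 3, 5, 1, 5, 1, 5],
  [3, 4, 3, 4],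
  [3, 4, 3, 4, 3, 0, 3, 0],
  [3, 4, 3, 0, 4, 0, 4, 0],
  [3, 4, 5, 3, 5, 3, 5, 4],
  [3, 4, 5, 4, 5, 0, 5, 0],
  [3, 4, 0, 3, 4, 0, 4, 0],
  [3, 4, 0, 3, 0, 4],
  [3, 4, 0, 4, 3, 4, 0, 4],
  [3, 4, 0, 4, 3, 0, 4, 0],
  [3, 4, 0, 4, 0, 4, 3, 0],
  [3, 4, 0, 5, 0, 5, 4, 5],
  [3, 5, 3, 5, 3, 5],
  [3, 5, 3, 5, 0, 3, 0, 5],
  [3, 5, 0, 5, 4, 5, 4, 0],
  [3, 0, 3, 0],
  [3, 0, 4, 0, 3, 0, 4, 0],
  [1, 5, 0, 5, 1, 5, 0, 5],
  [4, 0, 4, 0, 4, 0],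
  [1, 4, 1, 4, 1, 4, 3, 5, 1, 4, 1, 4, 1, 4, 5, 3, 5, 3, 1, 4, 1, 4, 1, 4, 3, 5],
  [1, 4, 1, 4, 1, 4, 1, 4, 1, 4, 1, 4]]

/-- rotations of the relators -/
def rots : WTab :=
  (.node (.node (.node (.node (.node (.node (.node (.node (.node (.node (.leaf [2, 3, 2, 3]) (.leaf [5, 3, 4, 3, 4, 2, 5, 2])) (.node (.leaf [3, 2, 0, 3, 0, 5, 2, 5]) (.leaf [3, 5, 3, 5, 4, 1, 4, 1, 4, 1, 5, 3, 4, 1, 4, 1, 4, 1, 5, 3, 4, 1, 4, 1, 4, 1]))) (.node (.node (.leaf [2, 3, 1, 5, 2, 5, 1, 3]) (.leaf [0, 3, 4, 0, 4, 0, 3, 4])) (.node (.leaf [2, 1, 3, 1, 2, 1, 3, 1]) (.leaf [2, 3, 2, 3])))) (.node (.node (.node (.leaf [0, 4, 2, 3, 2, 4, 0, 3]) (.leaf [0, 2, 0, 5, 2, 5, 0, 2])) (.node (.leaf [0, 3, 2, 0, 2, 0, 2, 3]) (.leaf [2, 3, 2, 3]))) (.node (.node (.leaf [4, 5, 2, 5, 4, 2, 3]) (.leaf [0, 5, 3, 5, 3, 5, 0, 3])) (.node (.leaf [5, 0, 2, 1, 0, 1, 5, 0]) (.leaf [2, 3, 2,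 3]))))) (.node (.node (.node (.node (.leaf [0, 3, 2, 3, 2, 3, 0, 3]) (.leaf [0, 3, 5, 2, 5, 2, 0, 3])) (.node (.leaf [0, 2, 3, 0, 2, 0, 2, 3]) (.leaf [2, 3, 2, 3]))) (.node (.node (.leaf [2, 4, 3, 2, 3, 4, 3]) (.leaf [3, 4, 0, 4, 0, 4, 3, 0])) (.node (.leaf [2, 1, 5, 1, 2, 1, 5, 1]) (.leaf [2, 3, 2, 3])))) (.node (.node (.node (.leaf [1, 3, 2, 3, 1, 2]) (.leaf [3, 0, 4, 0, 4, 0, 3, 4])) (.node (.leaf [5, 0, 3, 0, 3, 2, 5, 2]) (.leaf [2, 3, 2, 3]))) (.node (.node (.leaf [5, 3, 2, 3, 5, 2]) (.leaf [1, 4, 1, 4, 3, 5, 1, 4, 1, 4, 1, 4, 5, 3, 5, 3, 1, 4, 1, 4, 1, 4, 3, 5, 1, 4])) (.node (.leaf [0, 3, 0, 2, 4, 2, 4]) (.leaf [2, 3, 2, 3])))))) (.node (.node (.node (.node (.node (.leaf [2, 5, 2, 3, 2, 3, 2, 5]) (.leaf [5, 3, 4, 2, 4, 5, 2])) (.node (.leaf [5, 3, 5, 3, 2, 5, 2, 3]) (.leaf [4, 1, 5, 3, 4, 1, 4, 1, 4, 1, 3, 5, 3, 5, 4, 1, 4, 1, 4, 1, 5, 3, 4, 1,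 4, 1]))) (.node (.node (.leaf [0, 3, 0, 1, 3, 2, 1]) (.leaf [0, 3, 0, 4, 3, 4])) (.node (.leaf [1, 2, 0, 3, 0, 1, 3]) (.leaf [2, 3, 2, 3])))) (.node (.node (.node (.leaf [2, 0, 3, 0, 2, 3]) (.leaf [1, 5, 1, 5, 3, 1, 3, 5])) (.node (.leaf [1, 0, 3, 0, 3, 2, 1, 2]) (.leaf [2, 3, 2, 3]))) (.node (.node (.leaf [3, 5, 3, 5, 2, 3, 5, 2]) (.leaf [5, 3, 0, 4, 5, 4, 5, 0])) (.node (.leaf [1, 0, 2, 1, 0, 5, 0, 5]) (.leaf [2, 3, 2, 3]))))) (.node (.node (.node (.node (.leaf [2, 3, 2, 4, 2, 3, 2, 4]) (.leaf [1, 3, 5, 2, 5, 1, 3])) (.node (.leaf [0, 2, 0, 2, 0, 3, 2, 3]) (.leaf [2, 3, 2, 3]))) (.node (.node (.leaf [4, 3, 4, 5, 2, 5, 2, 3]) (.leaf [5, 4, 5, 0, 5, 0, 4, 3])) (.node (.leaf [1, 2, 5, 1, 5, 1, 5]) (.leaf [2, 3, 2, 3])))) (.node (.node (.node (.leaf [3, 2, 0, 3, 0, 1, 2, 1]) (.leaf [5, 4, 5, 0, 5, 0, 3, 4])) (.node (.leaf [2, 1, 2, 1, 3, 0, 3, 0]) (.leaf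 [2, 3, 2, 3]))) (.node (.node (.leaf [3, 2, 4, 3, 4, 5, 2, 5]) (.leaf [1, 4, 1, 4, 1, 4, 3, 5, 1, 4, 1, 4, 1, 4, 3, 5, 1, 4, 1, 4, 1, 4, 5, 3, 5, 3])) (.node (.leaf [3, 4, 2, 0, 3, 0, 2, 4]) (.leaf [2, 3, 2, 3]))))))) (.node (.node (.node (.node (.node (.node (.leaf [2, 1, 2, 3, 2, 3, 2, 1]) (.leaf [3, 5, 2, 5, 4, 2, 4])) (.node (.leaf [5, 3, 2, 5, 3, 5, 2, 3]) (.leaf [4, 1, 5, 3, 4, 1, 4, 1, 4, 1, 5, 3, 4, 1, 4, 1, 4, 1, 3, 5, 3, 5, 4, 1, 4, 1]))) (.node (.node (.leaf [2, 3, 1, 0, 3, 0, 1]) (.leaf [0, 4, 3, 0, 4, 3, 0, 4])) (.node (.leaf [0, 3, 0, 2, 1, 3, 1]) (.leaf [2, 3, 2, 3])))) (.node (.node (.node (.leaf [3, 5, 2, 3, 2, 5, 3, 5]) (.leaf [3, 0, 2, 0, 3, 0, 2, 0])) (.node (.leaf [0, 3, 0, 1, 2, 1, 2, 3]) (.leaf [2, 3, 2, 3]))) (.node (.node (.leaf [5, 4, 3, 2, 4, 5, 2]) (.leaf [4, 0, 3, 5, 0, 5, 4, 5])) (.node (.leaf [1, 2, 0, 5, 0, 5, 1, 0]) (.leaf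 [2, 3, 2, 3]))))) (.node (.node (.node (.node (.leaf [1, 2, 3, 2, 1, 2, 3]) (.leaf [3, 1, 3, 1, 5, 2, 5])) (.node (.leaf [0, 3, 2, 0, 3, 2, 0, 2]) (.leaf [2, 3, 2, 3]))) (.node (.node (.leaf [4, 2, 3, 4, 2]) (.leaf [3, 4, 0, 5, 0, 5, 4, 5])) (.node (.leaf [5, 1, 5, 2, 1, 5, 1]) (.leaf [2, 3, 2, 3])))) (.node (.node (.node (.leaf [3, 0, 2, 3, 1, 2, 1, 0]) (.leaf [5, 3, 5, 3, 5, 4, 3, 4])) (.node (.leaf [2, 1, 2, 1, 2, 5, 2, 5]) (.leaf [2, 3, 2, 3]))) (.node (.node (.leaf [3, 4, 2, 3, 5, 2, 5, 4]) (.leaf [1, 4, 1, 4, 5, 3, 5, 3, 1, 4, 1, 4, 1, 4, 3, 5, 1, 4, 1, 4, 1, 4, 3, 5, 1, 4])) (.node (.leaf [4, 2, 0, 3, 0, 4, 2]) (.leaf [2, 3, 2, 3])))))) (.node (.node (.node (.node (.node (.leaf [4, 3, 2, 3, 2, 3, 4, 3]) (.leaf [2, 5, 3, 0, 3, 0, 2, 5])) (.node (.leaf [5, 1, 2, 1, 5, 3, 2, 3]) (.leaf [2, 3, 2, 3]))) (.node (.node (.leaf [4, 2, 3, 4, 3, 2, 3]) (.leaf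 [3, 4, 0, 4, 3, 0, 4, 0])) (.node (.leaf [3, 1, 2, 1, 3, 5, 2, 5]) (.leaf [2, 3, 2, 3])))) (.node (.node (.node (.leaf [4, 3, 4, 0, 2, 3, 2, 0]) (.leaf [3, 4, 3, 0, 3, 0, 3, 4])) (.node (.leaf [0, 3, 0, 5, 2, 5, 2, 3]) (.leaf [2, 3, 2, 3]))) (.node (.node (.leaf [2, 5, 3, 2, 5, 3, 5, 3]) (.leaf [1, 5, 0, 5, 1, 5, 0, 5])) (.node (.leaf [1, 2, 0, 1, 5, 0, 5, 0]) (.leaf [2, 3, 2, 3]))))) (.node (.node (.node (.node (.leaf [3, 4, 2, 3, 2, 4]) (.leaf [2, 5, 1, 5, 2, 5, 1, 5])) (.node (.leaf [0, 2, 0, 3, 2, 0, 2, 3]) (.leaf [2, 3, 2, 3]))) (.node (.node (.leaf [5, 4, 3, 4, 3, 2, 5, 2]) (.leaf [3, 5, 3, 5, 3, 5])) (.node (.leaf [0, 1, 2, 1, 0, 2, 0, 2]) (.leaf [2, 3, 2, 3])))) (.node (.node (.node (.leaf [1, 3, 1, 2, 3]) (.leaf [0, 5, 4, 5, 4, 3, 0, 5])) (.node (.leaf [0, 3, 0, 3, 1, 2, 1, 2]) (.leaf [2, 3, 2, 3]))) (.node (.node (.leaf [3, 0, 2, 3, 5, 2, 5,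 0]) (.leaf [5, 3, 4, 1, 4, 1, 4, 1, 3, 5, 3, 5, 4, 1, 4, 1, 4, 1, 5, 3, 4, 1, 4, 1, 4, 1])) (.node (.leaf [3, 4, 3, 5, 2, 5, 2, 4]) (.leaf [2, 3, 2, 3])))))))) (.node (.node (.node (.node (.node (.node (.node (.leaf [2, 3, 2, 1, 2, 1, 2, 3]) (.leaf [4, 2, 5, 2, 5, 3, 4, 3])) (.node (.leaf [5, 3, 2, 3, 5, 3, 2, 3]) (.leaf [4, 1, 4, 1, 4, 1, 5, 3, 4, 1, 4, 1, 4, 1, 5, 3, 4, 1, 4, 1, 4, 1, 3, 5, 3, 5]))) (.node (.node (.leaf [2, 5, 1, 3, 2, 3, 1, 5]) (.leaf [4, 0, 3, 4, 0, 3, 4, 0])) (.node (.leaf [2, 1, 3, 1, 0, 3, 0]) (.leaf [2, 3, 2, 3])))) (.node (.node (.node (.leaf [2, 5, 3, 5, 3, 5, 2, 3]) (.leaf [2, 0, 2, 0, 2, 0])) (.node (.leaf [2, 0, 2, 3, 0, 3, 2, 0]) (.leaf [2, 3, 2, 3]))) (.node (.node (.leaf [4, 2, 3, 4, 5, 2, 5]) (.leaf [0, 5, 4, 5, 4, 0, 3, 5])) (.node (.leaf [0, 5, 1, 0, 1, 2, 0, 5]) (.leaf [2, 3, 2, 3]))))) (.node (.node (.node (.node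 (.leaf [2, 1, 2, 3, 1, 2, 3]) (.leaf [5, 2, 0, 3, 0, 3, 5, 2])) (.node (.leaf [2, 0, 2, 3, 0, 2, 3, 0]) (.leaf [2, 3, 2, 3]))) (.node (.node (.leaf [2, 3, 4, 2, 4]) (.leaf [0, 4, 3, 0, 3, 4, 0, 4])) (.node (.leaf [2, 1, 5, 1, 5, 1, 5]) (.leaf [2, 3, 2, 3])))) (.node (.node (.node (.leaf [1, 2, 1, 0, 3, 0, 2, 3]) (.leaf [4, 0, 3, 4, 3, 0, 4, 0])) (.node (.leaf [3, 2, 5, 2, 5, 0, 3, 0]) (.leaf [2, 3, 2, 3]))) (.node (.node (.leaf [5, 2, 5, 4, 3, 4, 2, 3]) (.leaf [3, 5, 1, 4, 1, 4, 1, 4, 5, 3, 5, 3, 1, 4, 1, 4, 1, 4, 3, 5, 1, 4, 1, 4, 1, 4])) (.node (.leaf [3, 0, 4, 2, 4, 2, 0]) (.leaf [2, 3, 2, 3])))))) (.node (.node (.node (.node (.node (.leaf [2, 3, 4, 3, 4, 3, 2, 3]) (.leaf [2, 5, 2, 5])) (.node (.leaf [2, 5, 2, 3, 5, 3, 5, 3]) (.leaf [2, 3, 2, 3]))) (.node (.node (.leaf [3, 2, 1, 0, 3, 0, 1]) (.leaf [3, 4, 0, 4, 3, 4, 0, 4])) (.node (.leaf [3, 5, 2,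 5, 3, 1, 2, 1]) (.leaf [2, 3, 2, 3])))) (.node (.node (.node (.leaf [2, 3, 2, 0, 4, 3, 4, 0]) (.leaf [3, 4, 3, 4])) (.node (.leaf [3, 2, 1, 2, 1, 0, 3, 0]) (.leaf [2, 3, 2, 3]))) (.node (.node (.leaf [5, 3, 5, 3, 2, 5, 3, 2]) (.leaf [3, 0, 4, 0, 3, 0, 4, 0])) (.node (.leaf [5, 0, 5, 0, 1, 2, 0, 1]) (.leaf [2, 3, 2, 3]))))) (.node (.node (.node (.node (.leaf [2, 3, 2, 4, 3, 4]) (.leaf [2, 5, 3, 5, 2, 5, 3, 5])) (.node (.leaf [0, 3, 2, 3, 0, 2, 0, 2]) (.leaf [2, 3, 2, 3]))) (.node (.node (.leaf [2, 5, 2, 3, 4, 3, 4, 5]) (.leaf [5, 0, 4, 3, 5, 4, 5, 0])) (.node (.leaf [0, 2, 0, 2, 0, 1, 2, 1]) (.leaf [2, 3, 2, 3])))) (.node (.node (.node (.leaf [1, 3, 2, 3, 1, 3, 2, 3]) (.leaf [5, 0, 3, 4, 5, 4, 5, 0])) (.node (.leaf [3, 0, 3, 0, 2, 1, 2, 1]) (.leaf [2, 3, 2, 3]))) (.node (.node (.leaf [5, 2, 5, 0, 3, 0, 2, 3]) (.leaf [1, 4, 3, 5, 1, 4, 1, 4, 1, 4, 3, 5,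 1, 4, 1, 4, 1, 4, 5, 3, 5, 3, 1, 4, 1, 4])) (.node (.leaf [3, 0, 2, 4, 3, 4, 2, 0]) (.leaf [2, 3, 2, 3]))))))) (.node (.node (.node (.node (.node (.node (.leaf [2, 3, 2, 5, 2, 5, 2, 3]) (.leaf [4, 2, 4, 3, 5, 2, 5])) (.node (.leaf [3, 5, 2, 3, 5, 3, 2, 5]) (.leaf [4, 1, 4, 1, 4, 1, 5, 3, 4, 1, 4, 1, 4, 1, 3, 5, 3, 5, 4, 1, 4, 1, 4, 1, 5, 3]))) (.node (.node (.leaf [3, 0, 1, 2, 3, 1, 0]) (.leaf [4, 3, 0, 4, 0, 4, 3, 0])) (.node (.leaf [3, 0, 1, 3, 1, 2, 0]) (.leaf [2, 3, 2, 3])))) (.node (.node (.node (.leaf [2, 0, 2, 3, 2, 0, 2, 3]) (.leaf [3, 1, 3, 5, 1, 5, 1, 5])) (.node (.leaf [2, 1, 2, 3, 0, 3, 0, 1]) (.leaf [2, 3, 2, 3]))) (.node (.node (.leaf [2, 3, 5, 2, 3, 5, 3, 5]) (.leaf [5, 4, 5, 0, 5, 3, 0, 4])) (.node (.leaf [0, 5, 0, 5, 1, 0, 2, 1]) (.leaf [2, 3, 2, 3]))))) (.node (.node (.node (.node (.leaf [1, 2, 3, 2, 1, 3, 2]) (.leaf [5, 2, 5, 3, 1,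 3, 1])) (.node (.leaf [3, 2, 0, 2, 0, 3, 2, 0]) (.leaf [2, 3, 2, 3]))) (.node (.node (.leaf [3, 2, 4, 2, 4]) (.leaf [0, 5, 4, 5, 3, 4, 0, 5])) (.node (.leaf [1, 5, 1, 5, 1, 2, 5]) (.leaf [2, 3, 2, 3])))) (.node (.node (.node (.leaf [0, 1, 2, 1, 3, 2, 0, 3]) (.leaf [5, 4, 3, 4, 5, 3, 5, 3])) (.node (.leaf [2, 5, 2, 5, 2, 1, 2, 1]) (.leaf [2, 3, 2, 3]))) (.node (.node (.leaf [4, 5, 2, 5, 3, 2, 4, 3]) (.leaf [5, 3, 5, 3, 1, 4, 1, 4, 1, 4, 3, 5, 1, 4, 1, 4, 1, 4, 3, 5, 1, 4, 1, 4, 1, 4])) (.node (.leaf [3, 4, 2, 4, 3, 4, 2, 4]) (.leaf [2, 3, 2, 3])))))) (.node (.node (.node (.node (.node (.leaf [2, 3, 0, 3, 0, 3, 2, 3]) (.leaf [3, 0, 2, 5, 2, 5, 3, 0])) (.node (.leaf [5, 3, 2, 3, 5, 1, 2, 1]) (.leaf [2, 3, 2, 3]))) (.node (.node (.leaf [3, 2, 3, 4, 2, 3, 4]) (.leaf [3, 0, 4, 0, 3, 4, 0, 4])) (.node (.leaf [5, 2, 5, 1, 2, 1]) (.leaf [2, 3, 2, 3])))) (.node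 (.node (.node (.leaf [2, 3, 1, 2, 1, 3]) (.leaf [3, 0, 3, 4, 3, 4, 3, 0])) (.node (.leaf [2, 5, 2, 3, 0, 3, 0, 5]) (.leaf [2, 3, 2, 3]))) (.node (.node (.leaf [2, 3, 5, 2, 5, 3]) (.leaf [4, 0, 4, 0, 4, 0])) (.node (.leaf [2, 4, 2, 4, 0, 3, 0]) (.leaf [2, 3, 2, 3]))))) (.node (.node (.node (.node (.leaf [2, 4, 0, 3, 0, 4, 2, 3]) (.leaf [2, 5, 0, 2, 0, 2, 0, 5])) (.node (.leaf [2, 0, 2, 3, 0, 2, 0, 3]) (.leaf [2, 3, 2, 3]))) (.node (.node (.leaf [3, 2, 5, 2, 5, 4, 3, 4]) (.leaf [3, 5, 0, 3, 0, 5, 3, 5])) (.node (.leaf [0, 1, 5, 0, 5, 0, 2, 1]) (.leaf [2, 3, 2, 3])))) (.node (.node (.node (.leaf [3, 1, 3, 2, 1]) (.leaf [4, 3, 0, 5, 0, 5, 4, 5])) (.node (.leaf [1, 2, 1, 2, 0, 3, 0, 3]) (.leaf [2, 3, 2, 3]))) (.node (.node (.leaf [0, 5, 2, 5, 3, 2, 0, 3]) (.leaf [4, 1, 4, 1, 3, 5, 3, 5, 4, 1, 4, 1, 4, 1, 5, 3, 4, 1, 4, 1, 4, 1, 5, 3, 4, 1])) (.node (.leaf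 [2, 5, 2, 4, 3, 4, 3, 5]) (.leaf [2, 3, 2, 3]))))))))) (.node (.node (.node (.node (.node (.node (.node (.node (.leaf [2, 3, 2, 3, 2, 1, 2, 1]) (.leaf [4, 3, 4, 2, 5, 2, 5, 3])) (.node (.leaf [2, 3, 5, 3, 2, 3, 5, 3]) (.leaf [3, 5, 4, 1, 4, 1, 4, 1, 5, 3, 4, 1, 4, 1, 4, 1, 5, 3, 4, 1, 4, 1, 4, 1, 3, 5]))) (.node (.node (.leaf [1, 5, 2, 5, 1, 3, 2, 3]) (.leaf [4, 0, 4, 0, 3, 4, 0, 3])) (.node (.leaf [3, 1, 2, 1, 3, 1, 2, 1]) (.leaf [2, 3, 2, 3])))) (.node (.node (.node (.leaf [2, 3, 2, 5, 3, 5, 3, 5]) (.leaf [0, 5, 2, 5, 0, 2, 0, 2])) (.node (.leaf [2, 0, 2, 0, 2, 3, 0, 3]) (.leaf [2, 3, 2, 3]))) (.node (.node (.leaf [2, 5, 4, 2, 3, 4, 5]) (.leaf [3, 5, 0, 5, 4, 5, 4, 0])) (.node (.leaf [0, 5, 0, 5, 1, 0, 1, 2]) (.leaf [2, 3, 2, 3]))))) (.node (.node (.node (.node (.leaf [2, 3, 2, 1, 2, 3, 1]) (.leaf [5, 2, 5, 2, 0, 3, 0, 3])) (.node (.leaf [3, 0, 2,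 0, 2, 3, 0, 2]) (.leaf [2, 3, 2, 3]))) (.node (.node (.leaf [3, 2, 3, 4, 3, 2, 4]) (.leaf [0, 4, 0, 4, 3, 0, 3, 4])) (.node (.leaf [5, 1, 2, 1, 5, 1, 2, 1]) (.leaf [2, 3, 2, 3])))) (.node (.node (.node (.leaf [2, 3, 1, 2, 1, 0, 3, 0]) (.leaf [4, 0, 4, 0, 3, 4, 3, 0])) (.node (.leaf [3, 0, 3, 2, 5, 2, 5, 0]) (.leaf [2, 3, 2, 3]))) (.node (.node (.leaf [2, 3, 5, 2, 5, 4, 3, 4]) (.leaf [1, 4, 3, 5, 1, 4, 1, 4, 1, 4, 5, 3, 5, 3, 1, 4, 1, 4, 1, 4, 3, 5, 1, 4, 1, 4])) (.node (.leaf [0, 2, 4, 2, 4, 0, 3]) (.leaf [2, 3, 2, 3])))))) (.node (.node (.node (.node (.node (.leaf [2, 3, 2, 3, 4, 3, 4, 3]) (.leaf [4, 2, 4, 5, 2, 5, 3])) (.node (.leaf [5, 3, 2, 5, 2, 3, 5, 3]) (.leaf [1, 4, 1, 4, 1, 4, 1, 4, 1, 4, 1, 4]))) (.node (.node (.leaf [0, 1, 3, 2, 1, 0, 3]) (.leaf [0, 4, 3, 4, 0, 3])) (.node (.leaf [2, 1, 3, 5, 2, 5, 3, 1]) (.leaf [2, 3, 2, 3])))) (.node (.node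 (.node (.leaf [3, 0, 2, 3, 2, 0]) (.leaf [1, 5, 3, 1, 3, 5, 1, 5])) (.node (.leaf [3, 0, 3, 2, 1, 2, 1, 0]) (.leaf [2, 3, 2, 3]))) (.node (.node (.leaf [3, 5, 2, 3, 5, 2, 3, 5]) (.leaf [3, 0, 3, 0])) (.node (.leaf [0, 1, 5, 0, 5, 0, 1, 2]) (.leaf [2, 3, 2, 3]))))) (.node (.node (.node (.node (.leaf [2, 4, 2, 3, 2, 4, 2, 3]) (.leaf [5, 2, 5, 1, 3, 1, 3])) (.node (.leaf [0, 2, 0, 3, 2, 3, 0, 2]) (.leaf [2, 3, 2, 3]))) (.node (.node (.leaf [4, 5, 2, 5, 2, 3, 4, 3]) (.leaf [5, 0, 5, 0, 4, 3, 5, 4])) (.node (.leaf [2, 1, 0, 2, 0, 2, 0, 1]) (.leaf [2, 3, 2, 3])))) (.node (.node (.node (.leaf [2, 3, 1, 3, 2, 3, 1, 3]) (.leaf [5, 0, 5, 0, 3, 4, 5, 4])) (.node (.leaf [2, 1, 3, 0, 3, 0, 2, 1]) (.leaf [2, 3, 2, 3]))) (.node (.node (.leaf [2, 3, 5, 2, 5, 0, 3, 0]) (.leaf [1, 4, 1, 4, 3, 5, 1, 4, 1, 4, 1, 4, 3, 5, 1, 4, 1, 4, 1, 4, 5, 3, 5, 3, 1, 4])) (.node (.leaf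 [2, 0, 3, 0, 2, 4, 3, 4]) (.leaf [2, 3, 2, 3]))))))) (.node (.node (.node (.node (.node (.node (.leaf [2, 3, 2, 3, 2, 5, 2, 5]) (.leaf [2, 5, 4, 2, 4, 3, 5])) (.node (.leaf [2, 5, 3, 5, 2, 3, 5, 3]) (.leaf [5, 3, 4, 1, 4, 1, 4, 1, 5, 3, 4, 1, 4, 1, 4, 1, 3, 5, 3, 5, 4, 1, 4, 1, 4, 1]))) (.node (.node (.leaf [1, 0, 3, 0, 1, 2, 3]) (.leaf [3, 0, 4, 3, 0, 4, 0, 4])) (.node (.leaf [0, 2, 1, 3, 1, 0, 3]) (.leaf [2, 3, 2, 3])))) (.node (.node (.node (.leaf [2, 3, 2, 0, 2, 3, 2, 0]) (.leaf [3, 1, 3, 1, 3, 1, 3, 1])) (.node (.leaf [0, 1, 2, 1, 2, 3, 0, 3]) (.leaf [2, 3, 2, 3]))) (.node (.node (.leaf [3, 2, 4, 5, 2, 5, 4]) (.leaf [0, 4, 5, 4, 5, 0, 5, 3])) (.node (.leaf [2, 1, 0, 5, 0, 5, 1, 0]) (.leaf [2, 3, 2, 3]))))) (.node (.node (.node (.node (.leaf [3, 2, 1, 2, 3, 2, 1]) (.leaf [3, 1, 5, 2, 5, 3, 1])) (.node (.leaf [2, 0, 3, 2, 0, 2, 0, 3]) (.leaf [2, 3,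 2, 3]))) (.node (.node (.leaf [2, 4, 3, 2, 4]) (.leaf [0, 5, 0, 5, 4, 5, 3, 4])) (.node (.leaf [5, 2, 1, 5, 1, 5, 1]) (.leaf [2, 3, 2, 3])))) (.node (.node (.node (.leaf [0, 3, 0, 1, 2, 1, 3, 2]) (.leaf [5, 3, 5, 4, 3, 4, 5, 3])) (.node (.leaf [2, 1, 2, 5, 2, 5, 2, 1]) (.leaf [2, 3, 2, 3]))) (.node (.node (.leaf [4, 3, 4, 5, 2, 5, 3, 2]) (.leaf [1, 4, 5, 3, 5, 3, 1, 4, 1, 4, 1, 4, 3, 5, 1, 4, 1, 4, 1, 4, 3, 5, 1, 4, 1, 4])) (.node (.leaf [2, 4, 3, 4, 2, 4, 3, 4]) (.leaf [2, 3, 2, 3])))))) (.node (.node (.node (.node (.node (.leaf [2, 3, 2, 3, 0, 3, 0, 3]) (.leaf [3, 0, 3, 0, 2, 5, 2, 5])) (.node (.leaf [2, 1, 5, 3, 2, 3, 5, 1]) (.leaf [2, 3, 2, 3]))) (.node (.node (.leaf [3, 4, 3, 2, 3, 4, 2]) (.leaf [0, 4, 3, 0, 4, 0, 3, 4])) (.node (.leaf [2, 1, 5, 2, 5, 1]) (.leaf [2, 3, 2, 3])))) (.node (.node (.node (.leaf [4, 0, 2, 3, 2, 0, 4, 3]) (.leaf [3, 0,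 3, 0, 3, 4, 3, 4])) (.node (.leaf [0, 5, 2, 5, 2, 3, 0, 3]) (.leaf [2, 3, 2, 3]))) (.node (.node (.leaf [3, 2, 5, 3, 5, 3, 2, 5]) (.leaf [0, 5, 1, 5, 0, 5, 1, 5])) (.node (.leaf [2, 4, 2, 4, 2, 4, 2, 4]) (.leaf [2, 3, 2, 3]))))) (.node (.node (.node (.node (.leaf [2, 3, 2, 4, 0, 3, 0, 4]) (.leaf [1, 5, 2, 5, 1, 5, 2, 5])) (.node (.leaf [0, 3, 2, 0, 2, 3, 0, 2]) (.leaf [2, 3, 2, 3]))) (.node (.node (.leaf [3, 4, 3, 2, 5, 2, 5, 4]) (.leaf [3, 5, 3, 5, 0, 3, 0, 5])) (.node (.leaf [2, 1, 0, 1, 5, 0, 5, 0]) (.leaf [2, 3, 2, 3])))) (.node (.node (.node (.leaf [1, 2, 3, 1, 3]) (.leaf [4, 5, 4, 3, 0, 5, 0, 5])) (.node (.leaf [0, 3, 1, 2, 1, 2, 0, 3]) (.leaf [2, 3, 2, 3]))) (.node (.node (.leaf [0, 3, 0, 5, 2, 5, 3, 2]) (.leaf [4, 1, 4, 1, 4, 1, 3, 5, 3, 5, 4, 1, 4, 1, 4, 1, 5, 3, 4, 1, 4, 1, 4, 1, 5, 3])) (.node (.leaf [3, 5, 2, 5, 2, 4, 3, 4]) (.leaf [2, 3,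 2, 3])))))))) (.node (.node (.node (.node (.node (.node (.node (.leaf [2, 1, 2, 1, 2, 3, 2, 3]) (.leaf [2, 4, 3, 5, 2, 5, 4])) (.node (.leaf [2, 3, 5, 3, 2, 5, 3, 5]) (.leaf [4, 1, 4, 1, 5, 3, 4, 1, 4, 1, 4, 1, 5, 3, 4, 1, 4, 1, 4, 1, 3, 5, 3, 5, 4, 1]))) (.node (.node (.leaf [1, 3, 2, 3, 1, 5, 2, 5]) (.leaf [0, 4, 0, 4, 3, 0, 4, 3])) (.node (.leaf [3, 1, 0, 3, 0, 2, 1]) (.leaf [2, 3, 2, 3])))) (.node (.node (.node (.leaf [3, 5, 3, 5, 2, 3, 2, 5]) (.leaf [2, 0, 3, 0, 2, 0, 3, 0])) (.node (.leaf [2, 3, 0, 3, 0, 1, 2, 1]) (.leaf [2, 3, 2, 3]))) (.node (.node (.leaf [5, 2, 5, 4, 3, 2, 4]) (.leaf [4, 5, 4, 0, 3, 5, 0, 5])) (.node (.leaf [1, 0, 1, 2, 0, 5, 0, 5]) (.leaf [2, 3, 2, 3]))))) (.node (.node (.node (.node (.leaf [2, 3, 1, 2, 3, 2, 1]) (.leaf [2, 5, 3, 1, 3, 1, 5])) (.node (.leaf [0, 2, 0, 3, 2, 0, 3, 2]) (.leaf [2, 3, 2, 3]))) (.node (.node (.leaf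 [4, 2, 4, 2, 3]) (.leaf [3, 0, 3, 4, 0, 4, 0, 4])) (.node (.leaf [5, 1, 5, 1, 5, 2, 1]) (.leaf [2, 3, 2, 3])))) (.node (.node (.node (.leaf [1, 0, 3, 0, 2, 3, 1, 2]) (.leaf [3, 4, 5, 3, 5, 3, 5, 4])) (.node (.leaf [2, 1, 2, 1]) (.leaf [2, 3, 2, 3]))) (.node (.node (.leaf [5, 4, 3, 4, 2, 3, 5, 2]) (.leaf [1, 4, 1, 4, 1, 4, 5, 3, 5, 3, 1, 4, 1, 4, 1, 4, 3, 5, 1, 4, 1, 4, 1, 4, 3, 5])) (.node (.leaf [4, 2, 4, 2, 0, 3, 0]) (.leaf [2, 3, 2, 3])))))) (.node (.node (.node (.node (.node (.leaf [4, 3, 4, 3, 2, 3, 2, 3]) (.leaf [2, 5, 2, 5, 3, 0, 3, 0])) (.node (.leaf [2, 3, 5, 1, 2, 1, 5, 3]) (.leaf [2, 3, 2, 3]))) (.node (.node (.leaf [2, 3, 4, 2, 3, 4, 3]) (.leaf [0, 4, 3, 4, 0, 4, 3, 4])) (.node (.leaf [2, 5, 3, 1, 2, 1, 3, 5]) (.leaf [2, 3, 2, 3])))) (.node (.node (.node (.leaf [2, 0, 4, 3, 4, 0, 2, 3]) (.leaf [3, 4, 3, 4, 3, 0, 3, 0])) (.node (.leaf [2,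 3, 0, 3, 0, 5, 2, 5]) (.leaf [2, 3, 2, 3]))) (.node (.node (.leaf [5, 3, 2, 5, 3, 2, 5, 3]) (.leaf [4, 0, 3, 0, 4, 0, 3, 0])) (.node (.leaf [5, 0, 1, 2, 0, 1, 5, 0]) (.leaf [2, 3, 2, 3]))))) (.node (.node (.node (.node (.leaf [2, 4, 3, 4, 2, 3]) (.leaf [3, 5, 2, 5, 3, 5, 2, 5])) (.node (.leaf [2, 3, 0, 2, 0, 3, 2, 0]) (.leaf [2, 3, 2, 3]))) (.node (.node (.leaf [5, 2, 5, 4, 3, 4, 3, 2]) (.leaf [4, 3, 5, 4, 5, 0, 5, 0])) (.node (.leaf [0, 2, 0, 1, 2, 1, 0, 2]) (.leaf [2, 3, 2, 3])))) (.node (.node (.node (.leaf [2, 3, 1, 3, 1]) (.leaf [0, 5, 0, 5, 4, 5, 4, 3])) (.node (.leaf [3, 0, 2, 1, 2, 1, 3, 0]) (.leaf [2, 3, 2, 3]))) (.node (.node (.leaf [5, 0, 3, 0, 2, 3, 5, 2]) (.leaf [3, 5, 1, 4, 1, 4, 1, 4, 3, 5, 1, 4, 1, 4, 1, 4, 5, 3, 5, 3, 1, 4, 1, 4, 1, 4])) (.node (.leaf [2, 4, 3, 4, 3, 5, 2, 5]) (.leaf [2, 3, 2, 3]))))))) (.node (.node (.node (.node (.node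 (.node (.leaf [2, 5, 2, 5, 2, 3, 2, 3]) (.leaf [5, 2, 5, 3, 4, 2, 4])) (.node (.leaf [2, 3, 5, 3, 5, 3, 2, 5]) (.leaf [4, 1, 4, 1, 5, 3, 4, 1, 4, 1, 4, 1, 3, 5, 3, 5, 4, 1, 4, 1, 4, 1, 5, 3, 4, 1]))) (.node (.node (.leaf [1, 2, 3, 1, 0, 3, 0]) (.leaf [3, 4, 0, 3, 0, 4])) (.node (.leaf [1, 3, 1, 2, 0, 3, 0]) (.leaf [2, 3, 2, 3])))) (.node (.node (.node (.leaf [2, 3, 2, 0, 3, 0]) (.leaf [3, 5, 1, 5, 1, 5, 3, 1])) (.node (.leaf [1, 2, 1, 0, 3, 0, 3, 2]) (.leaf [2, 3, 2, 3]))) (.node (.node (.leaf [5, 2, 3, 5, 3, 5, 2, 3]) (.leaf [5, 0, 5, 3, 0, 4, 5, 4])) (.node (.leaf [0, 5, 1, 0, 2, 1, 0, 5]) (.leaf [2, 3, 2, 3]))))) (.node (.node (.node (.node (.leaf [3, 2, 1, 3, 2, 1, 2]) (.leaf [1, 3, 1, 3, 5, 2, 5])) (.node (.leaf [2, 3, 0, 2, 0, 2, 0, 3]) (.leaf [2, 3, 2, 3]))) (.node (.node (.leaf [2, 3, 4, 3, 4, 5, 2, 5]) (.leaf [4, 5, 3, 4, 0, 5, 0, 5])) (.node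 (.leaf [1, 5, 1, 2, 5, 1, 5]) (.leaf [2, 3, 2, 3])))) (.node (.node (.node (.leaf [2, 1, 3, 2, 0, 3, 0, 1]) (.leaf [3, 4, 5, 4, 5, 0, 5, 0])) (.node (.leaf [2, 5, 2, 1, 2, 1, 2, 5]) (.leaf [2, 3, 2, 3]))) (.node (.node (.leaf [2, 5, 3, 2, 4, 3, 4, 5]) (.leaf [5, 3, 1, 4, 1, 4, 1, 4, 3, 5, 1, 4, 1, 4, 1, 4, 3, 5, 1, 4, 1, 4, 1, 4, 5, 3])) (.node (.leaf [2, 4, 3, 4, 2, 0, 3, 0]) (.leaf [2, 3, 2, 3])))))) (.node (.node (.node (.node (.node (.leaf [0, 3, 0, 3, 2, 3, 2, 3]) (.leaf [0, 3, 0, 3, 5, 2, 5, 2])) (.node (.leaf [2, 3, 0, 2, 3, 0, 2, 0]) (.leaf [2, 3, 2, 3]))) (.node (.node (.leaf [4, 3, 2, 4, 3, 2, 3]) (.leaf [4, 0, 3, 4, 0, 4, 3, 0])) (.node (.leaf [5, 1, 2, 1, 5, 2]) (.leaf [2, 3, 2, 3])))) (.node (.node (.node (.leaf [1, 2, 1, 3, 2, 3]) (.leaf [3, 4, 3, 0, 4, 0, 4, 0])) (.node (.leaf [5, 2, 5, 0, 3, 0, 3, 2]) (.leaf [2, 3, 2, 3]))) (.node (.node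 (.leaf [5, 2, 5, 3, 2, 3]) (.leaf [1, 4, 1, 4, 1, 4, 3, 5, 1, 4, 1, 4, 1, 4, 5, 3, 5, 3, 1, 4, 1, 4, 1, 4, 3, 5])) (.node (.leaf [2, 4, 0, 3, 0, 2, 4]) (.leaf [2, 3, 2, 3]))))) (.node (.node (.node (.node (.leaf [0, 3, 0, 4, 2, 3, 2, 4]) (.leaf [0, 2, 0, 2, 0, 5, 2, 5])) (.node (.leaf [2, 3, 0, 3, 2, 0, 2, 0]) (.leaf [2, 3, 2, 3]))) (.node (.node (.leaf [2, 3, 4, 5, 2, 5, 4]) (.leaf [0, 3, 0, 5, 3, 5, 3, 5])) (.node (.leaf [5, 0, 5, 0, 2, 1, 0, 1]) (.leaf [2, 3, 2, 3])))) (.node (.node (.node (.leaf [3, 2, 1, 3, 1]) (.leaf [3, 4, 0, 3, 4, 0, 4, 0])) (.node (.leaf [1, 2, 0, 3, 0, 3, 1, 2]) (.leaf [2, 3, 2, 3]))) (.node (.node (.leaf [2, 5, 3, 2, 0, 3, 0, 5]) (.leaf [4, 1, 3, 5, 3, 5, 4, 1, 4, 1, 4, 1, 5, 3, 4, 1, 4, 1, 4, 1, 5, 3, 4, 1, 4, 1])) (.node (.leaf [5, 2, 5, 3, 4, 3, 4, 2]) (.leaf [2, 3, 2, 3])))))))))) (.node (.node (.node (.node (.node (.node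 (.node (.node (.node (.leaf [3, 2, 3, 2]) (.leaf [3, 4, 3, 4, 2, 5, 2, 5])) (.node (.leaf [2, 0, 3, 0, 5, 2, 5, 3]) (.leaf [5, 3, 5, 4, 1, 4, 1, 4, 1, 5, 3, 4, 1, 4, 1, 4, 1, 5, 3, 4, 1, 4, 1, 4, 1, 3]))) (.node (.node (.leaf [3, 1, 5, 2, 5, 1, 3, 2]) (.leaf [3, 4, 0, 4, 0, 3, 4, 0])) (.node (.leaf [1, 3, 1, 2, 1, 3, 1, 2]) (.leaf [2, 3, 2, 3])))) (.node (.node (.node (.leaf [4, 2, 3, 2, 4, 0, 3, 0]) (.leaf [2, 0, 5, 2, 5, 0, 2, 0])) (.node (.leaf [3, 2, 0, 2, 0, 2, 3, 0]) (.leaf [2, 3, 2, 3]))) (.node (.node (.leaf [5, 2, 5, 4, 2, 3, 4]) (.leaf [5, 3, 5, 3, 5, 0, 3, 0])) (.node (.leaf [0, 2, 1, 0, 1, 5, 0, 5]) (.leaf [2, 3, 2, 3]))))) (.node (.node (.node (.node (.leaf [3, 2, 3, 2, 3, 0, 3, 0]) (.leaf [3, 5, 2, 5, 2, 0, 3, 0])) (.node (.leaf [2, 3, 0, 2, 0, 2, 3, 0]) (.leaf [2, 3, 2, 3]))) (.node (.node (.leaf [4, 3, 2, 3, 4, 3, 2]) (.leaf [4, 0, 4,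 0, 4, 3, 0, 3])) (.node (.leaf [1, 5, 1, 2, 1, 5, 1, 2]) (.leaf [2, 3, 2, 3])))) (.node (.node (.node (.leaf [3, 2, 3, 1, 2, 1]) (.leaf [0, 4, 0, 4, 0, 3, 4, 3])) (.node (.leaf [0, 3, 0, 3, 2, 5, 2, 5]) (.leaf [2, 3, 2, 3]))) (.node (.node (.leaf [3, 2, 3, 5, 2, 5]) (.leaf [4, 1, 4, 3, 5, 1, 4, 1, 4, 1, 4, 5, 3, 5, 3, 1, 4, 1, 4, 1, 4, 3, 5, 1, 4, 1])) (.node (.leaf [3, 0, 2, 4, 2, 4, 0]) (.leaf [2, 3, 2, 3])))))) (.node (.node (.node (.node (.node (.leaf [5, 2, 3, 2, 3, 2, 5, 2]) (.leaf [3, 4, 2, 4, 5, 2, 5])) (.node (.leaf [3, 5, 3, 2, 5, 2, 3, 5]) (.leaf [1, 5, 3, 4, 1, 4, 1, 4, 1, 3, 5, 3, 5, 4, 1, 4, 1, 4, 1, 5, 3, 4, 1, 4, 1, 4]))) (.node (.node (.leaf [3, 0, 1, 3, 2, 1, 0]) (.leaf [3, 0, 4, 3, 4, 0])) (.node (.leaf [2, 0, 3, 0, 1, 3, 1]) (.leaf [2, 3, 2, 3])))) (.node (.node (.node (.leaf [0, 3, 0, 2, 3, 2]) (.leaf [5, 1, 5, 3, 1, 3, 5, 1])) (.node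 (.leaf [0, 3, 0, 3, 2, 1, 2, 1]) (.leaf [2, 3, 2, 3]))) (.node (.node (.leaf [5, 3, 5, 2, 3, 5, 2, 3]) (.leaf [3, 0, 4, 5, 4, 5, 0, 5])) (.node (.leaf [0, 2, 1, 0, 5, 0, 5, 1]) (.leaf [2, 3, 2, 3]))))) (.node (.node (.node (.node (.leaf [3, 2, 4, 2, 3, 2, 4, 2]) (.leaf [3, 5, 2, 5, 1, 3, 1])) (.node (.leaf [2, 0, 2, 0, 3, 2, 3, 0]) (.leaf [2, 3, 2, 3]))) (.node (.node (.leaf [3, 4, 5, 2, 5, 2, 3, 4]) (.leaf [4, 5, 0, 5, 0, 4, 3, 5])) (.node (.leaf [2, 5, 1, 5, 1, 5, 1]) (.leaf [2, 3, 2, 3])))) (.node (.node (.node (.leaf [2, 0, 3, 0, 1, 2, 1, 3]) (.leaf [4, 5, 0, 5, 0, 3, 4, 5])) (.node (.leaf [1, 2, 1, 3, 0, 3, 0, 2]) (.leaf [2, 3, 2, 3]))) (.node (.node (.leaf [2, 4, 3, 4, 5, 2, 5, 3]) (.leaf [4, 1, 4, 1, 4, 3, 5, 1, 4, 1, 4, 1, 4, 3, 5, 1, 4, 1, 4, 1, 4, 5, 3, 5, 3, 1])) (.node (.leaf [4, 2, 0, 3, 0, 2, 4, 3]) (.leaf [2, 3, 2, 3]))))))) (.node (.node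 (.node (.node (.node (.node (.leaf [1, 2, 3, 2, 3, 2, 1, 2]) (.leaf [5, 2, 5, 4, 2, 4, 3])) (.node (.leaf [3, 2, 5, 3, 5, 2, 3, 5]) (.leaf [1, 5, 3, 4, 1, 4, 1, 4, 1, 5, 3, 4, 1, 4, 1, 4, 1, 3, 5, 3, 5, 4, 1, 4, 1, 4]))) (.node (.node (.leaf [3, 1, 0, 3, 0, 1, 2]) (.leaf [4, 3, 0, 4, 3, 0, 4, 0])) (.node (.leaf [3, 0, 2, 1, 3, 1, 0]) (.leaf [2, 3, 2, 3])))) (.node (.node (.node (.leaf [5, 2, 3, 2, 5, 3, 5, 3]) (.leaf [0, 2, 0, 3, 0, 2, 0, 3])) (.node (.leaf [3, 0, 1, 2, 1, 2, 3, 0]) (.leaf [2, 3, 2, 3]))) (.node (.node (.leaf [4, 3, 2, 4, 5, 2, 5]) (.leaf [0, 3, 5, 0, 5, 4, 5, 4])) (.node (.leaf [2, 0, 5, 0, 5, 1, 0, 1]) (.leaf [2, 3, 2, 3]))))) (.node (.node (.node (.node (.leaf [1, 3, 2, 1, 2, 3, 2]) (.leaf [1, 3, 1, 5, 2, 5, 3])) (.node (.leaf [3, 2, 0, 3, 2, 0, 2, 0]) (.leaf [2, 3, 2, 3]))) (.node (.node (.leaf [4, 2, 4, 3, 2]) (.leaf [4, 0, 5, 0,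 5, 4, 5, 3])) (.node (.leaf [1, 5, 2, 1, 5, 1, 5]) (.leaf [2, 3, 2, 3])))) (.node (.node (.node (.leaf [0, 2, 3, 1, 2, 1, 0, 3]) (.leaf [3, 5, 3, 5, 4, 3, 4, 5])) (.node (.leaf [1, 2, 1, 2, 5, 2, 5, 2]) (.leaf [2, 3, 2, 3]))) (.node (.node (.leaf [4, 2, 3, 5, 2, 5, 4, 3]) (.leaf [4, 1, 4, 5, 3, 5, 3, 1, 4, 1, 4, 1, 4, 3, 5, 1, 4, 1, 4, 1, 4, 3, 5, 1, 4, 1])) (.node (.leaf [2, 0, 3, 0, 4, 2, 4]) (.leaf [2, 3, 2, 3])))))) (.node (.node (.node (.node (.node (.leaf [3, 2, 3, 2, 3, 4, 3, 4]) (.leaf [5, 3, 0, 3, 0, 2, 5, 2])) (.node (.leaf [1, 2, 1, 5, 3, 2, 3, 5]) (.leaf [2, 3, 2, 3]))) (.node (.node (.leaf [2, 3, 4, 3, 2, 3, 4]) (.leaf [4, 0, 4, 3, 0, 4, 0, 3])) (.node (.leaf [1, 2, 1, 3, 5, 2, 5, 3]) (.leaf [2, 3, 2, 3])))) (.node (.node (.node (.leaf [3, 4, 0, 2, 3, 2, 0, 4]) (.leaf [4, 3, 0, 3, 0, 3, 4, 3])) (.node (.leaf [3, 0, 5, 2, 5, 2, 3, 0]) (.leaf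 [2, 3, 2, 3]))) (.node (.node (.leaf [5, 3, 2, 5, 3, 5, 3, 2]) (.leaf [5, 0, 5, 1, 5, 0, 5, 1])) (.node (.leaf [2, 0, 1, 5, 0, 5, 0, 1]) (.leaf [2, 3, 2, 3]))))) (.node (.node (.node (.node (.leaf [4, 2, 3, 2, 4, 3]) (.leaf [5, 1, 5, 2, 5, 1, 5, 2])) (.node (.leaf [2, 0, 3, 2, 0, 2, 3, 0]) (.leaf [2, 3, 2, 3]))) (.node (.node (.leaf [4, 3, 4, 3, 2, 5, 2, 5]) (.leaf [5, 3, 5, 3, 5, 3])) (.node (.leaf [1, 2, 1, 0, 2, 0, 2, 0]) (.leaf [2, 3, 2, 3])))) (.node (.node (.node (.leaf [3, 1, 2, 3, 1]) (.leaf [5, 4, 5, 4, 3, 0, 5, 0])) (.node (.leaf [3, 0, 3, 1, 2, 1, 2, 0]) (.leaf [2, 3, 2, 3]))) (.node (.node (.leaf [0, 2, 3, 5, 2, 5, 0, 3]) (.leaf [3, 4, 1, 4, 1, 4, 1, 3, 5, 3, 5, 4, 1, 4, 1, 4, 1, 5, 3, 4, 1, 4, 1, 4, 1, 5])) (.node (.leaf [4, 3, 5, 2, 5, 2, 4, 3]) (.leaf [2, 3, 2, 3])))))))) (.node (.node (.node (.node (.node (.node (.node (.leaf [3, 2, 1,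 2, 1, 2, 3, 2]) (.leaf [2, 5, 2, 5, 3, 4, 3, 4])) (.node (.leaf [3, 2, 3, 5, 3, 2, 3, 5]) (.leaf [1, 4, 1, 4, 1, 5, 3, 4, 1, 4, 1, 4, 1, 5, 3, 4, 1, 4, 1, 4, 1, 3, 5, 3, 5, 4]))) (.node (.node (.leaf [5, 1, 3, 2, 3, 1, 5, 2]) (.leaf [0, 3, 4, 0, 3, 4, 0, 4])) (.node (.leaf [1, 3, 1, 0, 3, 0, 2]) (.leaf [2, 3, 2, 3])))) (.node (.node (.node (.leaf [5, 3, 5, 3, 5, 2, 3, 2]) (.leaf [0, 2, 0, 2, 0, 2])) (.node (.leaf [0, 2, 3, 0, 3, 2, 0, 2]) (.leaf [2, 3, 2, 3]))) (.node (.node (.leaf [4, 5, 2, 5, 4, 3, 2]) (.leaf [5, 4, 5, 4, 0, 3, 5, 0])) (.node (.leaf [5, 1, 0, 1, 2, 0, 5, 0]) (.leaf [2, 3, 2, 3]))))) (.node (.node (.node (.node (.leaf [1, 2, 3, 1, 2, 3, 2]) (.leaf [2, 0, 3, 0, 3, 5, 2, 5])) (.node (.leaf [0, 2, 3, 0, 2, 3, 0, 2]) (.leaf [2, 3, 2, 3]))) (.node (.node (.leaf [3, 4, 2, 4, 2]) (.leaf [4, 3, 0, 3, 4, 0, 4, 0])) (.node (.leaf [1, 5, 1, 5,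 1, 5, 2]) (.leaf [2, 3, 2, 3])))) (.node (.node (.node (.leaf [2, 1, 0, 3, 0, 2, 3, 1]) (.leaf [0, 3, 4, 3, 0, 4, 0, 4])) (.node (.leaf [2, 5, 2, 5, 0, 3, 0, 3]) (.leaf [2, 3, 2, 3]))) (.node (.node (.leaf [2, 5, 4, 3, 4, 2, 3, 5]) (.leaf [5, 1, 4, 1, 4, 1, 4, 5, 3, 5, 3, 1, 4, 1, 4, 1, 4, 3, 5, 1, 4, 1, 4, 1, 4, 3])) (.node (.leaf [0, 4, 2, 4, 2, 0, 3]) (.leaf [2, 3, 2, 3])))))) (.node (.node (.node (.node (.node (.leaf [3, 4, 3, 4, 3, 2, 3, 2]) (.leaf [5, 2, 5, 2])) (.node (.leaf [5, 2, 3, 5, 3, 5, 3, 2]) (.leaf [2, 3, 2, 3]))) (.node (.node (.leaf [2, 1, 0, 3, 0, 1, 3]) (.leaf [4, 0, 4, 3, 4, 0, 4, 3])) (.node (.leaf [5, 2, 5, 3, 1, 2, 1, 3]) (.leaf [2, 3, 2, 3])))) (.node (.node (.node (.leaf [3, 2, 0, 4, 3, 4, 0, 2]) (.leaf [4, 3, 4, 3])) (.node (.leaf [2, 1, 2, 1, 0, 3, 0, 3]) (.leaf [2, 3, 2, 3]))) (.node (.node (.leaf [3, 5, 3, 2, 5, 3, 2, 5])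 (.leaf [0, 4, 0, 3, 0, 4, 0, 3])) (.node (.leaf [0, 5, 0, 1, 2, 0, 1, 5]) (.leaf [2, 3, 2, 3]))))) (.node (.node (.node (.node (.leaf [3, 2, 4, 3, 4, 2]) (.leaf [5, 3, 5, 2, 5, 3, 5, 2])) (.node (.leaf [3, 2, 3, 0, 2, 0, 2, 0]) (.leaf [2, 3, 2, 3]))) (.node (.node (.leaf [5, 2, 3, 4, 3, 4, 5, 2]) (.leaf [0, 4, 3, 5, 4, 5, 0, 5])) (.node (.leaf [2, 0, 2, 0, 1, 2, 1, 0]) (.leaf [2, 3, 2, 3])))) (.node (.node (.node (.leaf [3, 2, 3, 1, 3, 2, 3, 1]) (.leaf [0, 3, 4, 5, 4, 5, 0, 5])) (.node (.leaf [0, 3, 0, 2, 1, 2, 1, 3]) (.leaf [2, 3, 2, 3]))) (.node (.node (.leaf [2, 5, 0, 3, 0, 2, 3, 5]) (.leaf [4, 3, 5, 1, 4, 1, 4, 1, 4, 3, 5, 1, 4, 1, 4, 1, 4, 5, 3, 5, 3, 1, 4, 1, 4, 1])) (.node (.leaf [0, 2, 4, 3, 4, 2, 0, 3]) (.leaf [2, 3, 2, 3]))))))) (.node (.node (.node (.node (.node (.node (.leaf [3, 2, 5, 2, 5, 2, 3, 2]) (.leaf [4, 5, 2, 5, 3, 4, 2])) (.node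 (.leaf [5, 2, 3, 5, 3, 2, 5, 3]) (.leaf [1, 4, 1, 4, 1, 5, 3, 4, 1, 4, 1, 4, 1, 3, 5, 3, 5, 4, 1, 4, 1, 4, 1, 5, 3, 4]))) (.node (.node (.leaf [0, 1, 2, 3, 1, 0, 3]) (.leaf [3, 0, 4, 0, 4, 3, 0, 4])) (.node (.leaf [0, 1, 3, 1, 2, 0, 3]) (.leaf [2, 3, 2, 3])))) (.node (.node (.node (.leaf [0, 2, 3, 2, 0, 2, 3, 2]) (.leaf [1, 3, 5, 1, 5, 1, 5, 3])) (.node (.leaf [1, 2, 3, 0, 3, 0, 1, 2]) (.leaf [2, 3, 2, 3]))) (.node (.node (.leaf [3, 5, 2, 3, 5, 3, 5, 2]) (.leaf [4, 5, 0, 5, 3, 0, 4, 5])) (.node (.leaf [5, 0, 5, 1, 0, 2, 1, 0]) (.leaf [2, 3, 2, 3]))))) (.node (.node (.node (.node (.leaf [2, 3, 2, 1, 3, 2, 1]) (.leaf [5, 1, 3, 1, 3, 5, 2])) (.node (.leaf [2, 0, 2, 0, 3, 2, 0, 3]) (.leaf [2, 3, 2, 3]))) (.node (.node (.leaf [2, 4, 2, 4, 3]) (.leaf [5, 4, 5, 3, 4, 0, 5, 0])) (.node (.leaf [5, 1, 5, 1, 2, 5, 1]) (.leaf [2, 3, 2, 3])))) (.node (.node (.node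 (.leaf [1, 2, 1, 3, 2, 0, 3, 0]) (.leaf [4, 3, 4, 5, 3, 5, 3, 5])) (.node (.leaf [5, 2, 5, 2, 1, 2, 1, 2]) (.leaf [2, 3, 2, 3]))) (.node (.node (.leaf [5, 2, 5, 3, 2, 4, 3, 4]) (.leaf [3, 5, 3, 1, 4, 1, 4, 1, 4, 3, 5, 1, 4, 1, 4, 1, 4, 3, 5, 1, 4, 1, 4, 1, 4, 5])) (.node (.leaf [4, 2, 4, 3, 4, 2, 4, 3]) (.leaf [2, 3, 2, 3])))))) (.node (.node (.node (.node (.node (.leaf [3, 0, 3, 0, 3, 2, 3, 2]) (.leaf [0, 2, 5, 2, 5, 3, 0, 3])) (.node (.leaf [3, 2, 3, 5, 1, 2, 1, 5]) (.leaf [2, 3, 2, 3]))) (.node (.node (.leaf [3, 4, 3, 2, 4, 3, 2]) (.leaf [0, 4, 0, 3, 4, 0, 4, 3])) (.node (.leaf [2, 5, 1, 2, 1, 5]) (.leaf [2, 3, 2, 3])))) (.node (.node (.node (.leaf [3, 1, 2, 1, 3, 2]) (.leaf [0, 3, 4, 3, 4, 3, 0, 3])) (.node (.leaf [5, 2, 3, 0, 3, 0, 5, 2]) (.leaf [2, 3, 2, 3]))) (.node (.node (.leaf [3, 5, 2, 5, 3, 2]) (.leaf [0, 4, 0, 4, 0, 4])) (.node (.leaf [4,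 2, 4, 0, 3, 0, 2]) (.leaf [2, 3, 2, 3]))))) (.node (.node (.node (.node (.leaf [4, 0, 3, 0, 4, 2, 3, 2]) (.leaf [5, 0, 2, 0, 2, 0, 5, 2])) (.node (.leaf [0, 2, 3, 0, 2, 0, 3, 2]) (.leaf [2, 3, 2, 3]))) (.node (.node (.leaf [2, 5, 2, 5, 4, 3, 4, 3]) (.leaf [5, 0, 3, 0, 5, 3, 5, 3])) (.node (.leaf [1, 5, 0, 5, 0, 2, 1, 0]) (.leaf [2, 3, 2, 3])))) (.node (.node (.node (.leaf [1, 3, 2, 1, 3]) (.leaf [3, 0, 5, 0, 5, 4, 5, 4])) (.node (.leaf [2, 1, 2, 0, 3, 0, 3, 1]) (.leaf [2, 3, 2, 3]))) (.node (.node (.leaf [5, 2, 5, 3, 2, 0, 3, 0]) (.leaf [1, 4, 1, 3, 5, 3, 5, 4, 1, 4, 1, 4, 1, 5, 3, 4, 1, 4, 1, 4, 1, 5, 3, 4, 1, 4])) (.node (.leaf [5, 2, 4, 3, 4, 3, 5, 2]) (.leaf [2, 3, 2, 3]))))))))) (.node (.node (.node (.node (.node (.node (.node (.node (.leaf [3, 2, 3, 2, 1, 2, 1, 2]) (.leaf [3, 4, 2, 5, 2, 5, 3, 4])) (.node (.leaf [3, 5, 3, 2, 3, 5, 3, 2]) (.leaf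 [5, 4, 1, 4, 1, 4, 1, 5, 3, 4, 1, 4, 1, 4, 1, 5, 3, 4, 1, 4, 1, 4, 1, 3, 5, 3]))) (.node (.node (.leaf [5, 2, 5, 1, 3, 2, 3, 1]) (.leaf [0, 4, 0, 3, 4, 0, 3, 4])) (.node (.leaf [1, 2, 1, 3, 1, 2, 1, 3]) (.leaf [2, 3, 2, 3])))) (.node (.node (.node (.leaf [3, 2, 5, 3, 5, 3, 5, 2]) (.leaf [5, 2, 5, 0, 2, 0, 2, 0])) (.node (.leaf [0, 2, 0, 2, 3, 0, 3, 2]) (.leaf [2, 3, 2, 3]))) (.node (.node (.leaf [5, 4, 2, 3, 4, 5, 2]) (.leaf [5, 0, 5, 4, 5, 4, 0, 3])) (.node (.leaf [5, 0, 5, 1, 0, 1, 2, 0]) (.leaf [2, 3, 2, 3]))))) (.node (.node (.node (.node (.leaf [3, 2, 1, 2, 3, 1, 2]) (.leaf [2, 5, 2, 0, 3, 0, 3, 5])) (.node (.leaf [0, 2, 0, 2, 3, 0, 2, 3]) (.leaf [2, 3, 2, 3]))) (.node (.node (.leaf [2, 3, 4, 3, 2, 4, 3]) (.leaf [4, 0, 4, 3, 0, 3, 4, 0])) (.node (.leaf [1, 2, 1, 5, 1, 2, 1, 5]) (.leaf [2, 3, 2, 3])))) (.node (.node (.node (.leaf [3, 1, 2, 1, 0,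 3, 0, 2]) (.leaf [0, 4, 0, 3, 4, 3, 0, 4])) (.node (.leaf [0, 3, 2, 5, 2, 5, 0, 3]) (.leaf [2, 3, 2, 3]))) (.node (.node (.leaf [3, 5, 2, 5, 4, 3, 4, 2]) (.leaf [4, 3, 5, 1, 4, 1, 4, 1, 4, 5, 3, 5, 3, 1, 4, 1, 4, 1, 4, 3, 5, 1, 4, 1, 4, 1])) (.node (.leaf [0, 3, 0, 4, 2, 4, 2]) (.leaf [2, 3, 2, 3])))))) (.node (.node (.node (.node (.node (.leaf [3, 2, 3, 4, 3, 4, 3, 2]) (.leaf [2, 4, 5, 2, 5, 3, 4])) (.node (.leaf [3, 2, 5, 2, 3, 5, 3, 5]) (.leaf [4, 1, 4, 1, 4, 1, 4, 1, 4, 1, 4, 1]))) (.node (.node (.leaf [1, 3, 2, 1, 0, 3, 0]) (.leaf [4, 3, 4, 0, 3, 0])) (.node (.leaf [1, 3, 5, 2, 5, 3, 1, 2]) (.leaf [2, 3, 2, 3])))) (.node (.node (.node (.leaf [0, 2, 3, 2, 0, 3]) (.leaf [5, 3, 1, 3, 5, 1, 5, 1])) (.node (.leaf [0, 3, 2, 1, 2, 1, 0, 3]) (.leaf [2, 3, 2, 3]))) (.node (.node (.leaf [5, 2, 3, 5, 2, 3, 5, 3]) (.leaf [0, 3, 0, 3])) (.node (.leaf [1, 5,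 0, 5, 0, 1, 2, 0]) (.leaf [2, 3, 2, 3]))))) (.node (.node (.node (.node (.leaf [4, 2, 3, 2, 4, 2, 3, 2]) (.leaf [2, 5, 1, 3, 1, 3, 5])) (.node (.leaf [2, 0, 3, 2, 3, 0, 2, 0]) (.leaf [2, 3, 2, 3]))) (.node (.node (.leaf [5, 2, 5, 2, 3, 4, 3, 4]) (.leaf [0, 5, 0, 4, 3, 5, 4, 5])) (.node (.leaf [1, 0, 2, 0, 2, 0, 1, 2]) (.leaf [2, 3, 2, 3])))) (.node (.node (.node (.leaf [3, 1, 3, 2, 3, 1, 3, 2]) (.leaf [0, 5, 0, 3, 4, 5, 4, 5])) (.node (.leaf [1, 3, 0, 3, 0, 2, 1, 2]) (.leaf [2, 3, 2, 3]))) (.node (.node (.leaf [3, 5, 2, 5, 0, 3, 0, 2]) (.leaf [4, 1, 4, 3, 5, 1, 4, 1, 4, 1, 4, 3, 5, 1, 4, 1, 4, 1, 4, 5, 3, 5, 3, 1, 4, 1])) (.node (.leaf [0, 3, 0, 2, 4, 3, 4, 2]) (.leaf [2, 3, 2, 3]))))))) (.node (.node (.node (.node (.node (.node (.leaf [3, 2, 3, 2, 5, 2, 5, 2]) (.leaf [5, 4, 2, 4, 3, 5, 2])) (.node (.leaf [5, 3, 5, 2, 3, 5, 3, 2]) (.leaf [3, 4, 1, 4,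 1, 4, 1, 5, 3, 4, 1, 4, 1, 4, 1, 3, 5, 3, 5, 4, 1, 4, 1, 4, 1, 5]))) (.node (.node (.leaf [0, 3, 0, 1, 2, 3, 1]) (.leaf [0, 4, 3, 0, 4, 0, 4, 3])) (.node (.leaf [0, 3, 0, 1, 3, 1, 2]) (.leaf [2, 3, 2, 3])))) (.node (.node (.node (.leaf [3, 2, 0, 2, 3, 2, 0, 2]) (.leaf [1, 3, 1, 3, 1, 3, 1, 3])) (.node (.leaf [1, 2, 1, 2, 3, 0, 3, 0]) (.leaf [2, 3, 2, 3]))) (.node (.node (.leaf [2, 4, 5, 2, 5, 4, 3]) (.leaf [4, 5, 4, 5, 0, 5, 3, 0])) (.node (.leaf [1, 0, 5, 0, 5, 1, 0, 2]) (.leaf [2, 3, 2, 3]))))) (.node (.node (.node (.node (.leaf [2, 1, 2, 3, 2, 1, 3]) (.leaf [1, 5, 2, 5, 3, 1, 3])) (.node (.leaf [0, 3, 2, 0, 2, 0, 3, 2]) (.leaf [2, 3, 2, 3]))) (.node (.node (.leaf [4, 3, 2, 4, 2]) (.leaf [5, 0, 5, 4, 5, 3, 4, 0])) (.node (.leaf [5, 1, 5, 1, 5, 1, 2]) (.leaf [2, 3, 2, 3])))) (.node (.node (.node (.leaf [3, 0, 1, 2, 1, 3, 2, 0]) (.leaf [3, 5, 4, 3, 4,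 5, 3, 5])) (.node (.leaf [1, 2, 5, 2, 5, 2, 1, 2]) (.leaf [2, 3, 2, 3]))) (.node (.node (.leaf [3, 4, 5, 2, 5, 3, 2, 4]) (.leaf [4, 5, 3, 5, 3, 1, 4, 1, 4, 1, 4, 3, 5, 1, 4, 1, 4, 1, 4, 3, 5, 1, 4, 1, 4, 1])) (.node (.leaf [4, 3, 4, 2, 4, 3, 4, 2]) (.leaf [2, 3, 2, 3])))))) (.node (.node (.node (.node (.node (.leaf [3, 2, 3, 0, 3, 0, 3, 2]) (.leaf [0, 3, 0, 2, 5, 2, 5, 3])) (.node (.leaf [1, 5, 3, 2, 3, 5, 1, 2]) (.leaf [2, 3, 2, 3]))) (.node (.node (.leaf [4, 3, 2, 3, 4, 2, 3]) (.leaf [4, 3, 0, 4, 0, 3, 4, 0])) (.node (.leaf [1, 5, 2, 5, 1, 2]) (.leaf [2, 3, 2, 3])))) (.node (.node (.node (.leaf [0, 2, 3, 2, 0, 4, 3, 4]) (.leaf [0, 3, 0, 3, 4, 3, 4, 3])) (.node (.leaf [5, 2, 5, 2, 3, 0, 3, 0]) (.leaf [2, 3, 2, 3]))) (.node (.node (.leaf [2, 5, 3, 5, 3, 2, 5, 3]) (.leaf [5, 1, 5, 0, 5, 1, 5, 0])) (.node (.leaf [4, 2, 4, 2, 4, 2, 4, 2]) (.leaf [2, 3,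 2, 3]))))) (.node (.node (.node (.node (.leaf [3, 2, 4, 0, 3, 0, 4, 2]) (.leaf [5, 2, 5, 1, 5, 2, 5, 1])) (.node (.leaf [3, 2, 0, 2, 3, 0, 2, 0]) (.leaf [2, 3, 2, 3]))) (.node (.node (.leaf [4, 3, 2, 5, 2, 5, 4, 3]) (.leaf [5, 3, 5, 0, 3, 0, 5, 3])) (.node (.leaf [1, 0, 1, 5, 0, 5, 0, 2]) (.leaf [2, 3, 2, 3])))) (.node (.node (.node (.leaf [1, 3, 1, 3, 2]) (.leaf [5, 4, 3, 0, 5, 0, 5, 4])) (.node (.leaf [3, 1, 2, 1, 2, 0, 3, 0]) (.leaf [2, 3, 2, 3]))) (.node (.node (.leaf [3, 0, 5, 2, 5, 3, 2, 0]) (.leaf [1, 4, 1, 4, 1, 3, 5, 3, 5, 4, 1, 4, 1, 4, 1, 5, 3, 4, 1, 4, 1, 4, 1, 5, 3, 4])) (.node (.leaf [5, 2, 5, 2, 4, 3, 4, 3]) (.leaf [2, 3, 2, 3])))))))) (.node (.node (.node (.node (.node (.node (.node (.leaf [1, 2, 1, 2, 3, 2, 3, 2]) (.leaf [4, 3, 5, 2, 5, 4, 2])) (.node (.leaf [3, 5, 3, 2, 5, 3, 5, 2]) (.leaf [1, 4, 1, 5, 3, 4, 1, 4, 1, 4, 1, 5, 3, 4,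 1, 4, 1, 4, 1, 3, 5, 3, 5, 4, 1, 4]))) (.node (.node (.leaf [3, 2, 3, 1, 5, 2, 5, 1]) (.leaf [4, 0, 4, 3, 0, 4, 3, 0])) (.node (.leaf [1, 0, 3, 0, 2, 1, 3]) (.leaf [2, 3, 2, 3])))) (.node (.node (.node (.leaf [5, 3, 5, 2, 3, 2, 5, 3]) (.leaf [0, 3, 0, 2, 0, 3, 0, 2])) (.node (.leaf [3, 0, 3, 0, 1, 2, 1, 2]) (.leaf [2, 3, 2, 3]))) (.node (.node (.leaf [2, 5, 4, 3, 2, 4, 5]) (.leaf [5, 4, 0, 3, 5, 0, 5, 4])) (.node (.leaf [0, 1, 2, 0, 5, 0, 5, 1]) (.leaf [2, 3, 2, 3]))))) (.node (.node (.node (.node (.leaf [3, 1, 2, 3, 2, 1, 2]) (.leaf [5, 3, 1, 3, 1, 5, 2])) (.node (.leaf [2, 0, 3, 2, 0, 3, 2, 0]) (.leaf [2, 3, 2, 3]))) (.node (.node (.leaf [2, 4, 2, 3, 4]) (.leaf [0, 3, 4, 0, 4, 0, 4, 3])) (.node (.leaf [1, 5, 1, 5, 2, 1, 5]) (.leaf [2, 3, 2, 3])))) (.node (.node (.node (.leaf [0, 3, 0, 2, 3, 1, 2, 1]) (.leaf [4, 5, 3, 5, 3, 5, 4, 3])) (.node (.leaf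 [1, 2, 1, 2]) (.leaf [2, 3, 2, 3]))) (.node (.node (.leaf [4, 3, 4, 2, 3, 5, 2, 5]) (.leaf [4, 1, 4, 1, 4, 5, 3, 5, 3, 1, 4, 1, 4, 1, 4, 3, 5, 1, 4, 1, 4, 1, 4, 3, 5, 1])) (.node (.leaf [2, 4, 2, 0, 3, 0, 4]) (.leaf [2, 3, 2, 3])))))) (.node (.node (.node (.node (.node (.leaf [3, 4, 3, 2, 3, 2, 3, 4]) (.leaf [5, 2, 5, 3, 0, 3, 0, 2])) (.node (.leaf [3, 5, 1, 2, 1, 5, 3, 2]) (.leaf [2, 3, 2, 3]))) (.node (.node (.leaf [3, 4, 2, 3, 4, 3, 2]) (.leaf [4, 3, 4, 0, 4, 3, 4, 0])) (.node (.leaf [5, 3, 1, 2, 1, 3, 5, 2]) (.leaf [2, 3, 2, 3])))) (.node (.node (.node (.leaf [0, 4, 3, 4, 0, 2, 3, 2]) (.leaf [4, 3, 4, 3, 0, 3, 0, 3])) (.node (.leaf [3, 0, 3, 0, 5, 2, 5, 2]) (.leaf [2, 3, 2, 3]))) (.node (.node (.leaf [3, 2, 5, 3, 2, 5, 3, 5]) (.leaf [0, 3, 0, 4, 0, 3, 0, 4])) (.node (.leaf [0, 1, 2, 0, 1, 5, 0, 5]) (.leaf [2, 3, 2, 3]))))) (.node (.node (.node (.node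 (.leaf [4, 3, 4, 2, 3, 2]) (.leaf [5, 2, 5, 3, 5, 2, 5, 3])) (.node (.leaf [3, 0, 2, 0, 3, 2, 0, 2]) (.leaf [2, 3, 2, 3]))) (.node (.node (.leaf [2, 5, 4, 3, 4, 3, 2, 5]) (.leaf [3, 5, 4, 5, 0, 5, 0, 4])) (.node (.leaf [2, 0, 1, 2, 1, 0, 2, 0]) (.leaf [2, 3, 2, 3])))) (.node (.node (.node (.leaf [3, 1, 3, 1, 2]) (.leaf [5, 0, 5, 4, 5, 4, 3, 0])) (.node (.leaf [0, 2, 1, 2, 1, 3, 0, 3]) (.leaf [2, 3, 2, 3]))) (.node (.node (.leaf [0, 3, 0, 2, 3, 5, 2, 5]) (.leaf [5, 1, 4, 1, 4, 1, 4, 3, 5, 1, 4, 1, 4, 1, 4, 5, 3, 5, 3, 1, 4, 1, 4, 1, 4, 3])) (.node (.leaf [4, 3, 4, 3, 5, 2, 5, 2]) (.leaf [2, 3, 2, 3]))))))) (.node (.node (.node (.node (.node (.node (.leaf [5, 2, 5, 2, 3, 2, 3, 2]) (.leaf [2, 5, 3, 4, 2, 4, 5])) (.node (.leaf [3, 5, 3, 5, 3, 2, 5, 2]) (.leaf [1, 4, 1, 5, 3, 4, 1, 4, 1, 4, 1, 3, 5, 3, 5, 4, 1, 4, 1, 4, 1, 5, 3, 4, 1, 4]))) (.node (.node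 (.leaf [1, 0, 3, 0, 1, 3, 2]) (.leaf [4, 0, 3, 0, 4, 3])) (.node (.leaf [3, 1, 2, 0, 3, 0, 1]) (.leaf [2, 3, 2, 3])))) (.node (.node (.node (.leaf [3, 2, 0, 3, 0, 2]) (.leaf [5, 1, 5, 1, 5, 3, 1, 3])) (.node (.leaf [2, 1, 0, 3, 0, 3, 2, 1]) (.leaf [2, 3, 2, 3]))) (.node (.node (.leaf [2, 3, 5, 3, 5, 2, 3, 5]) (.leaf [0, 5, 3, 0, 4, 5, 4, 5])) (.node (.leaf [5, 1, 0, 2, 1, 0, 5, 0]) (.leaf [2, 3, 2, 3]))))) (.node (.node (.node (.node (.leaf [2, 1, 3, 2, 1, 2, 3]) (.leaf [3, 1, 3, 5, 2, 5, 1])) (.node (.leaf [3, 0, 2, 0, 2, 0, 3, 2]) (.leaf [2, 3, 2, 3]))) (.node (.node (.leaf [3, 4, 3, 4, 5, 2, 5, 2]) (.leaf [5, 3, 4, 0, 5, 0, 5, 4])) (.node (.leaf [5, 1, 2, 5, 1, 5, 1]) (.leaf [2, 3, 2, 3])))) (.node (.node (.node (.leaf [1, 3, 2, 0, 3, 0, 1, 2]) (.leaf [4, 5, 4, 5, 0, 5, 0, 3])) (.node (.leaf [5, 2, 1, 2, 1, 2, 5, 2]) (.leaf [2, 3, 2, 3]))) (.node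 (.node (.leaf [5, 3, 2, 4, 3, 4, 5, 2]) (.leaf [3, 1, 4, 1, 4, 1, 4, 3, 5, 1, 4, 1, 4, 1, 4, 3, 5, 1, 4, 1, 4, 1, 4, 5, 3, 5])) (.node (.leaf [4, 3, 4, 2, 0, 3, 0, 2]) (.leaf [2, 3, 2, 3])))))) (.node (.node (.node (.node (.node (.leaf [3, 0, 3, 2, 3, 2, 3, 0]) (.leaf [3, 0, 3, 5, 2, 5, 2, 0])) (.node (.leaf [3, 0, 2, 3, 0, 2, 0, 2]) (.leaf [2, 3, 2, 3]))) (.node (.node (.leaf [3, 2, 4, 3, 2, 3, 4]) (.leaf [0, 3, 4, 0, 4, 3, 0, 4])) (.node (.leaf [1, 2, 1, 5, 2, 5]) (.leaf [2, 3, 2, 3])))) (.node (.node (.node (.leaf [2, 1, 3, 2, 3, 1]) (.leaf [4, 3, 0, 4, 0, 4, 0, 3])) (.node (.leaf [2, 5, 0, 3, 0, 3, 2, 5]) (.leaf [2, 3, 2, 3]))) (.node (.node (.leaf [2, 5, 3, 2, 3, 5]) (.leaf [4, 1, 4, 1, 4, 3, 5, 1, 4, 1, 4, 1, 4, 5, 3, 5, 3, 1, 4, 1, 4, 1, 4, 3, 5, 1])) (.node (.leaf [4, 0, 3, 0, 2, 4, 2]) (.leaf [2, 3, 2, 3]))))) (.node (.node (.node (.node (.leaf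 [3, 0, 4, 2, 3, 2, 4, 0]) (.leaf [2, 0, 2, 0, 5, 2, 5, 0])) (.node (.leaf [3, 0, 3, 2, 0, 2, 0, 2]) (.leaf [2, 3, 2, 3]))) (.node (.node (.leaf [3, 4, 5, 2, 5, 4, 2]) (.leaf [3, 0, 5, 3, 5, 3, 5, 0])) (.node (.leaf [0, 5, 0, 2, 1, 0, 1, 5]) (.leaf [2, 3, 2, 3])))) (.node (.node (.node (.leaf [2, 1, 3, 1, 3]) (.leaf [4, 0, 3, 4, 0, 4, 0, 3])) (.node (.leaf [2, 0, 3, 0, 3, 1, 2, 1]) (.leaf [2, 3, 2, 3]))) (.node (.node (.leaf [5, 3, 2, 0, 3, 0, 5, 2]) (.leaf [1, 3, 5, 3, 5, 4, 1, 4, 1, 4, 1, 5, 3, 4, 1, 4, 1, 4, 1, 5, 3, 4, 1, 4, 1, 4])) (.node (.leaf [2, 5, 3, 4, 3, 4, 2, 5]) (.leaf [2, 3, 2, 3])))))))))))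

def hints_0 : List (ℕ × ℕ × Bool) := [
  (0, 0, false), (53, 2, true), (26, 6, true), (83, 8, true), (17, 0, false), (70, 2, false), (40, 0, false), (0, 0, false),
  (8, 6, false), (60, 4, false), (34, 2, false), (0, 0, false), (22, 2, false), (77, 6, false), (47, 6, false), (0, 0, false),
  (4, 6, false), (56, 2, true), (31, 2, false), (0, 0, false), (19, 3, true), (74, 0, false), (44, 0, false), (0, 0, false),
  (13, 4, false), (67, 2, false), (36, 2, true), (0, 0, false), (24, 4, false), (83, 2, false), (50, 4, false), (0, 0, false),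
  (2, 6, false), (54, 3, true), (29, 2, false), (83, 24, true), (18, 1, true), (71, 2, false), (41, 5, true), (0, 0, false),
  (11, 2, false), (64, 4, false), (35, 2, true), (0, 0, false), (23, 4, false), (78, 6, true), (48, 6, false), (0, 0, false),
  (6, 0, false), (57, 3, true), (32, 2, false), (0, 0, false), (21, 2, false), (75, 0, true), (45, 5, true), (0, 0, false),
  (14, 6, true), (69, 2, false), (39, 0, false), (0, 0, false), (25, 6, true), (83, 18, false), (52, 2, false), (0, 0, false),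
  (1, 6, false), (54, 2, false), (28, 2, false), (83, 16, true), (18, 0, false), (70, 2, true), (41, 4, false), (0, 0, false),
  (9, 6, false), (62, 2, false), (35, 2, false), (0, 0, false), (22, 3, true), (78, 6, false), (47, 6, true), (0, 0, false),
  (5, 6, false), (57, 2, false), (31, 2, true), (0, 0, false), (20, 4, false), (75, 0, false), (45, 4, false), (0, 0, false),
  (14, 6, false), (68, 2, false), (38, 0, false), (0, 0, false), (25, 6, false), (83, 10, false), (50, 5, true), (0, 0, false),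
  (3, 6, false), (56, 2, false), (30, 2, false), (0, 0, false), (19, 2, false), (73, 0, false), (42, 6, false), (0, 0, false),
  (12, 4, false), (66, 2, false), (36, 2, false), (0, 0, false), (23, 4, true), (81, 0, false), (48, 6, true), (0, 0, false),
  (7, 4, false), (59, 0, false), (33, 2, false), (0, 0, false), (21, 2, true), (76, 0, false), (46, 6, false), (0, 0, false),
  (16, 2, false), (69, 2, true), (39, 0, true), (0, 0, false), (26, 6, false), (83, 0, true), (53, 2, false), (0, 0, false),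
  (1, 2, false), (53, 6, true), (27, 2, false), (83, 12, true), (17, 4, false), (70, 6, false), (41, 0, false), (0, 0, false),
  (9, 2, false), (61, 0, false), (34, 6, false), (0, 0, false), (22, 6, false), (78, 2, false), (47, 2, true), (0, 0, false),
  (5, 2, false), (56, 6, true), (31, 6, false), (0, 0, false), (20, 0, false), (74, 4, false), (45, 0, false), (0, 0, false),
  (14, 2, false), (67, 6, false), (36, 6, true), (0, 0, false), (25, 2, false), (83, 6, false), (50, 1, true), (0, 0, false),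
  (3, 2, false), (55, 0, false), (29, 6, false), (0, 0, false), (18, 5, true), (72, 0, false), (42, 2, false), (0, 0, false),
  (12, 0, false), (65, 0, false), (35, 6, true), (0, 0, false), (23, 0, true), (80, 0, false), (48, 2, true), (0, 0, false),
  (7, 0, false), (58, 0, false), (32, 6, false), (0, 0, false), (21, 6, false), (75, 4, true), (46, 2, false), (0, 0, false),
  (15, 2, false), (69, 6, false), (39, 4, false), (0, 0, false), (26, 2, false), (83, 22, false), (52, 6, false), (0, 0, false),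
  (2, 2, false), (54, 6, false), (28, 6, false), (83, 20, true), (18, 4, false), (70, 6, true), (41, 1, true), (0, 0, false),
  (10, 2, false), (64, 0, false), (35, 6, false), (0, 0, false), (23, 0, false), (78, 2, true), (48, 2, false), (0, 0, false),
  (5, 3, true), (57, 6, false), (31, 6, true), (0, 0, false), (20, 3, true), (75, 4, false), (45, 1, true), (0, 0, false),
  (14, 2, true), (68, 6, false), (38, 4, false), (0, 0, false), (25, 2, true), (83, 14, false), (51, 2, false), (0, 0, false),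
  (4, 2, false), (56, 6, false), (30, 6, false), (0, 0, false), (19, 6, false), (73, 4, false), (43, 2, false), (0, 0, false),
  (13, 0, false), (66, 6, false), (36, 6, false), (0, 0, false), (24, 0, false), (82, 0, false), (50, 0, false), (0, 0, false),
  (8, 2, false), (60, 0, false), (33, 6, false), (0, 0, false), (21, 6, true), (77, 2, false), (47, 2, false), (0, 0, false),
  (16, 1, true), (69, 6, true), (39, 4, true), (0, 0, false), (26, 2, true), (83, 4, true), (53, 6, false), (0, 0, false),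
  (1, 0, false), (53, 4, true), (27, 0, false), (83, 10, true), (17, 2, false), (70, 4, false), (40, 2, false), (0, 0, false),
  (9, 0, false), (60, 6, false), (34, 4, false), (0, 0, false), (22, 4, false), (78, 0, false), (47, 0, true), (0, 0, false),
  (5, 0, false), (56, 4, true), (31, 4, false), (0, 0, false), (19, 5, true), (74, 2, false), (44, 2, false), (0, 0, false),
  (14, 0, false), (67, 4, false), (36, 4, true), (0, 0, false), (25, 0, false), (83, 4, false), (50, 6, false), (0, 0, false),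
  (3, 0, false), (54, 5, true), (29, 4, false), (84, 0, false), (18, 3, true), (71, 4, false), (42, 0, false), (0, 0, false),
  (11, 4, false), (64, 6, false), (35, 4, true), (0, 0, false), (23, 6, false), (79, 0, false), (48, 0, true), (0, 0, false),
  (6, 2, false), (57, 5, true), (32, 4, false), (0, 0, false), (21, 4, false), (75, 2, true), (46, 0, false), (0, 0, false),
  (15, 0, false), (69, 4, false), (39, 2, false), (0, 0, false), (26, 0, false), (83, 20, false), (52, 4, false), (0, 0, false),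
  (2, 0, false), (54, 4, false), (28, 4, false), (83, 18, true), (18, 2, false), (70, 4, true), (41, 6, false), (0, 0, false),
  (10, 0, false), (63, 0, false), (35, 4, false), (0, 0, false), (22, 5, true), (78, 0, true), (48, 0, false), (0, 0, false),
  (5, 1, true), (57, 4, false), (31, 4, true), (0, 0, false), (20, 1, true), (75, 2, false), (45, 6, false), (0, 0, false),
  (14, 0, true), (68, 4, false), (38, 2, false), (0, 0, false), (25, 0, true), (83, 12, false), (51, 0, false), (0, 0, false),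
  (4, 0, false), (56, 4, false), (30, 4, false), (0, 0, false), (19, 4, false), (73, 2, false), (43, 0, false), (0, 0, false),
  (12, 6, false), (66, 4, false), (36, 4, false), (0, 0, false), (23, 6, true), (81, 2, false), (49, 0, false), (0, 0, false),
  (8, 0, false), (59, 2, false), (33, 4, false), (0, 0, false), (21, 4, true), (77, 0, false), (47, 0, false), (0, 0, false),
  (16, 4, false), (69, 4, true), (39, 2, true), (0, 0, false), (26, 0, true), (83, 2, true), (53, 4, false), (0, 0, false),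
  (1, 4, false), (54, 0, false), (28, 0, false), (83, 14, true), (17, 6, false), (70, 0, true), (41, 2, false), (0, 0, false),
  (9, 4, false), (62, 0, false), (35, 0, false), (0, 0, false), (22, 1, true), (78, 4, false), (47, 4, true), (0, 0, false)]
def hints_1 : List (ℕ × ℕ × Bool) := [
  (5, 4, false), (57, 0, false), (31, 0, true), (0, 0, false), (20, 2, false), (74, 6, false), (45, 2, false), (0, 0, false),
  (14, 4, false), (68, 0, false), (37, 0, false), (0, 0, false), (25, 4, false), (83, 8, false), (50, 3, true), (0, 0, false),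
  (3, 4, false), (56, 0, false), (30, 0, false), (0, 0, false), (19, 0, false), (72, 2, false), (42, 4, false), (0, 0, false),
  (12, 2, false), (66, 0, false), (36, 0, false), (0, 0, false), (23, 2, true), (80, 2, false), (48, 4, true), (0, 0, false),
  (7, 2, false), (58, 2, false), (33, 0, false), (0, 0, false), (21, 0, true), (75, 6, true), (46, 4, false), (0, 0, false),
  (16, 0, false), (69, 0, true), (39, 6, false), (0, 0, false), (26, 4, false), (83, 24, false), (53, 0, false), (0, 0, false),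
  (2, 4, false), (54, 1, true), (29, 0, false), (83, 22, true), (18, 6, false), (71, 0, false), (41, 3, true), (0, 0, false),
  (11, 0, false), (64, 2, false), (35, 0, true), (0, 0, false), (23, 2, false), (78, 4, true), (48, 4, false), (0, 0, false),
  (5, 5, true), (57, 1, true), (32, 0, false), (0, 0, false), (21, 0, false), (75, 6, false), (45, 3, true), (0, 0, false),
  (14, 4, true), (69, 0, false), (38, 6, false), (0, 0, false), (25, 4, true), (83, 16, false), (52, 0, false), (0, 0, false),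
  (4, 4, false), (56, 0, true), (31, 0, false), (0, 0, false), (19, 1, true), (73, 6, false), (43, 4, false), (0, 0, false),
  (13, 2, false), (67, 0, false), (36, 0, true), (0, 0, false), (24, 2, false), (83, 0, false), (50, 2, false), (0, 0, false),
  (8, 4, false), (60, 2, false), (34, 0, false), (0, 0, false), (22, 0, false), (77, 4, false), (47, 4, false), (0, 0, false),
  (16, 3, true), (70, 0, false), (39, 6, true), (0, 0, false), (26, 4, true), (83, 6, true), (53, 0, true), (0, 0, false),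
  (0, 1, false), (53, 3, true), (26, 7, true), (83, 9, true), (17, 1, false), (70, 3, false), (40, 1, false), (0, 0, false),
  (8, 7, false), (60, 5, false), (34, 3, false), (0, 0, false), (22, 3, false), (77, 7, false), (47, 7, false), (0, 0, false),
  (4, 7, false), (56, 3, true), (31, 3, false), (0, 0, false), (19, 4, true), (74, 1, false), (44, 1, false), (0, 0, false),
  (13, 5, false), (67, 3, false), (36, 3, true), (0, 0, false), (24, 5, false), (83, 3, false), (50, 5, false), (0, 0, false),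
  (2, 7, false), (54, 4, true), (29, 3, false), (83, 25, true), (18, 2, true), (71, 3, false), (41, 6, true), (0, 0, false),
  (11, 3, false), (64, 5, false), (35, 3, true), (0, 0, false), (23, 5, false), (78, 7, true), (48, 7, false), (0, 0, false),
  (6, 1, false), (57, 4, true), (32, 3, false), (0, 0, false), (21, 3, false), (75, 1, true), (45, 6, true), (0, 0, false),
  (14, 7, true), (69, 3, false), (39, 1, false), (0, 0, false), (25, 7, true), (83, 19, false), (52, 3, false), (0, 0, false),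
  (1, 7, false), (54, 3, false), (28, 3, false), (83, 17, true), (18, 1, false), (70, 3, true), (41, 5, false), (0, 0, false),
  (9, 7, false), (62, 3, false), (35, 3, false), (0, 0, false), (22, 4, true), (78, 7, false), (47, 7, true), (0, 0, false),
  (5, 0, true), (57, 3, false), (31, 3, true), (0, 0, false), (20, 0, true), (75, 1, false), (45, 5, false), (0, 0, false),
  (14, 7, false), (68, 3, false), (38, 1, false), (0, 0, false), (25, 7, false), (83, 11, false), (50, 6, true), (0, 0, false),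
  (3, 7, false), (56, 3, false), (30, 3, false), (0, 0, false), (19, 3, false), (73, 1, false), (42, 7, false), (0, 0, false),
  (12, 5, false), (66, 3, false), (36, 3, false), (0, 0, false), (23, 5, true), (81, 1, false), (48, 7, true), (0, 0, false),
  (7, 5, false), (59, 1, false), (33, 3, false), (0, 0, false), (21, 3, true), (76, 1, false), (46, 7, false), (0, 0, false),
  (16, 3, false), (69, 3, true), (39, 1, true), (0, 0, false), (26, 7, false), (83, 1, true), (53, 3, false), (0, 0, false),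
  (1, 3, false), (53, 7, true), (27, 3, false), (83, 13, true), (17, 5, false), (70, 7, false), (41, 1, false), (0, 0, false),
  (9, 3, false), (61, 1, false), (34, 7, false), (0, 0, false), (22, 0, true), (78, 3, false), (47, 3, true), (0, 0, false),
  (5, 3, false), (56, 7, true), (31, 7, false), (0, 0, false), (20, 1, false), (74, 5, false), (45, 1, false), (0, 0, false),
  (14, 3, false), (67, 7, false), (36, 7, true), (0, 0, false), (25, 3, false), (83, 7, false), (50, 2, true), (0, 0, false),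
  (3, 3, false), (55, 1, false), (29, 7, false), (0, 0, false), (18, 6, true), (72, 1, false), (42, 3, false), (0, 0, false),
  (12, 1, false), (65, 1, false), (35, 7, true), (0, 0, false), (23, 1, true), (80, 1, false), (48, 3, true), (0, 0, false),
  (7, 1, false), (58, 1, false), (32, 7, false), (0, 0, false), (21, 7, false), (75, 5, true), (46, 3, false), (0, 0, false),
  (15, 3, false), (69, 7, false), (39, 5, false), (0, 0, false), (26, 3, false), (83, 23, false), (52, 7, false), (0, 0, false),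
  (2, 3, false), (54, 0, true), (28, 7, false), (83, 21, true), (18, 5, false), (70, 7, true), (41, 2, true), (0, 0, false),
  (10, 3, false), (64, 1, false), (35, 7, false), (0, 0, false), (23, 1, false), (78, 3, true), (48, 3, false), (0, 0, false),
  (5, 4, true), (57, 0, true), (31, 7, true), (0, 0, false), (20, 4, true), (75, 5, false), (45, 2, true), (0, 0, false),
  (14, 3, true), (68, 7, false), (38, 5, false), (0, 0, false), (25, 3, true), (83, 15, false), (51, 3, false), (0, 0, false),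
  (4, 3, false), (56, 7, false), (30, 7, false), (0, 0, false), (19, 0, true), (73, 5, false), (43, 3, false), (0, 0, false),
  (13, 1, false), (66, 7, false), (36, 7, false), (0, 0, false), (24, 1, false), (82, 1, false), (50, 1, false), (0, 0, false),
  (8, 3, false), (60, 1, false), (33, 7, false), (0, 0, false), (21, 7, true), (77, 3, false), (47, 3, false), (0, 0, false),
  (16, 2, true), (69, 7, true), (39, 5, true), (0, 0, false), (26, 3, true), (83, 5, true), (53, 7, false), (0, 0, false),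
  (1, 1, false), (53, 5, true), (27, 1, false), (83, 11, true), (17, 3, false), (70, 5, false), (40, 3, false), (0, 0, false),
  (9, 1, false), (60, 7, false), (34, 5, false), (0, 0, false), (22, 5, false), (78, 1, false), (47, 1, true), (0, 0, false),
  (5, 1, false), (56, 5, true), (31, 5, false), (0, 0, false), (19, 6, true), (74, 3, false), (44, 3, false), (0, 0, false),
  (14, 1, false), (67, 5, false), (36, 5, true), (0, 0, false), (25, 1, false), (83, 5, false), (50, 0, true), (0, 0, false)]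
def hints_2 : List (ℕ × ℕ × Bool) := [
  (3, 1, false), (54, 6, true), (29, 5, false), (84, 1, false), (18, 4, true), (71, 5, false), (42, 1, false), (0, 0, false),
  (11, 5, false), (64, 7, false), (35, 5, true), (0, 0, false), (23, 7, false), (79, 1, false), (48, 1, true), (0, 0, false),
  (6, 3, false), (57, 6, true), (32, 5, false), (0, 0, false), (21, 5, false), (75, 3, true), (46, 1, false), (0, 0, false),
  (15, 1, false), (69, 5, false), (39, 3, false), (0, 0, false), (26, 1, false), (83, 21, false), (52, 5, false), (0, 0, false),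
  (2, 1, false), (54, 5, false), (28, 5, false), (83, 19, true), (18, 3, false), (70, 5, true), (41, 0, true), (0, 0, false),
  (10, 1, false), (63, 1, false), (35, 5, false), (0, 0, false), (22, 6, true), (78, 1, true), (48, 1, false), (0, 0, false),
  (5, 2, true), (57, 5, false), (31, 5, true), (0, 0, false), (20, 2, true), (75, 3, false), (45, 0, true), (0, 0, false),
  (14, 1, true), (68, 5, false), (38, 3, false), (0, 0, false), (25, 1, true), (83, 13, false), (51, 1, false), (0, 0, false),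
  (4, 1, false), (56, 5, false), (30, 5, false), (0, 0, false), (19, 5, false), (73, 3, false), (43, 1, false), (0, 0, false),
  (12, 7, false), (66, 5, false), (36, 5, false), (0, 0, false), (23, 7, true), (81, 3, false), (49, 1, false), (0, 0, false),
  (8, 1, false), (59, 3, false), (33, 5, false), (0, 0, false), (21, 5, true), (77, 1, false), (47, 1, false), (0, 0, false),
  (16, 0, true), (69, 5, true), (39, 3, true), (0, 0, false), (26, 1, true), (83, 3, true), (53, 5, false), (0, 0, false),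
  (1, 5, false), (54, 1, false), (28, 1, false), (83, 15, true), (17, 7, false), (70, 1, true), (41, 3, false), (0, 0, false),
  (9, 5, false), (62, 1, false), (35, 1, false), (0, 0, false), (22, 2, true), (78, 5, false), (47, 5, true), (0, 0, false),
  (5, 5, false), (57, 1, false), (31, 1, true), (0, 0, false), (20, 3, false), (74, 7, false), (45, 3, false), (0, 0, false),
  (14, 5, false), (68, 1, false), (37, 1, false), (0, 0, false), (25, 5, false), (83, 9, false), (50, 4, true), (0, 0, false),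
  (3, 5, false), (56, 1, false), (30, 1, false), (0, 0, false), (19, 1, false), (72, 3, false), (42, 5, false), (0, 0, false),
  (12, 3, false), (66, 1, false), (36, 1, false), (0, 0, false), (23, 3, true), (80, 3, false), (48, 5, true), (0, 0, false),
  (7, 3, false), (58, 3, false), (33, 1, false), (0, 0, false), (21, 1, true), (75, 7, true), (46, 5, false), (0, 0, false),
  (16, 1, false), (69, 1, true), (39, 7, false), (0, 0, false), (26, 5, false), (83, 25, false), (53, 1, false), (0, 0, false),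
  (2, 5, false), (54, 2, true), (29, 1, false), (83, 23, true), (18, 0, true), (71, 1, false), (41, 4, true), (0, 0, false),
  (11, 1, false), (64, 3, false), (35, 1, true), (0, 0, false), (23, 3, false), (78, 5, true), (48, 5, false), (0, 0, false),
  (5, 6, true), (57, 2, true), (32, 1, false), (0, 0, false), (21, 1, false), (75, 7, false), (45, 4, true), (0, 0, false),
  (14, 5, true), (69, 1, false), (38, 7, false), (0, 0, false), (25, 5, true), (83, 17, false), (52, 1, false), (0, 0, false),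
  (4, 5, false), (56, 1, true), (31, 1, false), (0, 0, false), (19, 2, true), (73, 7, false), (43, 5, false), (0, 0, false),
  (13, 3, false), (67, 1, false), (36, 1, true), (0, 0, false), (24, 3, false), (83, 1, false), (50, 3, false), (0, 0, false),
  (8, 5, false), (60, 3, false), (34, 1, false), (0, 0, false), (22, 1, false), (77, 5, false), (47, 5, false), (0, 0, false),
  (16, 4, true), (70, 1, false), (39, 7, true), (0, 0, false), (26, 5, true), (83, 7, true), (53, 1, true), (0, 0, false)]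
def hints : List (ℕ × ℕ × Bool) :=
  (hints_0 ++ (hints_1 ++ hints_2))

/-- subgroup words -/
def sw : List (List ℕ) := [[2], [3], [1], [5], [0]]

def subs : List (List ℕ) := [[2], [3], [1], [5], [0]]

/-- parameters -/
def P : Params := ⟨tab, 6, rots, subs⟩

def tree_0 : List ℕ := [
  4, 6, 7, 13, 26, 14, 23, 29,
  35, 34, 51, 57]
def tree : List ℕ :=
  tree_0

def ph0_0 : List ℕ := [
  2048, 2049, 2050, 2051, 2052, 4186, 4584, 8803,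
  4732, 8838, 24576, 20488, 16427, 12399, 32901, 12437,
  24735, 24871, 8913, 24592, 33197, 20936, 12744, 45646,
  29403, 29127, 29122, 37439, 45359, 49492, 49484, 41596,
  49854, 41160]

def ph1_0 : List Aux := [
  .node 3 4, .derive 13 [.bwd 0, .edge 3, .edge 2, .edge 3, .edge 2, .edge 3, .fwd 0] [3] (.rel 24), .derive 13 [.bwd 1, .edge 3, .edge 2, .edge 3, .fwd 1, .bwd 0] [2] (.rel 161), .node 4 4, .derive 14 [.bwd 0, .edge 3, .edge 2, .edge 3, .edge 2, .edge 3, .edge 4] [3] (.rel 24), .derive 14 [.fwd 0, .edge 2, .bwd 0, .bwd 1, .edge 3, .edge 4, .bwd 0] [2] (.rel 19), .derive 14 [.bwd 2, .edge 3, .edge 0, .edge 5, .edge 0, .edge 5, .fwd 5] [5] (.rel 636), .node 7 3,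
  .derive 15 [.bwd 0, .edge 2, .fwd 0] [2] (.rel 1), .derive 15 [.fwd 0, .bwd 1, .edge 2, .edge 1, .fwd 1, .bwd 0] [1] (.rel 45), .derive 15 [.fwd 1, .bwd 2, .edge 2, .edge 5, .edge 3, .edge 5, .fwd 2] [5] (.rel 66), .node 7 4, .node 8 4, .node 9 4, .node 10 0, .node 10 1,
  .derive 20 [.bwd 0, .edge 2, .bwd 11, .bwd 10, .fwd 11, .edge 2, .fwd 0] [2] (.rel 9), .node 11 4, .derive 21 [.bwd 0, .edge 3, .edge 2, .edge 3, .edge 2, .edge 3, .fwd 5] [3] (.rel 24), .derive 21 [.bwd 1, .edge 3, .edge 2, .fwd 5] [2] (.rel 171), .derive 21 [.bwd 2, .edge 3, .edge 0, .edge 5, .edge 0, .edge 5, .fwd 8] [5] (.rel 636), .node 12 4, .derive 22 [.bwd 0, .edge 3, .edge 2, .edge 3, .edge 2, .edge 3, .fwd 8] [3] (.rel 24), .derive 17 [.bwd 4, .fwd 3, .bwd 0, .bwd 1, .edge 3, .fwd 9, .bwd 0] [2] (.rel 19),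
  .derive 22 [.bwd 2, .edge 3, .edge 0, .edge 5, .edge 0, .edge 5, .fwd 11] [5] (.rel 636), .node 13 0, .derive 23 [.bwd 0, .bwd 24, .bwd 23, .bwd 24, .bwd 23, .bwd 24, .fwd 0] [3] (.rel 32), .derive 23 [.bwd 1, .bwd 25, .bwd 26, .edge 3, .edge 0, .fwd 26, .fwd 1] [4] (.rel 613), .node 13 1, .derive 24 [.bwd 0, .bwd 26, .bwd 27, .bwd 26, .bwd 27, .bwd 26, .fwd 0] [2] (.rel 9), .derive 24 [.fwd 0, .bwd 1, .bwd 27, .bwd 28, .bwd 27, .fwd 1] [3] (.rel 43), .node 14 0,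
  .derive 25 [.bwd 0, .fwd 27, .edge 2, .bwd 27, .bwd 26, .fwd 27, .fwd 17] [3] (.rel 32), .derive 25 [.bwd 1, .fwd 28, .edge 4, .edge 3, .edge 0, .edge 4, .fwd 18] [4] (.rel 613), .node 14 1, .derive 26 [.bwd 0, .bwd 29, .fwd 30, .edge 2, .bwd 30, .bwd 29, .fwd 0] [2] (.rel 9), .derive 26 [.fwd 0, .bwd 1, .bwd 30, .fwd 31, .edge 2, .fwd 20] [3] (.rel 43), .node 15 4, .derive 27 [.bwd 0, .bwd 30, .edge 2, .fwd 30, .bwd 29, .bwd 30, .fwd 26] [3] (.rel 24), .derive 27 [.bwd 1, .bwd 31, .edge 2, .fwd 31, .fwd 1, .fwd 0] [2] (.rel 161),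
  .derive 27 [.bwd 2, .bwd 32, .fwd 28, .bwd 1, .fwd 0, .bwd 19, .fwd 20] [5] (.rel 185), .node 16 0, .node 16 1, .derive 29 [.bwd 0, .bwd 4, .fwd 3, .fwd 0] [3] (.rel 125), .node 17 0, .derive 30 [.bwd 0, .bwd 26, .bwd 27, .edge 3, .edge 0, .fwd 33, .fwd 3] [4] (.rel 613), .derive 30 [.bwd 1, .bwd 21, .bwd 24, .edge 5, .fwd 28, .fwd 27, .fwd 1] [5] (.rel 632), .node 17 1,
  .node 18 0, .derive 32 [.bwd 0, .bwd 8, .bwd 11, .bwd 38, .fwd 11, .fwd 10, .fwd 7] [5] (.rel 632), .node 18 1, .derive 33 [.bwd 0, .bwd 28, .bwd 27, .fwd 3] [3] (.rel 125), .node 19 1, .node 19 2, .derive 35 [.bwd 0, .bwd 20, .fwd 21, .fwd 0] [4] (.rel 170), .derive 35 [.bwd 1, .bwd 40, .bwd 50, .bwd 49, .fwd 23, .fwd 22, .fwd 1] [0] (.rel 295),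
  .node 19 5, .derive 36 [.bwd 0, .bwd 42, .edge 5, .edge 4, .edge 5, .fwd 43, .bwd 34] [0] (.rel 631), .derive 20 [.bwd 42, .edge 2, .fwd 43, .fwd 1, .fwd 0, .fwd 33, .fwd 10] [0] (.rel 456), .derive 32 [.bwd 10, .bwd 45, .edge 5, .edge 4, .edge 5, .fwd 44, .fwd 2] [3] (.rel 714), .derive 33 [.fwd 8, .bwd 1, .bwd 23, .bwd 24, .fwd 23, .bwd 43, .bwd 23] [0] (.rel 31), .node 20 4, .node 20 5, .derive 38 [.bwd 0, .bwd 46, .bwd 26, .bwd 27, .fwd 26, .bwd 46, .fwd 0] [2] (.rel 17),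
  .derive 38 [.bwd 1, .bwd 48, .edge 2, .edge 5, .fwd 48, .fwd 1] [1] (.rel 431), .node 21 0, .derive 39 [.bwd 0, .fwd 47, .fwd 42, .fwd 43, .bwd 46, .fwd 47, .fwd 21] [3] (.rel 32), .derive 39 [.bwd 1, .fwd 46, .bwd 55, .edge 5, .fwd 66, .bwd 65, .fwd 41] [5] (.rel 632), .derive 29 [.bwd 25, .bwd 47, .fwd 2, .fwd 0, .bwd 42, .fwd 39, .bwd 38] [0] (.rel 467), .node 21 1, .derive 40 [.bwd 0, .fwd 50, .bwd 47, .bwd 46, .bwd 51, .fwd 50, .fwd 19] [2] (.rel 9), .derive 40 [.bwd 1, .fwd 51, .fwd 20, .fwd 10, .bwd 35, .bwd 10, .bwd 0] [0] (.rel 441),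
  .node 22 1, .derive 41 [.bwd 0, .bwd 49, .bwd 54, .fwd 53, .bwd 50, .bwd 49, .fwd 25] [2] (.rel 9), .derive 40 [.fwd 3, .fwd 22, .bwd 0, .bwd 1, .bwd 50, .fwd 26, .bwd 0] [3] (.rel 4), .derive 41 [.bwd 2, .bwd 51, .fwd 27, .bwd 23, .bwd 4, .bwd 3, .fwd 0] [0] (.rel 109), .node 23 1, .node 23 2, .derive 43 [.bwd 0, .bwd 51, .fwd 0] [3] (.rel 0), .derive 43 [.fwd 0, .bwd 1, .bwd 52, .bwd 51, .bwd 52, .fwd 1] [4] (.rel 162),
  .derive 43 [.fwd 1, .bwd 2, .bwd 54, .bwd 77, .fwd 54, .bwd 53, .fwd 2] [0] (.rel 300), .node 24 4, .derive 44 [.bwd 0, .bwd 51, .bwd 52, .bwd 51, .bwd 52, .bwd 51, .fwd 0] [3] (.rel 24), .derive 44 [.bwd 1, .bwd 52, .bwd 53, .bwd 52, .fwd 1, .bwd 0] [2] (.rel 161), .derive 44 [.bwd 2, .bwd 55, .bwd 83, .edge 1, .edge 4, .edge 1, .edge 4, .edge 1, .fwd 83, .fwd 55, .fwd 2] [1] (.rel 787), .node 24 5, .derive 45 [.bwd 0, .bwd 56,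 .bwd 55, .bwd 56, .bwd 55, .bwd 56, .fwd 0] [2] (.rel 17), .node 25 1,
  .node 25 2, .derive 47 [.bwd 0, .fwd 56, .fwd 35] [3] (.rel 0), .node 25 5, .derive 48 [.bwd 0, .fwd 2, .fwd 1, .bwd 37, .fwd 34, .bwd 31, .fwd 41] [3] (.rel 73), .derive 48 [.bwd 1, .fwd 59, .fwd 35, .bwd 32, .fwd 42, .bwd 46, .bwd 25] [4] (.rel 616), .node 26 4, .derive 49 [.bwd 0, .fwd 57, .bwd 77, .bwd 57, .bwd 58, .fwd 57, .fwd 32] [3] (.rel 24), .derive 49 [.bwd 1, .fwd 58, .bwd 78, .bwd 58, .fwd 1, .fwd 0] [2] (.rel 161),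
  .node 26 5, .derive 50 [.bwd 0, .bwd 61, .fwd 60, .bwd 80, .bwd 60, .bwd 61, .fwd 0] [2] (.rel 17), .derive 50 [.bwd 1, .bwd 63, .bwd 92, .fwd 91, .fwd 69, .fwd 12] [1] (.rel 431), .node 27 1]
def ph1_1 : List Aux := [
  .derive 51 [.bwd 0, .fwd 60, .bwd 61, .fwd 60, .bwd 61, .fwd 60, .fwd 57] [2] (.rel 9), .derive 51 [.fwd 0, .fwd 57, .bwd 0, .bwd 1, .fwd 61, .fwd 58, .bwd 0] [3] (.rel 4), .derive 51 [.bwd 2, .fwd 62, .fwd 59, .fwd 33, .bwd 72, .bwd 33, .bwd 1] [0] (.rel 441), .node 28 1, .node 28 2, .node 29 4, .derive 54 [.bwd 0, .bwd 62, .bwd 5, .bwd 4, .fwd 5, .bwd 62, .fwd 0] [3] (.rel 24), .node 29 5,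
  .node 30 1, .node 30 2, .derive 57 [.bwd 0, .bwd 63, .fwd 64, .bwd 18, .fwd 17, .fwd 43, .fwd 0] [5] (.rel 183), .node 31 4, .node 31 5, .node 32 1, .node 32 2, .derive 61 [.bwd 0, .fwd 65, .bwd 69, .bwd 48, .bwd 22, .fwd 23, .fwd 10] [5] (.rel 183),
  .node 33 4, .derive 62 [.bwd 0, .fwd 65, .bwd 43, .bwd 42, .fwd 46, .fwd 65, .fwd 5] [3] (.rel 24), .node 33 5, .derive 63 [.bwd 0, .bwd 68, .bwd 99, .fwd 98, .fwd 76, .fwd 11] [1] (.rel 431), .node 34 0, .derive 64 [.bwd 0, .bwd 68, .fwd 64, .fwd 63, .fwd 96, .fwd 76, .fwd 12] [2] (.rel 466), .derive 57 [.bwd 12, .bwd 77, .bwd 97, .bwd 64, .bwd 65, .fwd 69, .fwd 1] [1] (.rel 457), .node 34 2,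
  .derive 65 [.bwd 0, .bwd 71, .fwd 70, .bwd 34, .bwd 35, .fwd 91, .fwd 70] [1] (.rel 8), .derive 65 [.bwd 1, .bwd 72, .fwd 71, .bwd 35, .bwd 36, .fwd 37] [3] (.rel 43), .node 34 3, .derive 66 [.bwd 0, .fwd 3, .fwd 1] [2] (.rel 1), .node 34 4, .node 34 5, .derive 68 [.bwd 0, .bwd 77, .bwd 115, .fwd 114, .bwd 113, .fwd 71, .fwd 17] [0] (.rel 453), .derive 49 [.bwd 37, .fwd 94, .fwd 72, .fwd 18, .bwd 0, .bwd 1, .fwd 2] [5] (.rel 636),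
  .node 35 5, .derive 69 [.bwd 0, .bwd 79, .bwd 100, .fwd 44, .fwd 43, .bwd 79, .fwd 76] [2] (.rel 17), .derive 61 [.bwd 19, .fwd 74, .bwd 0, .bwd 1, .bwd 80, .fwd 77, .bwd 0] [3] (.rel 12), .derive 69 [.bwd 2, .bwd 79, .bwd 10, .bwd 11, .fwd 14, .bwd 12, .bwd 24] [0] (.rel 470), .node 36 1, .derive 70 [.bwd 0, .bwd 3, .fwd 1, .bwd 26, .bwd 1, .bwd 4, .bwd 12] [0] (.rel 456), .node 37 0, .node 37 1,
  .derive 72 [.bwd 0, .bwd 45, .fwd 44, .fwd 0] [3] (.rel 125), .derive 72 [.bwd 1, .bwd 79, .bwd 125, .edge 4, .edge 1, .edge 4, .edge 1, .edge 4, .fwd 125, .fwd 79, .fwd 1] [4] (.rel 786), .node 37 5, .derive 73 [.bwd 0, .bwd 47, .fwd 48, .bwd 47, .fwd 48, .bwd 47, .fwd 11] [2] (.rel 17), .derive 73 [.bwd 1, .bwd 48, .fwd 12, .bwd 15, .fwd 17, .fwd 16] [4] (.rel 198), .node 38 0, .derive 74 [.bwd 0, .bwd 83, .bwd 130, .fwd 131, .fwd 93, .fwd 22, .bwd 8]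 [5] (.rel 452), .node 38 3,
  .derive 75 [.bwd 0, .bwd 84, .fwd 0] [2] (.rel 1), .derive 75 [.fwd 0, .bwd 1, .bwd 85, .bwd 84, .fwd 1, .bwd 0] [1] (.rel 45), .node 38 4, .node 39 1, .derive 77 [.bwd 0, .fwd 85, .fwd 42, .fwd 29] [3] (.rel 125), .derive 77 [.bwd 1, .fwd 86, .fwd 43, .fwd 30, .bwd 32, .fwd 26] [0] (.rel 147), .node 39 2, .derive 78 [.bwd 0, .fwd 88, .fwd 45] [3] (.rel 0),
  .derive 78 [.bwd 1, .fwd 89, .fwd 46, .bwd 0, .bwd 1, .fwd 88, .fwd 78] [5] (.rel 10), .derive 61 [.fwd 22, .fwd 21, .bwd 1, .bwd 2, .fwd 90, .fwd 47, .bwd 1] [0] (.rel 31), .node 40 4, .derive 79 [.bwd 0, .fwd 84, .fwd 85, .bwd 107, .fwd 42, .fwd 41] [2] (.rel 161), .node 40 5, .derive 80 [.bwd 0, .fwd 90, .fwd 109, .bwd 87, .bwd 86, .fwd 90, .fwd 42] [2] (.rel 17), .node 41 4, .derive 81 [.bwd 0, .bwd 88, .fwd 92, .fwd 111, .bwd 89, .bwd 88, .fwd 4] [3] (.rel 24),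
  .derive 62 [.fwd 46, .bwd 4, .bwd 0, .bwd 1, .bwd 89, .fwd 5, .bwd 0] [2] (.rel 19), .node 41 5, .derive 82 [.bwd 0, .fwd 92, .bwd 114, .bwd 95, .fwd 91, .fwd 92, .fwd 53] [2] (.rel 17), .node 42 0, .derive 83 [.bwd 0, .bwd 91, .fwd 90, .bwd 87, .bwd 11, .bwd 10, .fwd 52] [1] (.rel 455), .derive 83 [.bwd 1, .bwd 92, .bwd 101, .bwd 103, .fwd 148, .fwd 127, .fwd 65] [2] (.rel 466), .node 42 2, .derive 84 [.bwd 0, .bwd 94, .fwd 93, .bwd 92, .bwd 93, .bwd 144, .fwd 93] [1] (.rel 8),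
  .derive 84 [.bwd 1, .bwd 95, .bwd 145, .fwd 94, .bwd 0, .bwd 1] [3] (.rel 47), .node 42 4, .derive 85 [.bwd 0, .bwd 1, .bwd 3, .fwd 0] [2] (.rel 171), .node 42 5, .derive 86 [.bwd 0, .bwd 99, .bwd 150, .fwd 147, .bwd 146, .bwd 107, .fwd 68] [0] (.rel 453), .derive 44 [.bwd 95, .fwd 146, .bwd 108, .fwd 69, .bwd 0, .bwd 1, .fwd 3] [5] (.rel 636), .node 44 0, .derive 87 [.bwd 0, .bwd 96, .bwd 95, .bwd 96, .bwd 95, .bwd 96, .fwd 0] [3] (.rel 32),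
  .node 45 0, .node 45 3, .derive 89 [.bwd 0, .bwd 95, .fwd 0] [2] (.rel 1), .node 45 4, .node 46 0, .derive 91 [.bwd 0, .bwd 59, .bwd 61, .fwd 58, .fwd 57, .bwd 59, .bwd 47] [3] (.rel 32), .derive 91 [.bwd 1, .bwd 60, .bwd 48, .bwd 49, .bwd 126, .fwd 71] [1] (.rel 144), .derive 60 [.bwd 73, .fwd 72, .bwd 0, .bwd 2, .bwd 61, .bwd 49, .bwd 1] [2] (.rel 334),
  .node 46 5, .derive 92 [.bwd 0, .bwd 101, .bwd 157, .fwd 154, .bwd 153, .bwd 128, .fwd 70] [0] (.rel 453), .node 48 1, .derive 93 [.bwd 0, .fwd 99, .fwd 86, .bwd 22] [3] (.rel 125), .derive 93 [.bwd 1, .fwd 100, .fwd 87, .bwd 23, .bwd 24, .bwd 19] [0] (.rel 147), .node 49 0, .derive 94 [.bwd 0, .fwd 99, .bwd 98, .fwd 99, .bwd 98, .fwd 99, .fwd 55] [3] (.rel 32), .node 49 1,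
  .derive 95 [.bwd 0, .fwd 100, .bwd 101, .fwd 100, .bwd 101, .fwd 100, .fwd 56] [2] (.rel 9), .derive 95 [.fwd 0, .fwd 56, .bwd 0, .bwd 1, .fwd 101, .fwd 57, .bwd 0] [3] (.rel 4), .derive 95 [.bwd 2, .bwd 104, .bwd 163, .bwd 194, .edge 1, .edge 4, .edge 1, .fwd 194, .fwd 163, .fwd 104, .fwd 2] [4] (.rel 786), .node 50 0]
def ph1_2 : List Aux := [
  .derive 96 [.bwd 0, .bwd 103, .bwd 165, .fwd 168, .fwd 112, .bwd 72, .bwd 46] [5] (.rel 452), .node 50 3, .derive 97 [.bwd 0, .bwd 104, .fwd 0] [2] (.rel 1), .derive 97 [.fwd 0, .bwd 1, .bwd 105, .fwd 104, .fwd 21, .bwd 20] [1] (.rel 45), .derive 97 [.fwd 1, .bwd 2, .bwd 106, .bwd 107, .fwd 167, .fwd 141, .fwd 56] [5] (.rel 66), .node 50 4, .node 51 4, .derive 99 [.bwd 0, .bwd 105, .fwd 106, .bwd 163, .bwd 106, .bwd 105, .fwd 0] [3] (.rel 24),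
  .derive 99 [.bwd 1, .bwd 106, .fwd 107, .bwd 164, .fwd 102, .bwd 101] [2] (.rel 161), .derive 76 [.bwd 58, .fwd 144, .bwd 146, .bwd 172, .fwd 115, .fwd 13, .fwd 10, .bwd 13, .bwd 115, .bwd 174, .fwd 204, .edge 5, .bwd 204, .fwd 202, .bwd 208, .edge 1, .edge 4, .edge 1, .edge 4, .edge 1, .edge 5, .fwd 201, .fwd 171, .fwd 109, .fwd 2] [1] (.rel 784), .node 51 5, .derive 100 [.bwd 0, .fwd 110, .bwd 167, .bwd 110, .bwd 109, .fwd 110, .fwd 103] [2] (.rel 17), .node 52 0, .derive 101 [.bwd 0, .bwd 43, .bwd 45, .bwd 40, .bwd 42, .fwd 45, .bwd 21] [2] (.rel 294), .derive 101 [.fwd 0, .fwd 22, .bwd 46, .fwd 43, .bwd 21, .bwd 0, .bwd 1] [3] (.rel 302), .node 52 4,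
  .node 52 5, .derive 103 [.bwd 0, .bwd 113, .bwd 175, .fwd 174, .bwd 116, .bwd 114, .fwd 6] [0] (.rel 453), .derive 99 [.bwd 11, .fwd 116, .fwd 115, .fwd 7, .bwd 0, .bwd 1, .fwd 2] [5] (.rel 636), .node 54 0, .derive 104 [.bwd 0, .bwd 113, .bwd 11, .bwd 12, .fwd 11, .bwd 113, .fwd 0] [3] (.rel 32), .derive 104 [.bwd 1, .bwd 114, .bwd 115, .bwd 177, .fwd 152, .fwd 139, .fwd 42] [4] (.rel 613), .node 54 1, .derive 105 [.bwd 0, .bwd 14, .bwd 15, .fwd 14, .bwd 116, .bwd 14, .bwd 13] [2] (.rel 9),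
  .derive 76 [.bwd 0, .bwd 1, .bwd 15, .bwd 16, .fwd 15, .fwd 1] [3] (.rel 43), .derive 105 [.bwd 2, .bwd 119, .bwd 182, .bwd 213, .edge 1, .edge 5, .edge 3, .fwd 224, .fwd 196, .fwd 143, .bwd 140, .bwd 143, .bwd 196, .bwd 223, .bwd 218, .fwd 220, .edge 5, .edge 4, .edge 1, .edge 4, .edge 1, .edge 4, .fwd 209, .fwd 162, .fwd 77] [4] (.rel 781), .node 54 5, .derive 106 [.bwd 0, .bwd 18, .bwd 19, .fwd 18, .bwd 120, .bwd 18, .fwd 8] [2] (.rel 17), .derive 106 [.bwd 1, .bwd 19, .fwd 9, .bwd 12, .bwd 13, .fwd 14] [4] (.rel 198), .node 55 3, .node 55 4, .node 56 0,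
  .derive 109 [.bwd 0, .bwd 110, .bwd 111, .fwd 105, .fwd 104, .fwd 47, .fwd 46] [2] (.rel 294), .derive 109 [.bwd 1, .bwd 111, .bwd 112, .fwd 109, .bwd 95, .bwd 47, .bwd 45] [3] (.rel 304), .node 56 3, .derive 110 [.bwd 0, .bwd 113, .bwd 82] [2] (.rel 1), .node 56 4, .node 56 5, .derive 112 [.bwd 0, .bwd 129, .bwd 193, .fwd 190, .bwd 164, .bwd 162, .fwd 72] [0] (.rel 453), .derive 79 [.bwd 80, .fwd 164, .fwd 163, .fwd 73, .bwd 0, .bwd 1, .fwd 2] [5] (.rel 636),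
  .node 58 0, .derive 113 [.bwd 0, .bwd 123, .bwd 124, .fwd 189, .bwd 182, .fwd 179, .fwd 102] [4] (.rel 613), .node 58 1, .node 58 5, .derive 115 [.bwd 0, .bwd 84, .bwd 80, .bwd 79, .fwd 126, .bwd 84, .fwd 4] [2] (.rel 17), .derive 115 [.bwd 1, .bwd 85, .fwd 5, .bwd 8, .fwd 10, .fwd 9] [4] (.rel 198), .node 59 3, .node 59 4,
  .node 60 4, .derive 118 [.bwd 0, .bwd 15, .bwd 17, .fwd 11, .fwd 10, .bwd 83, .fwd 86] [5] (.rel 636), .node 60 5, .derive 119 [.bwd 0, .bwd 137, .bwd 202, .fwd 200, .bwd 180, .bwd 179, .fwd 90] [0] (.rel 453), .node 62 0, .derive 120 [.bwd 0, .fwd 135, .bwd 93, .bwd 89, .bwd 88, .fwd 135, .fwd 12] [3] (.rel 32), .derive 120 [.bwd 1, .fwd 89, .fwd 90, .fwd 94, .fwd 13, .fwd 12, .bwd 59] [4] (.rel 91), .node 62 1,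
  .node 62 5, .derive 122 [.bwd 0, .fwd 92, .fwd 93, .fwd 97, .bwd 139, .fwd 92, .bwd 7] [2] (.rel 17), .derive 122 [.bwd 1, .fwd 93, .bwd 8, .bwd 9, .bwd 24, .fwd 25] [4] (.rel 198), .node 63 3, .node 63 4, .node 64 4, .derive 125 [.bwd 0, .bwd 109, .bwd 26, .bwd 27, .bwd 140, .bwd 109, .bwd 16] [3] (.rel 24), .node 64 5,
  .derive 126 [.bwd 0, .fwd 142, .fwd 29, .fwd 28, .fwd 111, .fwd 142, .fwd 26] [2] (.rel 17), .node 65 4, .derive 127 [.bwd 0, .fwd 140, .bwd 138, .bwd 139, .fwd 142, .fwd 140, .bwd 121] [3] (.rel 24), .node 65 5, .derive 128 [.bwd 0, .bwd 144, .fwd 141, .fwd 140, .bwd 142, .bwd 144, .fwd 138] [2] (.rel 17), .derive 128 [.bwd 1, .fwd 144, .bwd 215, .fwd 212, .fwd 132, .bwd 122] [1] (.rel 431), .derive 128 [.bwd 2, .fwd 145, .bwd 214, .bwd 145, .bwd 146, .fwd 149, .fwd 6] [0] (.rel 453), .node 66 4,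
  .derive 129 [.bwd 0, .bwd 145, .fwd 148, .fwd 146, .bwd 144, .bwd 145, .fwd 143] [3] (.rel 24), .derive 127 [.fwd 6, .fwd 129, .bwd 0, .bwd 1, .bwd 146, .fwd 144, .bwd 0] [2] (.rel 19), .derive 129 [.bwd 2, .bwd 147, .fwd 145, .bwd 142, .fwd 179, .fwd 131, .bwd 7] [5] (.rel 621), .node 66 5, .derive 130 [.bwd 0, .fwd 148, .bwd 150, .bwd 152, .fwd 149, .fwd 148, .fwd 87] [2] (.rel 17), .node 67 0, .node 67 1, .node 68 1,
  .derive 133 [.bwd 0, .bwd 150, .fwd 153, .fwd 152, .bwd 154, .fwd 12, .fwd 10] [2] (.rel 283), .derive 133 [.bwd 1, .bwd 12, .fwd 11, .fwd 134, .bwd 95, .bwd 93, .bwd 47] [5] (.rel 281), .derive 133 [.bwd 2, .bwd 13, .fwd 12, .bwd 136, .bwd 218, .fwd 136, .bwd 1] [0] (.rel 441), .node 68 3, .derive 134 [.bwd 0, .bwd 15, .fwd 13, .fwd 19, .fwd 45, .fwd 117, .fwd 37] [0] (.rel 321), .node 68 4, .node 71 1, .node 71 2,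
  .node 71 5, .node 72 0, .node 72 5, .node 73 0, .node 73 1, .derive 142 [.bwd 0, .fwd 149, .bwd 20, .bwd 19, .fwd 26, .fwd 149, .fwd 14] [2] (.rel 9), .node 74 3, .derive 143 [.bwd 0, .bwd 149, .fwd 147, .bwd 146, .bwd 147, .bwd 231, .fwd 147] [0] (.rel 31),
  .node 74 4, .node 76 0, .node 76 5, .derive 146 [.bwd 0, .bwd 148, .bwd 236, .fwd 240, .fwd 186, .bwd 168, .fwd 13] [3] (.rel 688)]
def ph1_3 : List Aux := [
  .derive 146 [.bwd 1, .bwd 149, .bwd 237, .fwd 241, .fwd 187, .fwd 53, .bwd 15] [4] (.rel 716), .node 79 0, .derive 147 [.bwd 0, .bwd 138, .bwd 139, .bwd 227, .bwd 230, .fwd 143, .fwd 0] [4] (.rel 613), .node 79 1, .derive 148 [.bwd 0, .fwd 144, .bwd 186, .fwd 139, .fwd 140, .fwd 144, .fwd 61] [2] (.rel 9), .derive 148 [.bwd 1, .bwd 141, .bwd 140, .fwd 49] [3] (.rel 125), .node 80 3, .derive 149 [.bwd 0, .fwd 145, .fwd 47] [2] (.rel 1),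
  .derive 149 [.bwd 1, .fwd 146, .fwd 188, .fwd 78] [1] (.rel 126), .node 80 4, .node 81 0, .derive 151 [.bwd 0, .fwd 147, .fwd 151, .bwd 193, .fwd 146, .fwd 147, .fwd 9] [3] (.rel 32), .node 81 1, .derive 152 [.bwd 0, .bwd 148, .fwd 195, .bwd 153, .bwd 149, .bwd 148, .fwd 57] [2] (.rel 9), .derive 114 [.bwd 9, .fwd 8, .bwd 0, .bwd 1, .bwd 149, .fwd 58, .bwd 0] [3] (.rel 4), .node 82 3,
  .derive 153 [.bwd 0, .fwd 149, .fwd 69] [2] (.rel 1), .node 82 4, .node 83 4, .derive 155 [.bwd 0, .bwd 127, .bwd 105, .fwd 104, .bwd 149, .bwd 127, .bwd 90] [3] (.rel 24), .node 83 5, .derive 156 [.bwd 0, .fwd 151, .bwd 106, .fwd 107, .fwd 129, .fwd 151, .fwd 104] [2] (.rel 17), .derive 156 [.bwd 1, .fwd 153, .bwd 217, .bwd 272, .fwd 208, .fwd 71] [1] (.rel 431), .node 84 4,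
  .derive 157 [.bwd 0, .fwd 151, .fwd 153, .fwd 151, .fwd 153, .fwd 151, .fwd 150] [3] (.rel 24), .derive 157 [.fwd 0, .fwd 150, .bwd 0, .bwd 1, .fwd 152, .fwd 151, .bwd 0] [2] (.rel 19), .derive 85 [.bwd 148, .fwd 243, .bwd 244, .bwd 297, .bwd 325, .edge 1, .edge 4, .edge 1, .edge 3, .edge 5, .edge 3, .edge 5, .edge 4, .edge 1, .fwd 325, .fwd 297, .fwd 244, .fwd 241, .fwd 148, .bwd 1, .bwd 2, .fwd 154, .bwd 246, .bwd 154, .fwd 2] [1] (.rel 760), .node 84 5, .derive 158 [.bwd 0, .bwd 157, .bwd 155, .bwd 157, .bwd 155, .bwd 157, .fwd 152] [2] (.rel 17), .derive 158 [.bwd 1, .fwd 157, .bwd 251, .bwd 261, .fwd 177, .bwd 128] [1] (.rel 431), .node 85 0, .node 86 1,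
  .derive 160 [.bwd 0, .bwd 156, .bwd 159, .bwd 161, .bwd 159, .fwd 4, .fwd 2] [2] (.rel 283), .node 86 3, .derive 161 [.bwd 0, .fwd 157, .bwd 214, .fwd 74, .bwd 26, .fwd 25] [0] (.rel 145), .node 86 4, .node 87 2, .derive 163 [.bwd 0, .bwd 157, .fwd 0] [3] (.rel 0), .node 87 5, .node 88 2,
  .node 88 3, .derive 166 [.bwd 0, .bwd 160, .fwd 159, .bwd 158, .bwd 159, .bwd 254, .fwd 159] [0] (.rel 31), .node 88 4, .node 89 4, .derive 168 [.bwd 0, .bwd 162, .bwd 257, .fwd 162, .bwd 161, .bwd 162, .fwd 160] [3] (.rel 24), .derive 168 [.bwd 1, .bwd 163, .bwd 258, .fwd 163, .fwd 1, .fwd 0] [2] (.rel 161), .node 90 1, .node 90 5,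
  .derive 170 [.bwd 0, .bwd 164, .bwd 262, .fwd 266, .bwd 265, .fwd 169, .fwd 9] [0] (.rel 633), .derive 170 [.bwd 1, .bwd 165, .bwd 263, .bwd 280, .fwd 241, .bwd 172, .fwd 13] [3] (.rel 688), .derive 170 [.bwd 2, .bwd 166, .bwd 264, .bwd 281, .fwd 242, .fwd 120, .bwd 15] [4] (.rel 716), .derive 169 [.bwd 4, .fwd 3, .fwd 2, .bwd 12, .bwd 172, .bwd 266, .bwd 267, .fwd 172] [] (.rel 467), .derive 169 [.fwd 0] [] (.free), .derive 163 [.bwd 16, .bwd 0, .bwd 6, .bwd 7, .fwd 8, .bwd 7, .fwd 8, .bwd 7] [1] (.rel 8), .node 91 5, .derive 171 [.bwd 0, .bwd 167, .bwd 121, .fwd 122, .bwd 169, .bwd 167, .fwd 104] [2] (.rel 17),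
  .derive 171 [.bwd 1, .fwd 170, .bwd 123, .fwd 122, .fwd 105, .bwd 33, .fwd 34] [1] (.rel 284), .node 92 3, .derive 172 [.bwd 0, .fwd 168, .fwd 98, .bwd 50, .bwd 51, .fwd 196, .fwd 98] [0] (.rel 31), .node 92 4, .node 94 1, .node 94 2, .derive 175 [.bwd 0, .fwd 167, .fwd 74] [3] (.rel 0), .node 94 5,
  .derive 176 [.bwd 0, .bwd 170, .fwd 232, .bwd 235, .fwd 234, .fwd 78, .bwd 64] [0] (.rel 631), .derive 139 [.bwd 75, .bwd 225, .bwd 269, .fwd 171, .fwd 1, .fwd 0, .bwd 66, .fwd 155] [] (.rel 455), .derive 139 [.fwd 0] [] (.free), .derive 99 [.bwd 0, .bwd 77] [0] (.free), .node 95 0, .derive 177 [.bwd 0, .bwd 171, .fwd 172, .fwd 79, .fwd 2, .fwd 160, .fwd 149, .bwd 148] [2] (.rel 299), .derive 163 [.bwd 33, .bwd 148, .bwd 0, .bwd 1, .bwd 172, .fwd 1] [4] (.rel 487), .derive 177 [.bwd 0, .fwd 17, .bwd 27, .bwd 167, .fwd 166, .bwd 223, .fwd 220, .fwd 161,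 .bwd 164, .bwd 271, .bwd 333, .bwd 361, .bwd 363, .edge 5, .edge 3, .edge 5, .fwd 359, .fwd 328, .fwd 265, .fwd 148, .fwd 145, .bwd 221, .bwd 166, .bwd 169, .fwd 165] [1] (.rel 782),
  .node 96 3, .derive 178 [.bwd 0, .bwd 173, .fwd 171, .bwd 170, .bwd 171, .bwd 275, .fwd 171] [0] (.rel 31), .node 96 4, .node 97 4, .derive 180 [.bwd 0, .bwd 174, .bwd 278, .fwd 174, .bwd 173, .bwd 174, .fwd 170] [3] (.rel 24), .derive 180 [.bwd 1, .bwd 175, .bwd 279, .fwd 175, .fwd 1, .fwd 0] [2] (.rel 161), .node 98 0, .node 98 5,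
  .derive 182 [.bwd 0, .bwd 8, .bwd 11, .bwd 184, .fwd 284, .fwd 241, .fwd 91] [0] (.rel 453), .derive 182 [.bwd 1, .bwd 175, .bwd 284, .bwd 320, .fwd 262, .bwd 191, .fwd 21] [3] (.rel 688), .derive 182 [.bwd 2, .bwd 176, .bwd 285, .bwd 321, .fwd 263, .fwd 122, .bwd 23] [4] (.rel 716), .node 100 3, .derive 183 [.bwd 0, .fwd 172, .fwd 154] [2] (.rel 1), .node 100 4, .node 101 4, .derive 185 [.bwd 0, .fwd 172, .bwd 217, .bwd 195, .bwd 173, .fwd 172, .fwd 171] [3] (.rel 24),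
  .derive 155 [.fwd 68, .fwd 160, .bwd 0, .bwd 1, .fwd 173, .fwd 172, .bwd 0] [2] (.rel 19), .node 102 0, .derive 186 [.bwd 0, .bwd 171, .fwd 22, .bwd 250, .bwd 294, .fwd 196, .fwd 29] [5] (.rel 469), .derive 174 [.bwd 0, .bwd 1, .bwd 172, .fwd 23, .bwd 249, .bwd 250, .fwd 100] [4] (.rel 690), .node 102 1, .node 103 3, .derive 188 [.bwd 0, .fwd 176, .fwd 10, .fwd 9, .bwd 164, .bwd 182, .fwd 10] [0] (.rel 31), .node 103 4,
  .node 105 0, .derive 190 [.bwd 0, .bwd 172, .bwd 173, .bwd 172, .bwd 173, .bwd 172, .fwd 99] [3] (.rel 32), .derive 190 [.bwd 1, .bwd 175, .bwd 189, .fwd 30, .bwd 258, .fwd 255, .fwd 106] [5] (.rel 471), .node 105 5]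
def ph1_4 : List Aux := [
  .derive 191 [.bwd 0, .fwd 176, .fwd 175, .fwd 176, .fwd 175, .fwd 176, .fwd 101] [2] (.rel 17), .derive 191 [.bwd 1, .fwd 177, .fwd 102, .fwd 100, .bwd 117, .bwd 132] [4] (.rel 198), .node 106 0, .node 107 4, .derive 193 [.bwd 0, .bwd 174, .bwd 192, .fwd 20, .fwd 19, .bwd 174, .fwd 173] [3] (.rel 24), .derive 193 [.bwd 1, .bwd 175, .bwd 193, .fwd 19] [2] (.rel 171), .node 108 0, .node 108 1,
  .node 108 2, .derive 196 [.bwd 0, .bwd 4, .fwd 3] [3] (.rel 0), .derive 183 [.bwd 26, .fwd 24, .bwd 0, .bwd 1, .bwd 5, .fwd 4, .bwd 0] [4] (.rel 23), .derive 196 [.bwd 0, .bwd 27, .bwd 200, .fwd 204, .fwd 192, .fwd 21, .fwd 20] [0] (.rel 694), .derive 195 [.bwd 4, .fwd 3, .fwd 0, .bwd 21, .bwd 22, .bwd 193, .bwd 202, .fwd 114] [] (.rel 456), .derive 195 [.fwd 0] [] (.free), .node 108 5, .derive 197 [.bwd 0, .bwd 184, .bwd 307, .fwd 346,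 .fwd 329, .fwd 234, .fwd 72] [3] (.rel 688),
  .derive 197 [.bwd 1, .bwd 185, .bwd 308, .fwd 347, .fwd 330, .fwd 234, .bwd 74] [4] (.rel 716), .node 110 4, .derive 198 [.bwd 0, .bwd 183, .bwd 296, .bwd 265, .bwd 182, .bwd 183, .fwd 181] [3] (.rel 24), .derive 125 [.fwd 156, .fwd 174, .bwd 0, .bwd 1, .bwd 184, .fwd 182, .bwd 0] [2] (.rel 19), .node 112 3, .node 112 4, .node 113 2, .node 113 5,
  .node 114 0, .node 114 4, .node 115 0, .node 116 4, .derive 206 [.bwd 0, .bwd 181, .bwd 261, .fwd 112, .fwd 111, .bwd 181, .fwd 180] [3] (.rel 24), .derive 206 [.bwd 1, .bwd 182, .bwd 262, .fwd 111] [2] (.rel 171), .node 117 0, .node 117 1,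
  .node 117 2, .derive 209 [.bwd 0, .bwd 4, .fwd 3] [3] (.rel 0), .node 117 5, .derive 210 [.bwd 0, .bwd 187, .bwd 322, .bwd 376, .fwd 372, .fwd 289, .fwd 138] [3] (.rel 688), .derive 210 [.bwd 1, .bwd 188, .bwd 323, .bwd 377, .fwd 373, .fwd 288, .bwd 140] [4] (.rel 716), .node 118 0, .node 118 1, .node 119 3,
  .derive 213 [.bwd 0, .fwd 188, .fwd 133, .fwd 132, .bwd 180, .bwd 278, .fwd 133] [0] (.rel 31), .node 119 4, .node 120 2, .derive 215 [.bwd 0, .fwd 189, .fwd 20] [3] (.rel 0), .node 120 5, .derive 216 [.bwd 0, .fwd 190, .fwd 250, .bwd 306, .fwd 302, .fwd 153, .bwd 46] [4] (.rel 635), .derive 216 [.bwd 1, .bwd 193, .fwd 189, .fwd 187, .bwd 299, .fwd 149, .bwd 10] [0] (.rel 631), .derive 152 [.bwd 134, .bwd 282, .fwd 194, .fwd 2, .fwd 0, .bwd 12, .fwd 15] [0] (.rel 456),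
  .derive 208 [.bwd 0, .bwd 133, .bwd 143, .fwd 142, .bwd 134, .bwd 133, .fwd 23] [3] (.rel 32), .derive 154 [.bwd 15, .bwd 16, .fwd 17, .bwd 1, .bwd 134, .fwd 24] [1] (.rel 148), .node 121 0, .node 121 4, .derive 218 [.bwd 0, .bwd 146, .fwd 147, .fwd 26] [2] (.rel 171), .node 121 5, .node 122 0, .node 122 1,
  .node 123 4, .derive 222 [.bwd 0, .bwd 197, .bwd 295, .fwd 150, .fwd 149, .bwd 197, .fwd 196] [3] (.rel 24), .derive 222 [.bwd 1, .bwd 198, .bwd 296, .fwd 148] [2] (.rel 171), .node 124 0, .node 124 2, .derive 224 [.bwd 0, .bwd 3, .fwd 2] [3] (.rel 0), .node 124 5, .derive 225 [.bwd 0, .bwd 202, .bwd 344, .fwd 346, .fwd 345, .fwd 222, .fwd 39] [0] (.rel 633),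
  .derive 225 [.bwd 1, .bwd 203, .bwd 345, .fwd 403, .fwd 367, .fwd 264, .fwd 89] [3] (.rel 688), .derive 225 [.bwd 2, .bwd 204, .bwd 346, .fwd 404, .fwd 368, .fwd 263, .bwd 91] [4] (.rel 716), .node 125 0, .derive 226 [.bwd 0, .fwd 204, .fwd 222, .bwd 48, .bwd 47, .fwd 204, .fwd 40] [3] (.rel 32), .derive 226 [.bwd 1, .fwd 205, .fwd 222, .fwd 315, .bwd 347, .fwd 339, .fwd 190] [4] (.rel 613), .node 126 3, .derive 227 [.bwd 0, .fwd 205, .fwd 49] [2] (.rel 1), .derive 227 [.bwd 1, .bwd 207, .fwd 349, .fwd 236, .fwd 235, .bwd 270, .fwd 98] [5] (.rel 72),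
  .node 126 4, .derive 228 [.bwd 0, .bwd 209, .bwd 352, .fwd 343, .fwd 342, .fwd 225, .bwd 44] [5] (.rel 689), .node 127 0, .derive 229 [.bwd 0, .fwd 208, .fwd 331, .bwd 202, .bwd 201, .fwd 208, .fwd 183] [3] (.rel 32), .derive 229 [.bwd 1, .fwd 209, .fwd 331, .bwd 350, .bwd 338, .bwd 217, .fwd 21] [4] (.rel 613), .node 127 1, .derive 230 [.bwd 0, .fwd 211, .fwd 334, .fwd 199] [3] (.rel 125), .node 128 3,
  .derive 231 [.bwd 0, .fwd 211, .fwd 196] [2] (.rel 1), .derive 231 [.bwd 1, .bwd 213, .bwd 357, .fwd 354, .fwd 353, .fwd 292, .fwd 123] [5] (.rel 72), .node 129 0, .derive 232 [.bwd 0, .fwd 210, .bwd 339, .bwd 216, .fwd 209, .fwd 210, .fwd 205] [3] (.rel 32), .derive 232 [.bwd 1, .bwd 210, .fwd 217, .fwd 340, .fwd 206, .bwd 15, .fwd 16] [4] (.rel 91), .node 129 1, .derive 233 [.bwd 0, .bwd 212, .fwd 219, .fwd 342, .bwd 213, .bwd 212, .fwd 8] [2] (.rel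 9), .derive 142 [.fwd 193, .bwd 8, .bwd 0, .bwd 1, .bwd 213, .fwd 9, .bwd 0] [3] (.rel 4),
  .node 130 3, .derive 234 [.bwd 0, .fwd 212, .fwd 131] [2] (.rel 1), .derive 134 [.bwd 9, .fwd 8, .bwd 0, .bwd 1, .fwd 213, .fwd 132, .bwd 0] [5] (.rel 16), .node 130 4, .derive 235 [.bwd 0, .fwd 3, .fwd 2, .bwd 134, .fwd 132, .bwd 110] [2] (.rel 161), .derive 235 [.bwd 1, .fwd 4, .fwd 3, .bwd 110, .bwd 113, .bwd 115] [5] (.rel 201), .node 131 1, .node 131 2,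
  .node 131 5, .derive 238 [.bwd 0, .bwd 28, .fwd 29, .bwd 70, .bwd 253, .fwd 256, .fwd 73] [4] (.rel 635), .derive 181 [.bwd 119, .bwd 292, .bwd 401, .fwd 404, .fwd 366, .fwd 220, .fwd 1] [3] (.rel 714), .node 132 0]
def ph1_5 : List Aux := [
  .derive 239 [.bwd 0, .bwd 221, .bwd 356, .fwd 208, .bwd 101, .bwd 103, .fwd 100] [1] (.rel 455), .derive 187 [.bwd 108, .bwd 273, .bwd 274, .fwd 278, .fwd 101, .bwd 0] [5] (.rel 432), .node 132 4, .node 132 5, .node 133 3, .derive 242 [.bwd 0, .fwd 224, .fwd 210] [2] (.rel 1), .derive 242 [.bwd 1, .fwd 225, .fwd 211, .bwd 0, .bwd 1, .bwd 223, .fwd 1] [0] (.rel 33), .derive 242 [.bwd 2, .fwd 225, .fwd 274, .bwd 321, .bwd 319, .fwd 256, .fwd 67] [5] (.rel 72),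
  .node 133 4, .derive 243 [.bwd 0, .fwd 4, .fwd 3, .bwd 214, .fwd 212, .bwd 73] [2] (.rel 161), .derive 243 [.bwd 1, .fwd 5, .fwd 4, .bwd 73, .bwd 75, .fwd 77] [5] (.rel 201), .node 135 0, .derive 244 [.bwd 0, .bwd 226, .bwd 243, .fwd 32, .fwd 31, .bwd 211, .bwd 147] [3] (.rel 64), .derive 244 [.bwd 1, .bwd 213, .fwd 212, .bwd 229, .fwd 382, .fwd 265, .fwd 82] [4] (.rel 613), .node 135 2, .derive 245 [.bwd 0, .bwd 215, .bwd 114] [3] (.rel 0),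
  .derive 231 [.bwd 36, .bwd 114, .bwd 0, .bwd 1, .bwd 216, .bwd 115, .bwd 0] [4] (.rel 23), .derive 245 [.fwd 1, .bwd 117, .bwd 292, .fwd 218, .bwd 116, .bwd 1, .bwd 2] [5] (.rel 70), .node 136 0, .node 136 2, .derive 247 [.bwd 0, .bwd 233, .fwd 232, .bwd 157, .bwd 158, .fwd 325, .fwd 232] [1] (.rel 8), .derive 247 [.bwd 1, .bwd 234, .fwd 233, .bwd 158, .bwd 159, .fwd 160] [3] (.rel 43), .derive 184 [.bwd 112, .fwd 110, .bwd 0, .bwd 2, .bwd 235, .fwd 234, .bwd 1] [0] (.rel 338), .node 137 5,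
  .derive 248 [.bwd 0, .bwd 236, .bwd 329, .fwd 162, .fwd 161, .bwd 236, .fwd 235] [2] (.rel 17), .node 138 3, .derive 249 [.bwd 0, .bwd 237, .fwd 238, .bwd 163, .bwd 164, .fwd 162, .bwd 13] [5] (.rel 72), .derive 249 [.bwd 1, .bwd 146, .fwd 144, .fwd 168, .fwd 70, .fwd 69, .fwd 67] [4] (.rel 653), .node 138 4, .derive 250 [.bwd 0, .fwd 3, .fwd 1, .bwd 69, .fwd 68, .fwd 67, .bwd 70] [0] (.rel 88), .derive 250 [.bwd 1, .bwd 5, .bwd 6, .bwd 242, .fwd 241, .fwd 4, .fwd 2] [3] (.rel 516), .derive 250 [.bwd 2, .bwd 242, .bwd 289, .bwd 277, .bwd 278, .fwd 274, .fwd 76] [5] (.rel 634),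
  .node 140 0, .derive 251 [.bwd 0, .bwd 242, .bwd 393, .fwd 394, .fwd 246, .fwd 13, .bwd 10] [5] (.rel 452), .derive 251 [.bwd 1, .bwd 142, .bwd 122, .fwd 124, .bwd 148, .fwd 150, .bwd 139] [4] (.rel 611), .derive 251 [.bwd 2, .bwd 143, .bwd 123, .bwd 124, .bwd 140, .bwd 141, .fwd 139] [3] (.rel 609), .node 141 1, .node 141 2, .derive 253 [.bwd 0, .bwd 246, .bwd 271, .fwd 264, .fwd 55, .fwd 54, .fwd 42] [0] (.rel 295), .node 141 4,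
  .derive 254 [.bwd 0, .bwd 248, .fwd 396, .bwd 267, .bwd 266, .fwd 65, .fwd 63] [3] (.rel 90), .node 142 4, .node 143 5, .derive 256 [.bwd 0, .bwd 37, .bwd 38, .fwd 262, .fwd 248, .bwd 37, .fwd 35] [2] (.rel 17), .derive 171 [.fwd 188, .fwd 104, .bwd 0, .bwd 1, .bwd 38, .fwd 36, .bwd 0] [3] (.rel 12), .node 144 0, .derive 257 [.bwd 0, .bwd 249, .bwd 265, .fwd 41, .fwd 40, .bwd 109, .bwd 99] [3] (.rel 64), .node 144 2,
  .derive 258 [.bwd 0, .bwd 112, .bwd 38] [3] (.rel 0), .derive 242 [.bwd 44, .fwd 40, .bwd 0, .bwd 1, .bwd 113, .bwd 39, .bwd 0] [4] (.rel 23), .derive 258 [.bwd 0, .bwd 45, .bwd 267, .fwd 268, .bwd 318, .fwd 312, .fwd 128] [5] (.rel 636), .node 144 5, .derive 259 [.bwd 0, .fwd 4, .fwd 3, .fwd 42, .fwd 116, .fwd 4, .fwd 1] [2] (.rel 17), .derive 259 [.bwd 1, .fwd 5, .fwd 4, .fwd 43, .bwd 118, .bwd 124, .bwd 79] [3] (.rel 73), .derive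 259 [.bwd 2, .fwd 6, .fwd 3, .bwd 132, .fwd 133, .bwd 83] [4] (.rel 198), .node 145 2,
  .node 145 5, .node 147 1, .node 147 2, .node 147 5, .node 148 4, .derive 265 [.bwd 0, .fwd 255, .bwd 247, .bwd 246, .bwd 256, .fwd 255, .fwd 109] [3] (.rel 24), .derive 265 [.bwd 1, .bwd 258, .bwd 403, .bwd 492, .bwd 544, .edge 1, .fwd 544, .fwd 492, .fwd 403, .fwd 258, .fwd 1] [1] (.rel 787), .derive 265 [.fwd 1, .bwd 111, .bwd 307, .bwd 446, .bwd 512, .bwd 549, .edge 1, .edge 5, .edge 3, .edge 4, .fwd 547, .fwd 501, .fwd 423, .bwd 421, .bwd 423, .bwd 468, .fwd 431, .bwd 290, .fwd 288, .bwd 297, .fwd 438, .bwd 508, .bwd 438, .fwd 297, .fwd 85] [5] (.rel 779),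
  .node 150 5, .derive 266 [.bwd 0, .bwd 255, .fwd 258, .bwd 124, .bwd 57, .bwd 58, .fwd 57] [4] (.rel 635), .derive 266 [.bwd 1, .bwd 256, .bwd 405, .bwd 494, .fwd 405, .bwd 314, .fwd 124] [3] (.rel 688), .node 151 1, .node 151 2, .derive 268 [.bwd 0, .fwd 257, .fwd 10] [3] (.rel 0), .node 152 4, .derive 269 [.bwd 0, .bwd 256, .bwd 266, .fwd 265, .bwd 257, .bwd 256, .fwd 145] [3] (.rel 24),
  .derive 265 [.fwd 10, .fwd 119, .bwd 0, .bwd 1, .bwd 257, .fwd 146, .bwd 0] [2] (.rel 19), .derive 269 [.bwd 2, .bwd 258, .fwd 147, .bwd 1, .bwd 0, .fwd 9, .bwd 86] [5] (.rel 185), .node 154 0, .node 154 5, .derive 271 [.bwd 0, .bwd 146, .fwd 147, .fwd 143, .fwd 142, .bwd 146, .bwd 102] [2] (.rel 17), .derive 200 [.bwd 24, .fwd 23, .bwd 0, .bwd 1, .bwd 147, .bwd 103, .bwd 0] [3] (.rel 12), .derive 271 [.bwd 2, .bwd 148, .bwd 104, .bwd 105, .fwd 108, .fwd 107] [4]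 (.rel 198), .derive 271 [.bwd 3, .fwd 129, .bwd 154, .bwd 336, .bwd 419, .fwd 277, .fwd 19] [0] (.rel 453),
  .node 155 0, .derive 272 [.bwd 0, .fwd 261, .fwd 353, .bwd 193, .bwd 192, .fwd 261, .fwd 178] [3] (.rel 32), .derive 272 [.bwd 1, .fwd 262, .fwd 353, .fwd 390, .bwd 414, .fwd 408, .fwd 251] [4] (.rel 613), .node 156 3, .derive 273 [.bwd 0, .fwd 262, .fwd 190] [2] (.rel 1), .node 156 4, .derive 274 [.bwd 0, .fwd 2, .fwd 1, .bwd 192, .fwd 190, .bwd 50] [2] (.rel 161), .derive 274 [.bwd 1, .fwd 3, .fwd 2, .bwd 52, .fwd 53, .bwd 181] [5] (.rel 201),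
  .node 157 0, .derive 275 [.bwd 0, .fwd 264, .bwd 414, .bwd 264, .bwd 263, .fwd 264, .fwd 258] [3] (.rel 32), .derive 275 [.bwd 1, .bwd 264, .fwd 265, .bwd 415, .fwd 259, .bwd 7, .fwd 8] [4] (.rel 91), .node 158 3, .derive 276 [.bwd 0, .fwd 263, .fwd 258] [2] (.rel 1), .node 158 4, .derive 277 [.bwd 0, .fwd 2, .fwd 1, .bwd 260, .fwd 258, .bwd 244] [2] (.rel 161), .derive 277 [.bwd 1, .fwd 3, .fwd 2, .bwd 244, .bwd 247, .bwd 249] [5] (.rel 201),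
  .derive 277 [.fwd 1, .fwd 247, .bwd 257, .bwd 417, .fwd 418, .fwd 269, .fwd 7] [1] (.rel 457), .derive 162 [.bwd 247, .bwd 2, .fwd 0, .fwd 7] [1] (.rel 126), .node 160 3, .derive 278 [.bwd 0, .fwd 266, .fwd 226] [2] (.rel 1)]
def ph1_6 : List Aux := [
  .derive 199 [.bwd 129, .fwd 128, .bwd 0, .bwd 1, .fwd 267, .fwd 227, .bwd 0] [5] (.rel 16), .node 160 4, .derive 279 [.bwd 0, .fwd 3, .fwd 2, .bwd 229, .fwd 227, .bwd 137] [2] (.rel 161), .derive 279 [.bwd 1, .fwd 4, .fwd 3, .bwd 137, .bwd 140, .fwd 142] [5] (.rel 201), .node 162 0, .derive 280 [.bwd 0, .bwd 269, .bwd 276, .fwd 13, .fwd 12, .bwd 254, .fwd 256] [3] (.rel 64), .derive 280 [.bwd 1, .bwd 256, .fwd 255, .bwd 272, .fwd 429, .fwd 375, .fwd 199] [4] (.rel 613), .node 162 2,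
  .derive 281 [.bwd 0, .bwd 258, .bwd 13] [3] (.rel 0), .derive 281 [.fwd 0, .fwd 13, .fwd 264, .fwd 261, .bwd 14, .bwd 0, .bwd 1] [5] (.rel 70), .node 163 5, .derive 282 [.bwd 0, .bwd 274, .bwd 431, .fwd 274, .bwd 273, .bwd 274, .fwd 272] [2] (.rel 17), .node 164 1, .derive 283 [.bwd 0, .bwd 1, .bwd 2, .fwd 259, .bwd 17, .fwd 16] [5] (.rel 432), .derive 283 [.bwd 1, .bwd 275, .bwd 435, .fwd 436, .fwd 283, .bwd 16, .fwd 6] [0] (.rel 467), .node 164 4,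
  .derive 284 [.bwd 0, .bwd 267, .bwd 21, .bwd 7, .bwd 8, .fwd 11, .fwd 9] [3] (.rel 90), .derive 284 [.bwd 1, .bwd 11, .fwd 10, .bwd 210, .fwd 208, .fwd 207, .bwd 211] [0] (.rel 88), .derive 284 [.bwd 2, .bwd 12, .bwd 13, .bwd 8, .bwd 3, .fwd 4, .fwd 27] [5] (.rel 636), .derive 181 [.bwd 240, .bwd 247, .fwd 249, .bwd 399, .fwd 392, .fwd 216, .bwd 0] [1] (.rel 455), .derive 246 [.bwd 101, .bwd 333, .fwd 331, .bwd 239, .bwd 240, .fwd 241, .fwd 0] [2] (.rel 466), .node 165 3, .derive 285 [.bwd 0, .bwd 282, .fwd 281] [2] (.rel 1), .node 165 4,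
  .derive 286 [.bwd 0, .fwd 2, .fwd 1, .bwd 283, .fwd 281, .bwd 208] [2] (.rel 161), .derive 286 [.bwd 1, .fwd 3, .fwd 2, .bwd 208, .bwd 210, .fwd 216] [5] (.rel 201), .node 167 2, .derive 287 [.bwd 0, .bwd 211, .bwd 2] [3] (.rel 0), .derive 287 [.bwd 1, .bwd 212, .bwd 3, .fwd 2, .fwd 218, .bwd 94, .fwd 92] [5] (.rel 66), .node 167 5, .derive 288 [.bwd 0, .fwd 3, .fwd 2, .fwd 5, .fwd 214, .fwd 3, .fwd 1] [2] (.rel 17), .derive 274 [.fwd 44, .fwd 95, .bwd 0, .bwd 1, .fwd 4, .fwd 2, .bwd 0] [3] (.rel 12),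
  .node 171 4, .derive 289 [.bwd 0, .fwd 88, .fwd 89, .bwd 193, .fwd 191, .bwd 66] [2] (.rel 161), .derive 289 [.bwd 1, .fwd 89, .fwd 90, .bwd 68, .bwd 69, .bwd 175] [5] (.rel 201), .node 173 2, .derive 290 [.bwd 0, .bwd 254, .bwd 143] [3] (.rel 0), .derive 234 [.bwd 148, .fwd 145, .bwd 0, .bwd 1, .bwd 255, .bwd 144, .bwd 0] [4] (.rel 23), .derive 290 [.fwd 1, .fwd 144, .fwd 261, .fwd 258, .bwd 145, .bwd 1, .bwd 2] [5] (.rel 70), .node 175 5,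
  .derive 291 [.bwd 0, .bwd 278, .fwd 445, .fwd 352, .bwd 277, .bwd 278, .fwd 276] [2] (.rel 17), .node 176 1, .node 176 4, .derive 293 [.bwd 0, .fwd 278, .bwd 242, .bwd 127, .bwd 128, .fwd 131, .fwd 129] [3] (.rel 90), .derive 293 [.bwd 1, .bwd 280, .bwd 389, .fwd 390, .bwd 403, .fwd 400, .fwd 217] [5] (.rel 634), .node 179 0, .derive 294 [.bwd 0, .bwd 271, .bwd 313, .fwd 47, .fwd 46, .bwd 180, .fwd 182] [3] (.rel 64), .derive 294 [.bwd 1, .bwd 272, .fwd 274, .bwd 175, .bwd 92, .bwd 95, .fwd 101] [5] (.rel 693),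
  .node 179 2, .derive 295 [.bwd 0, .bwd 184, .bwd 46] [3] (.rel 0), .derive 278 [.bwd 51, .fwd 48, .bwd 0, .bwd 1, .bwd 185, .bwd 47, .bwd 0] [4] (.rel 23), .derive 295 [.bwd 2, .bwd 186, .bwd 48, .fwd 47, .fwd 189, .fwd 86, .fwd 84] [5] (.rel 66), .node 179 5, .derive 296 [.bwd 0, .fwd 4, .fwd 3, .fwd 50, .fwd 188, .fwd 4, .fwd 1] [2] (.rel 17), .derive 289 [.fwd 20, .fwd 87, .bwd 0, .bwd 1, .fwd 5, .fwd 2, .bwd 0] [3] (.rel 12), .node 181 2,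
  .derive 297 [.bwd 0, .fwd 36, .fwd 38, .fwd 251, .fwd 249, .bwd 39, .bwd 35] [1] (.rel 335), .node 181 5, .node 187 0, .derive 299 [.bwd 0, .bwd 266, .bwd 431, .fwd 256, .bwd 40, .fwd 41, .bwd 71] [1] (.rel 455), .derive 299 [.bwd 1, .fwd 158, .bwd 160, .bwd 381, .bwd 516, .fwd 368, .fwd 123] [5] (.rel 469), .node 189 1, .derive 300 [.bwd 0, .bwd 126, .bwd 75, .bwd 2] [3] (.rel 125), .node 190 2,
  .derive 301 [.bwd 0, .fwd 266, .fwd 108] [3] (.rel 0), .derive 301 [.bwd 1, .fwd 267, .fwd 109, .bwd 0, .bwd 1, .fwd 266, .fwd 127] [5] (.rel 10), .derive 260 [.bwd 1, .bwd 2, .bwd 269, .fwd 442, .fwd 368, .bwd 268, .fwd 2] [0] (.rel 300), .node 194 1, .derive 302 [.bwd 0, .bwd 51, .bwd 47, .bwd 11] [3] (.rel 125), .derive 302 [.bwd 1, .bwd 262, .fwd 261, .fwd 255, .fwd 113, .fwd 2, .fwd 3, .fwd 130] [5] (.rel 454), .node 200 0, .derive 303 [.bwd 0, .fwd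 93, .fwd 94, .bwd 117, .fwd 118, .fwd 93, .fwd 91] [3] (.rel 32),
  .derive 303 [.bwd 1, .fwd 94, .fwd 93, .bwd 251, .fwd 433, .fwd 354, .fwd 97] [4] (.rel 613), .node 201 5, .derive 304 [.bwd 0, .bwd 251, .bwd 420, .fwd 231, .fwd 230, .bwd 251, .fwd 250] [2] (.rel 17), .derive 304 [.bwd 1, .bwd 252, .fwd 251, .bwd 177, .bwd 176, .fwd 19] [4] (.rel 198), .node 203 2, .node 203 5, .node 205 2, .derive 307 [.bwd 0, .bwd 194, .fwd 195, .fwd 183] [4] (.rel 170),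
  .node 207 2, .derive 308 [.bwd 0, .bwd 167, .fwd 168, .bwd 40] [4] (.rel 170), .node 207 5, .derive 309 [.bwd 0, .bwd 169, .fwd 170, .fwd 318, .bwd 384, .fwd 385, .fwd 126] [4] (.rel 635), .node 208 2, .derive 310 [.bwd 0, .fwd 236, .fwd 8] [3] (.rel 0), .derive 310 [.bwd 1, .fwd 237, .fwd 9, .bwd 0, .bwd 1, .bwd 254, .fwd 253] [1] (.rel 2), .node 209 0,
  .derive 311 [.bwd 0, .bwd 1, .bwd 3, .bwd 240, .bwd 375, .bwd 438, .fwd 250] [5] (.rel 471), .node 212 0, .derive 312 [.bwd 0, .bwd 251, .bwd 432, .fwd 235, .bwd 158, .fwd 160, .bwd 55] [1] (.rel 455), .node 212 5, .derive 313 [.bwd 0, .bwd 253, .bwd 434, .bwd 435, .fwd 436, .fwd 238] [1] (.rel 431), .node 214 0, .derive 314 [.bwd 0, .bwd 42, .bwd 43, .bwd 93, .bwd 115, .bwd 116, .fwd 23] [5] (.rel 632), .node 214 1,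
  .derive 315 [.bwd 0, .bwd 129, .bwd 62, .bwd 5] [3] (.rel 125), .node 215 5, .derive 316 [.bwd 0, .bwd 255, .fwd 444, .fwd 275, .bwd 254, .bwd 255, .fwd 253] [2] (.rel 17), .derive 316 [.bwd 1, .bwd 256, .fwd 254, .fwd 253, .fwd 301, .fwd 143] [4] (.rel 198)]
def ph1_7 : List Aux := [
  .node 217 5, .node 219 4, .node 220 2, .derive 319 [.bwd 0, .bwd 226, .fwd 227, .fwd 165] [4] (.rel 170), .node 221 0, .derive 320 [.bwd 0, .bwd 249, .fwd 447, .fwd 267, .bwd 16, .bwd 17, .bwd 194] [1] (.rel 455), .derive 313 [.fwd 13, .bwd 252, .bwd 400, .fwd 145, .fwd 143, .bwd 145, .bwd 402, .bwd 547, .bwd 636, .fwd 687, .bwd 681, .fwd 683, .bwd 665, .bwd 668, .fwd 696, .fwd 668, .fwd 606, .fwd 499, .bwd 496, .fwd 407, .fwd 406, .bwd 420, .fwd 426, .fwd 197, .bwd 0] [4] (.rel 785), .node 223 2,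
  .derive 321 [.bwd 0, .bwd 180, .bwd 182, .bwd 183] [4] (.rel 170), .node 223 5, .derive 322 [.bwd 0, .bwd 182, .bwd 184, .bwd 329, .bwd 330, .fwd 331, .fwd 52] [4] (.rel 635), .node 226 2, .derive 323 [.bwd 0, .fwd 244, .fwd 33] [3] (.rel 0), .node 226 5, .derive 324 [.bwd 0, .fwd 2, .fwd 1, .bwd 35, .bwd 69, .fwd 70, .fwd 31] [3] (.rel 73), .node 229 5,
  .derive 325 [.bwd 0, .fwd 240, .bwd 317, .fwd 318, .fwd 159, .bwd 32, .bwd 1] [4] (.rel 616), .node 230 4, .derive 326 [.bwd 0, .fwd 239, .bwd 424, .fwd 230, .fwd 231, .fwd 239, .fwd 215] [3] (.rel 24), .derive 326 [.bwd 1, .fwd 240, .bwd 425, .fwd 177] [2] (.rel 171), .node 232 1, .node 232 2, .derive 328 [.bwd 0, .fwd 238, .fwd 226] [3] (.rel 0), .derive 323 [.fwd 10, .fwd 43, .bwd 0, .bwd 1, .fwd 239, .fwd 227, .bwd 0] [4] (.rel 23),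
  .node 232 5, .derive 329 [.bwd 0, .fwd 3, .fwd 2, .bwd 229, .fwd 228, .bwd 226, .fwd 67] [3] (.rel 73), .node 233 4, .derive 330 [.bwd 0, .bwd 239, .fwd 433, .bwd 248, .bwd 240, .bwd 239, .fwd 185] [3] (.rel 24), .derive 240 [.bwd 9, .fwd 8, .bwd 0, .bwd 1, .bwd 240, .fwd 186, .bwd 0] [2] (.rel 19), .node 236 2, .derive 331 [.bwd 0, .bwd 235, .fwd 234, .bwd 7, .bwd 8, .fwd 246, .fwd 234] [1] (.rel 8), .derive 331 [.bwd 1, .bwd 236, .fwd 235, .bwd 8, .bwd 9, .fwd 10] [3] (.rel 43),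
  .derive 292 [.bwd 90, .bwd 368, .bwd 538, .fwd 600, .fwd 454, .fwd 237, .fwd 2] [0] (.rel 467), .node 236 3, .derive 332 [.bwd 0, .fwd 4, .fwd 2] [2] (.rel 1), .node 236 4, .node 240 1, .node 240 5, .node 241 0, .derive 336 [.bwd 0, .bwd 235, .bwd 460, .fwd 461, .fwd 244, .fwd 9, .bwd 6] [5] (.rel 452),
  .derive 327 [.bwd 8, .bwd 7, .bwd 0, .bwd 1, .bwd 236, .fwd 237, .fwd 2] [4] (.rel 637), .derive 335 [.bwd 0, .bwd 9, .bwd 11, .fwd 5] [2] (.rel 171), .derive 330 [.bwd 13, .fwd 4, .bwd 1, .bwd 10, .bwd 12, .fwd 6] [5] (.rel 199), .derive 333 [.bwd 0, .bwd 16, .bwd 169, .bwd 172, .bwd 428, .fwd 318, .fwd 65] [0] (.rel 633), .derive 262 [.bwd 186, .fwd 184, .bwd 164, .bwd 168, .fwd 294, .fwd 66, .bwd 0, .bwd 1] [] (.rel 728), .derive 330 [.bwd 0] [] (.free), .derive 262 [.bwd 0, .fwd 18] [3] (.free), .derive 262 [.bwd 1, .fwd 4] [5] (.free),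
  .derive 263 [.bwd 178, .bwd 179, .fwd 436, .fwd 190, .bwd 2, .fwd 5, .bwd 6, .bwd 10, .fwd 11] [] (.rel 135), .derive 334 [.bwd 0] [] (.free), .derive 255 [.bwd 3, .bwd 4, .fwd 7, .bwd 8, .bwd 12, .fwd 13, .fwd 0, .bwd 180] [1] (.rel 561), .derive 267 [.bwd 183, .fwd 182, .bwd 0, .bwd 31, .fwd 32, .fwd 22, .fwd 5, .fwd 4, .bwd 31] [] (.rel 7), .derive 326 [.bwd 0] [] (.free), .node 244 2, .derive 337 [.bwd 0, .fwd 241, .bwd 113] [3] (.rel 0), .node 248 3,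
  .derive 338 [.bwd 0, .fwd 231, .fwd 230] [2] (.rel 1), .derive 337 [.bwd 3, .bwd 230, .bwd 0, .bwd 1, .fwd 232, .fwd 231, .bwd 0] [5] (.rel 16), .node 250 2, .derive 339 [.bwd 0, .fwd 228, .fwd 51] [3] (.rel 0), .derive 339 [.bwd 1, .fwd 229, .fwd 52, .bwd 0, .bwd 1, .fwd 228, .fwd 57] [5] (.rel 10), .derive 338 [.bwd 5, .bwd 52, .bwd 1, .bwd 2, .fwd 230, .fwd 53, .bwd 1] [4] (.rel 23), .node 251 1, .derive 340 [.bwd 0, .bwd 176, .fwd 131, .fwd 132, .bwd 227, .bwd 176, .bwd 103] [2] (.rel 9),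
  .node 252 3, .node 252 4, .derive 342 [.bwd 0, .bwd 105, .bwd 107, .fwd 264, .bwd 266, .fwd 263, .bwd 47, .fwd 13] [5] (.rel 689), .derive 317 [.bwd 66, .bwd 316, .bwd 511, .fwd 602, .fwd 456, .fwd 199, .bwd 0] [0] (.rel 470), .derive 318 [.bwd 66, .bwd 314, .fwd 317, .fwd 67, .fwd 0, .bwd 2, .fwd 3] [5] (.rel 689), .node 254 5, .derive 343 [.bwd 0, .fwd 229, .bwd 238, .fwd 239, .fwd 60, .fwd 59, .bwd 44] [4] (.rel 616), .node 257 2,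
  .derive 344 [.bwd 0, .fwd 225, .bwd 73] [3] (.rel 0), .derive 301 [.fwd 108, .bwd 73, .bwd 0, .bwd 1, .fwd 226, .bwd 74, .bwd 0] [4] (.rel 23), .node 266 1, .derive 345 [.bwd 0, .bwd 141, .fwd 120, .fwd 121, .bwd 208, .bwd 141, .bwd 84] [2] (.rel 9), .node 270 5, .derive 346 [.bwd 0, .bwd 104, .fwd 105, .bwd 197, .bwd 201, .fwd 202, .fwd 0] [4] (.rel 635), .node 288 1, .derive 347 [.bwd 0, .fwd 148, .bwd 243, .bwd 192, .fwd 147, .fwd 148, .fwd 117] [2] (.rel 9),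
  .derive 340 [.fwd 16, .bwd 117, .bwd 0, .bwd 1, .fwd 149, .fwd 118, .bwd 0] [3] (.rel 4), .node 293 2, .derive 348 [.bwd 0, .fwd 138, .fwd 101] [3] (.rel 0), .derive 348 [.bwd 1, .fwd 139, .fwd 102, .bwd 0, .bwd 1, .fwd 138, .fwd 104] [5] (.rel 10), .derive 337 [.fwd 29, .bwd 102, .bwd 1, .bwd 2, .fwd 140, .fwd 103, .bwd 1] [4] (.rel 23), .node 294 2, .derive 349 [.bwd 0, .fwd 139, .bwd 111] [3] (.rel 0), .derive 349 [.bwd 1, .fwd 140, .bwd 112, .bwd 0, .bwd 1, .fwd 139, .fwd 15] [5] (.rel 10),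
  .derive 302 [.fwd 119, .bwd 112, .bwd 1, .bwd 2, .fwd 141, .bwd 113, .bwd 1] [4] (.rel 23), .node 296 1, .derive 350 [.bwd 0, .fwd 136, .bwd 223, .bwd 156, .fwd 135, .fwd 136, .fwd 94] [2] (.rel 9), .derive 345 [.fwd 15, .bwd 94, .bwd 0, .bwd 1, .fwd 137, .fwd 95, .bwd 0] [3] (.rel 4), .node 300 5, .derive 351 [.bwd 0, .bwd 13, .bwd 12, .fwd 29, .fwd 132, .fwd 28, .bwd 24] [3] (.rel 73), .node 312 4, .derive 352 [.bwd 0, .fwd 104, .bwd 162, .fwd 438, .fwd 399, .fwd 133, .fwd 2, .fwd 1, .bwd 93, .bwd 102, .fwd 88, .fwd 89, .bwd 286, .bwd 515, .fwd 511, .fwd 304, .bwd 306, .bwd 519, .fwd 523, .fwd 309, .fwd 68, .fwd 49, .bwd 237, .bwd 492, .fwd 237, .fwd 47] [3] (.rel 780),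
  .derive 315 [.fwd 99, .bwd 20, .fwd 4, .fwd 5, .fwd 99, .fwd 1, .fwd 0, .bwd 60] [] (.rel 25), .derive 315 [.fwd 0] [] (.free), .derive 236 [.bwd 0, .fwd 101] [3] (.free), .derive 332 [.bwd 65, .fwd 0] [] (.free)]
def ph1_8 : List Aux := [
  .derive 332 [.fwd 0] [] (.free), .derive 312 [.bwd 0, .fwd 66] [2] (.free), .derive 345 [.fwd 26, .fwd 0] [] (.free), .derive 345 [.fwd 0] [] (.free), .derive 327 [.bwd 0, .fwd 12] [3] (.free), .derive 331 [.fwd 73, .fwd 0] [] (.free), .derive 350 [.bwd 0] [] (.free), .derive 331 [.bwd 0, .bwd 17] [1] (.free),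
  .derive 237 [.bwd 77, .fwd 0] [] (.free), .derive 296 [.bwd 0] [] (.free), .derive 237 [.bwd 0, .bwd 157] [5] (.free), .derive 302 [.fwd 141, .fwd 0] [] (.free), .derive 302 [.fwd 0] [] (.free), .derive 179 [.bwd 0, .fwd 24] [4] (.free), .derive 96 [.fwd 439, .fwd 0] [] (.free), .derive 349 [.bwd 0] [] (.free),
  .derive 96 [.bwd 0, .fwd 28] [5] (.free), .derive 77 [.bwd 616, .fwd 0] [] (.free), .derive 344 [.bwd 0] [] (.free), .derive 77 [.bwd 0, .bwd 45] [4] (.free), .derive 115 [.fwd 574, .fwd 0] [] (.free), .derive 301 [.bwd 0] [] (.free), .derive 115 [.bwd 0, .fwd 156] [5] (.free), .derive 58 [.fwd 579, .fwd 0] [] (.free),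
  .derive 253 [.bwd 0] [] (.free), .derive 58 [.bwd 0, .bwd 121] [4] (.free), .derive 31 [.fwd 714, .fwd 0] [] (.free), .derive 319 [.bwd 0] [] (.free), .derive 31 [.bwd 0, .bwd 67] [5] (.free), .derive 59 [.bwd 716, .fwd 0] [] (.free), .derive 339 [.bwd 0] [] (.free), .derive 59 [.bwd 0, .bwd 69] [4] (.free),
  .derive 117 [.bwd 584, .fwd 0] [] (.free), .derive 338 [.bwd 0] [] (.free), .derive 117 [.bwd 0, .bwd 76] [5] (.free), .derive 210 [.bwd 400, .fwd 0] [] (.free), .derive 337 [.bwd 0] [] (.free), .derive 210 [.bwd 0, .fwd 52] [4] (.free), .derive 143 [.bwd 401, .fwd 0] [] (.free), .derive 348 [.bwd 0] [] (.free),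
  .derive 143 [.bwd 0, .fwd 56] [5] (.free), .derive 256 [.bwd 298, .fwd 0] [] (.free), .derive 307 [.bwd 0] [] (.free), .derive 256 [.bwd 0, .bwd 130] [3] (.free), .derive 171 [.fwd 299, .fwd 0] [] (.free), .derive 323 [.bwd 0] [] (.free), .derive 171 [.bwd 0, .fwd 122] [4] (.free), .derive 289 [.bwd 214, .fwd 0] [] (.free),
  .derive 328 [.bwd 0] [] (.free), .derive 289 [.bwd 0, .bwd 127] [2] (.free), .derive 266 [.bwd 216, .fwd 0] [] (.free), .derive 266 [.fwd 0] [] (.free), .derive 232 [.bwd 0, .bwd 287] [5] (.free), .derive 329 [.bwd 128, .fwd 0] [] (.free), .derive 329 [.fwd 0] [] (.free), .derive 150 [.bwd 0, .bwd 84] [4] (.free),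
  .derive 80 [.fwd 546, .fwd 0] [] (.free), .derive 343 [.bwd 0] [] (.free), .derive 80 [.bwd 0, .bwd 88] [5] (.free), .derive 40 [.fwd 698, .fwd 0] [] (.free), .derive 254 [.bwd 0] [] (.free), .derive 40 [.bwd 0, .bwd 321] [4] (.free), .derive 79 [.bwd 703, .fwd 0] [] (.free), .derive 141 [.bwd 0] [] (.free),
  .derive 79 [.bwd 0, .bwd 465] [5] (.free), .derive 111 [.bwd 625, .fwd 0] [] (.free), .derive 190 [.bwd 0] [] (.free), .derive 111 [.bwd 0, .bwd 421] [4] (.free), .derive 56 [.fwd 631, .fwd 0] [] (.free), .derive 216 [.bwd 0] [] (.free), .derive 56 [.bwd 0, .bwd 425] [5] (.free), .derive 112 [.bwd 633, .fwd 0] [] (.free),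
  .derive 120 [.bwd 0] [] (.free), .derive 112 [.bwd 0, .fwd 618] [4] (.free), .derive 200 [.bwd 452, .fwd 0] [] (.free), .derive 200 [.fwd 0] [] (.free), .derive 94 [.bwd 0, .bwd 325] [5] (.free), .derive 176 [.bwd 513, .fwd 0] [] (.free), .derive 258 [.bwd 0] [] (.free), .derive 176 [.bwd 0, .bwd 329] [4] (.free),
  .derive 293 [.bwd 237, .fwd 0] [] (.free), .derive 293 [.fwd 0] [] (.free), .derive 242 [.bwd 0, .fwd 237] [5] (.free), .derive 213 [.bwd 375, .fwd 0] [] (.free), .derive 213 [.fwd 0] [] (.free), .derive 205 [.bwd 0, .bwd 445] [3] (.free), .derive 226 [.fwd 418, .fwd 0] [] (.free), .derive 226 [.fwd 0] [] (.free),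
  .derive 119 [.bwd 0, .fwd 174] [5] (.free), .derive 60 [.fwd 638, .fwd 0] [] (.free), .derive 324 [.bwd 0] [] (.free), .derive 60 [.bwd 0, .bwd 174] [4] (.free), .derive 118 [.bwd 643, .fwd 0] [] (.free), .derive 325 [.bwd 0] [] (.free), .derive 118 [.bwd 0, .bwd 178] [5] (.free), .derive 81 [.bwd 645, .fwd 0] [] (.free),
  .derive 229 [.bwd 0] [] (.free), .derive 81 [.bwd 0, .fwd 420] [4] (.free), .derive 41 [.fwd 735, .fwd 0] [] (.free), .derive 220 [.bwd 0] [] (.free)]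
def ph1_9 : List Aux := [
  .derive 41 [.bwd 0, .bwd 368] [5] (.free), .derive 82 [.bwd 735, .fwd 0] [] (.free), .derive 250 [.bwd 0] [] (.free), .derive 82 [.bwd 0, .bwd 374] [4] (.free), .derive 154 [.bwd 586, .fwd 0] [] (.free), .derive 154 [.fwd 0] [] (.free), .derive 138 [.bwd 0, .fwd 330] [5] (.free), .derive 71 [.fwd 618, .fwd 0] [] (.free),
  .derive 271 [.bwd 0] [] (.free), .derive 71 [.bwd 0, .fwd 330] [4] (.free), .derive 113 [.fwd 668, .fwd 0] [] (.free), .derive 199 [.bwd 0] [] (.free), .derive 113 [.bwd 0, .fwd 311] [5] (.free), .derive 202 [.bwd 489, .fwd 0] [] (.free), .derive 278 [.bwd 0] [] (.free), .derive 202 [.bwd 0, .fwd 264] [4] (.free),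
  .derive 238 [.fwd 418, .fwd 0] [] (.free), .derive 295 [.bwd 0] [] (.free), .derive 238 [.bwd 0, .fwd 266] [5] (.free), .derive 131 [.fwd 422, .fwd 0] [] (.free), .derive 214 [.bwd 0] [] (.free), .derive 131 [.bwd 0, .fwd 227] [0] (.free), .derive 67 [.fwd 644, .fwd 0] [] (.free), .derive 314 [.bwd 0] [] (.free),
  .derive 67 [.bwd 0, .fwd 229] [5] (.free), .derive 49 [.fwd 793, .fwd 0] [] (.free), .derive 303 [.bwd 0] [] (.free), .derive 49 [.bwd 0, .fwd 254] [4] (.free), .derive 26 [.fwd 834, .fwd 0] [] (.free), .derive 270 [.bwd 0] [] (.free), .derive 26 [.bwd 0, .fwd 153] [5] (.free), .derive 50 [.bwd 834, .fwd 0] [] (.free),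
  .derive 346 [.bwd 0] [] (.free), .derive 50 [.bwd 0, .bwd 155, .fwd 0] [4] (.free), .derive 98 [.bwd 728, .bwd 0] [] (.free), .derive 98 [.fwd 0] [] (.free), .derive 50 [.bwd 0, .fwd 556] [5] (.free), .derive 26 [.fwd 840, .fwd 0] [] (.free), .derive 182 [.bwd 0] [] (.free), .derive 26 [.bwd 0, .fwd 556] [4] (.free),
  .derive 49 [.bwd 846, .fwd 0] [] (.free), .derive 172 [.bwd 0] [] (.free), .derive 49 [.bwd 0, .bwd 460] [5] (.free), .derive 67 [.bwd 811, .fwd 0] [] (.free), .derive 231 [.bwd 0] [] (.free), .derive 67 [.bwd 0, .fwd 428] [4] (.free), .derive 34 [.fwd 817, .fwd 0] [] (.free), .derive 245 [.bwd 0] [] (.free),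
  .derive 34 [.bwd 0, .fwd 430] [5] (.free), .derive 68 [.bwd 819, .fwd 0] [] (.free), .derive 135 [.bwd 0] [] (.free), .derive 68 [.bwd 0, .bwd 651] [3] (.free), .derive 134 [.bwd 668, .fwd 0] [] (.free), .derive 146 [.bwd 0] [] (.free), .derive 134 [.bwd 0, .bwd 655] [5] (.free), .derive 234 [.bwd 464, .fwd 0] [] (.free),
  .derive 234 [.fwd 0] [] (.free), .derive 76 [.bwd 0, .fwd 319] [4] (.free), .derive 38 [.fwd 807, .fwd 0] [] (.free), .derive 290 [.bwd 0] [] (.free), .derive 38 [.bwd 0, .fwd 321] [5] (.free), .derive 20 [.fwd 898, .fwd 0] [] (.free), .derive 173 [.bwd 0] [] (.free), .derive 20 [.bwd 0, .bwd 603] [4] (.free),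
  .derive 37 [.bwd 902, .fwd 0] [] (.free), .derive 92 [.bwd 0] [] (.free), .derive 37 [.bwd 0, .bwd 777] [5] (.free), .derive 73 [.bwd 824, .fwd 0] [] (.free), .derive 73 [.fwd 0] [] (.free), .derive 46 [.bwd 0, .bwd 702] [3] (.free), .derive 65 [.fwd 844, .fwd 0] [] (.free), .derive 127 [.bwd 0] [] (.free),
  .derive 65 [.bwd 0, .bwd 697] [5] (.free), .derive 128 [.bwd 705, .fwd 0] [] (.free), .derive 129 [.bwd 0] [] (.free), .derive 128 [.bwd 0, .bwd 703] [4] (.free), .derive 191 [.fwd 574, .fwd 0] [] (.free), .derive 191 [.fwd 0] [] (.free), .derive 66 [.bwd 0, .bwd 578] [5] (.free), .derive 130 [.bwd 703, .fwd 0] [] (.free),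
  .derive 130 [.fwd 0] [] (.free), .derive 105 [.bwd 0, .fwd 489] [4] (.free), .derive 75 [.bwd 756, .fwd 0] [] (.free), .derive 235 [.bwd 0] [] (.free), .derive 75 [.bwd 0, .fwd 490] [5] (.free), .derive 97 [.fwd 780, .fwd 0] [] (.free), .derive 180 [.bwd 0] [] (.free), .derive 97 [.bwd 0, .fwd 609, .fwd 51] [2] (.free),
  .derive 50 [.fwd 890, .bwd 0] [] (.free), .derive 97 [.bwd 0] [] (.free), .derive 50 [.bwd 0, .fwd 785] [5] (.free), .derive 26 [.fwd 894, .fwd 0] [] (.free), .derive 75 [.bwd 0] [] (.free), .derive 26 [.bwd 0, .bwd 767] [4] (.free), .derive 49 [.bwd 900, .fwd 0] [] (.free), .derive 105 [.bwd 0] [] (.free),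
  .derive 49 [.bwd 0, .fwd 596, .fwd 18] [5] (.free), .derive 67 [.bwd 865, .fwd 0] [] (.free), .derive 67 [.fwd 0] [] (.free), .derive 66 [.bwd 0, .bwd 870] [4] (.free)]
def ph1_10 : List Aux := [
  .derive 129 [.bwd 728, .fwd 0] [] (.free), .derive 128 [.bwd 26, .fwd 0] [] (.free), .derive 34 [.bwd 0, .bwd 734] [5] (.free), .derive 68 [.bwd 873, .fwd 0] [] (.free), .derive 68 [.fwd 0] [] (.free), .derive 65 [.bwd 0, .fwd 721] [3] (.free), .derive 46 [.bwd 880, .fwd 0] [] (.free), .derive 134 [.bwd 0] [] (.free),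
  .derive 46 [.bwd 0, .fwd 517, .fwd 51] [5] (.free), .derive 92 [.bwd 820, .fwd 0] [] (.free), .derive 76 [.bwd 0, .fwd 44] [] (.free), .derive 37 [.bwd 0, .bwd 860] [4] (.free), .derive 20 [.fwd 950, .fwd 0] [] (.free), .derive 38 [.bwd 0] [] (.free), .derive 20 [.bwd 0, .bwd 949, .fwd 0] [1] (.free), .derive 10 [.fwd 999, .bwd 0] [] (.free),
  .derive 20 [.bwd 0] [] (.free), .derive 10 [.bwd 0, .fwd 955] [4] (.free), .derive 5 [.edge 4, .fwd 0] [] (.free), .derive 37 [.bwd 0] [] (.free), .derive 5 [.bwd 0, .fwd 877, .fwd 51] [5] (.free), .derive 9 [.edge 5, .fwd 0] [] (.free), .derive 46 [.bwd 0] [] (.free), .derive 73 [.fwd 54, .fwd 0] [] (.free),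
  .derive 9 [.bwd 1, .bwd 879, .fwd 0] [4] (.free), .derive 18 [.bwd 1011, .bwd 0] [] (.free), .derive 18 [.fwd 0] [] (.free), .derive 9 [.fwd 1013, .fwd 0] [4] (.free), .commit 0]
def ph1 : List Aux :=
  (((ph1_0 ++ ph1_1) ++ (ph1_2 ++ (ph1_3 ++ ph1_4))) ++ ((ph1_5 ++ (ph1_6 ++ ph1_7)) ++ (ph1_8 ++ (ph1_9 ++ ph1_10))))

def ph2_0 : List ℕ := [
  49175, 45215, 41593, 29302, 17079, 41724, 13061]

/-- known edges at a check point -/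
def mask0 : ℕ := 0x8210a28804d268874d0

theorem treeRun_ok : stIs (runList (treeStep P) tree ⟨1, 0, []⟩) 13 mask0 = true := by decide +kernel

def seg0 : List Phase := [.scans ph0_0, .aux ph1, .scans ph2_0]

theorem seg0_ok : stIs (runList (phaseStep P) seg0 ⟨13, mask0, []⟩) 353 (2 ^ (13 * P.k) - 1) = true := by decide +kernel

/-- the certificate -/
def phases : List Phase :=
  seg0

theorem cert_ok : checkCert P 13 tree phases = true :=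
  checkCert_of_run P treeRun_ok (run_last P seg0_ok)

theorem gen0_ok : genOK P 13 0 = true := by decide +kernel

theorem gen1_ok : genOK P 13 1 = true := by decide +kernel

theorem gen2_ok : genOK P 13 2 = true := by decide +kernel

theorem gen3_ok : genOK P 13 3 = true := by decide +kernel

theorem gen4_ok : genOK P 13 4 = true := by decide +kernel

theorem gen5_ok : genOK P 13 5 = true := by decide +kernel

theorem tab_ok : tableOK P 13 = true := tableOK_of_gens P (by decide +kernel) (by decide +kernel) fun x hx =>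
  match x, hx with
  | 0, _ => gen0_ok
  | 1, _ => gen1_ok
  | 2, _ => gen2_ok
  | 3, _ => gen3_ok
  | 4, _ => gen4_ok
  | 5, _ => gen5_ok
  | _ + 6, hx => absurd (show _ + 6 < 6 from hx) (by omega)

theorem base0_ok : Fixes P 13 [2, 3, 2, 3] :=
  fixes_of_powFix P (u := [2, 3]) (e := 2) (by decide +kernel) (by decide +kernel)

theorem base1_ok : Fixes P 13 [2, 3, 2, 3, 2, 1, 2, 1] := fixes_of_wordFix P (by decide +kernel)

theorem base2_ok : Fixes P 13 [2, 3, 2, 3, 2, 5, 2, 5] := fixes_of_wordFix P (by decide +kernel)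

theorem base3_ok : Fixes P 13 [2, 3, 2, 3, 4, 3, 4, 3] := fixes_of_wordFix P (by decide +kernel)

theorem base4_ok : Fixes P 13 [2, 3, 2, 3, 0, 3, 0, 3] := fixes_of_wordFix P (by decide +kernel)

theorem base5_ok : Fixes P 13 [2, 3, 2, 1, 2, 3, 1] := fixes_of_wordFix P (by decide +kernel)

theorem base6_ok : Fixes P 13 [2, 3, 2, 4, 2, 3, 2, 4] :=
  fixes_of_powFix P (u := [2, 3, 2, 4]) (e := 2) (by decide +kernel) (by decide +kernel)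

theorem base7_ok : Fixes P 13 [2, 3, 2, 4, 3, 4] := fixes_of_wordFix P (by decide +kernel)

theorem base8_ok : Fixes P 13 [2, 3, 2, 4, 0, 3, 0, 4] := fixes_of_wordFix P (by decide +kernel)

theorem base9_ok : Fixes P 13 [2, 3, 2, 5, 3, 5, 3, 5] := fixes_of_wordFix P (by decide +kernel)

theorem base10_ok : Fixes P 13 [2, 3, 2, 0, 2, 3, 2, 0] :=
  fixes_of_powFix P (u := [2, 3, 2, 0]) (e := 2) (by decide +kernel) (by decide +kernel)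

theorem base11_ok : Fixes P 13 [2, 3, 2, 0, 3, 0] := fixes_of_wordFix P (by decide +kernel)

theorem base12_ok : Fixes P 13 [2, 3, 2, 0, 4, 3, 4, 0] := fixes_of_wordFix P (by decide +kernel)

theorem base13_ok : Fixes P 13 [2, 3, 1, 2, 1, 3] := fixes_of_wordFix P (by decide +kernel)

theorem base14_ok : Fixes P 13 [2, 3, 1, 2, 1, 0, 3, 0] := fixes_of_wordFix P (by decide +kernel)

theorem base15_ok : Fixes P 13 [2, 3, 1, 3, 2, 3, 1, 3] :=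
  fixes_of_powFix P (u := [2, 3, 1, 3]) (e := 2) (by decide +kernel) (by decide +kernel)

theorem base16_ok : Fixes P 13 [2, 3, 1, 3, 1] := fixes_of_wordFix P (by decide +kernel)

theorem base17_ok : Fixes P 13 [2, 3, 1, 5, 2, 5, 1, 3] := fixes_of_wordFix P (by decide +kernel)

theorem base18_ok : Fixes P 13 [2, 3, 1, 0, 3, 0, 1] := fixes_of_wordFix P (by decide +kernel)

theorem base19_ok : Fixes P 13 [2, 3, 4, 2, 3, 4, 3] := fixes_of_wordFix P (by decide +kernel)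

theorem base20_ok : Fixes P 13 [2, 3, 4, 2, 4] := fixes_of_wordFix P (by decide +kernel)

theorem base21_ok : Fixes P 13 [2, 3, 4, 3, 4, 5, 2, 5] := fixes_of_wordFix P (by decide +kernel)

theorem base22_ok : Fixes P 13 [2, 3, 4, 5, 2, 5, 4] := fixes_of_wordFix P (by decide +kernel)

theorem base23_ok : Fixes P 13 [2, 3, 5, 2, 3, 5, 3, 5] := fixes_of_wordFix P (by decide +kernel)

theorem base24_ok : Fixes P 13 [2, 3, 5, 2, 5, 3] := fixes_of_wordFix P (by decide +kernel)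

theorem base25_ok : Fixes P 13 [2, 3, 5, 2, 5, 4, 3, 4] := fixes_of_wordFix P (by decide +kernel)

theorem base26_ok : Fixes P 13 [2, 3, 5, 2, 5, 0, 3, 0] := fixes_of_wordFix P (by decide +kernel)

theorem base27_ok : Fixes P 13 [2, 3, 5, 3, 2, 3, 5, 3] :=
  fixes_of_powFix P (u := [2, 3, 5, 3]) (e := 2) (by decide +kernel) (by decide +kernel)

theorem base28_ok : Fixes P 13 [2, 3, 5, 3, 2, 5, 3, 5] := fixes_of_wordFix P (by decide +kernel)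

theorem base29_ok : Fixes P 13 [2, 3, 5, 3, 5, 3, 2, 5] := fixes_of_wordFix P (by decide +kernel)

theorem base30_ok : Fixes P 13 [2, 3, 5, 1, 2, 1, 5, 3] := fixes_of_wordFix P (by decide +kernel)

theorem base31_ok : Fixes P 13 [2, 3, 0, 2, 3, 0, 2, 0] := fixes_of_wordFix P (by decide +kernel)

theorem base32_ok : Fixes P 13 [2, 3, 0, 2, 0, 2, 0, 3] := fixes_of_wordFix P (by decide +kernel)

theorem base33_ok : Fixes P 13 [2, 3, 0, 2, 0, 3, 2, 0] := fixes_of_wordFix P (by decide +kernel)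

theorem base34_ok : Fixes P 13 [2, 3, 0, 3, 2, 0, 2, 0] := fixes_of_wordFix P (by decide +kernel)

theorem base35_ok : Fixes P 13 [2, 3, 0, 3, 0, 1, 2, 1] := fixes_of_wordFix P (by decide +kernel)

theorem base36_ok : Fixes P 13 [2, 3, 0, 3, 0, 5, 2, 5] := fixes_of_wordFix P (by decide +kernel)

theorem base37_ok : Fixes P 13 [2, 1, 2, 1] :=
  fixes_of_powFix P (u := [2, 1]) (e := 2) (by decide +kernel) (by decide +kernel)

theorem base38_ok : Fixes P 13 [2, 1, 2, 1, 2, 5, 2, 5] := fixes_of_wordFix P (by decide +kernel)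

theorem base39_ok : Fixes P 13 [2, 1, 2, 1, 3, 0, 3, 0] := fixes_of_wordFix P (by decide +kernel)

theorem base40_ok : Fixes P 13 [2, 1, 3, 1, 2, 1, 3, 1] :=
  fixes_of_powFix P (u := [2, 1, 3, 1]) (e := 2) (by decide +kernel) (by decide +kernel)

theorem base41_ok : Fixes P 13 [2, 1, 3, 1, 0, 3, 0] := fixes_of_wordFix P (by decide +kernel)

theorem base42_ok : Fixes P 13 [2, 1, 3, 5, 2, 5, 3, 1] := fixes_of_wordFix P (by decide +kernel)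

theorem base43_ok : Fixes P 13 [2, 1, 5, 2, 5, 1] := fixes_of_wordFix P (by decide +kernel)

theorem base44_ok : Fixes P 13 [2, 1, 5, 1, 2, 1, 5, 1] :=
  fixes_of_powFix P (u := [2, 1, 5, 1]) (e := 2) (by decide +kernel) (by decide +kernel)

theorem base45_ok : Fixes P 13 [2, 1, 5, 1, 5, 1, 5] := fixes_of_wordFix P (by decide +kernel)

theorem base46_ok : Fixes P 13 [2, 1, 0, 2, 0, 2, 0, 1] := fixes_of_wordFix P (by decide +kernel)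

theorem base47_ok : Fixes P 13 [2, 1, 0, 1, 5, 0, 5, 0] := fixes_of_wordFix P (by decide +kernel)

theorem base48_ok : Fixes P 13 [2, 1, 0, 5, 0, 5, 1, 0] := fixes_of_wordFix P (by decide +kernel)

theorem base49_ok : Fixes P 13 [2, 4, 2, 4, 2, 4, 2, 4] :=
  fixes_of_powFix P (u := [2, 4]) (e := 4) (by decide +kernel) (by decide +kernel)

theorem base50_ok : Fixes P 13 [2, 4, 2, 4, 0, 3, 0] := fixes_of_wordFix P (by decide +kernel)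

theorem base51_ok : Fixes P 13 [2, 4, 3, 4, 2, 4, 3, 4] :=
  fixes_of_powFix P (u := [2, 4, 3, 4]) (e := 2) (by decide +kernel) (by decide +kernel)

theorem base52_ok : Fixes P 13 [2, 4, 3, 4, 2, 0, 3, 0] := fixes_of_wordFix P (by decide +kernel)

theorem base53_ok : Fixes P 13 [2, 4, 3, 4, 3, 5, 2, 5] := fixes_of_wordFix P (by decide +kernel)

theorem base54_ok : Fixes P 13 [2, 4, 3, 5, 2, 5, 4] := fixes_of_wordFix P (by decide +kernel)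

theorem base55_ok : Fixes P 13 [2, 5, 2, 5] :=
  fixes_of_powFix P (u := [2, 5]) (e := 2) (by decide +kernel) (by decide +kernel)

theorem base56_ok : Fixes P 13 [2, 5, 2, 5, 3, 0, 3, 0] := fixes_of_wordFix P (by decide +kernel)

theorem base57_ok : Fixes P 13 [2, 5, 3, 1, 3, 1, 5] := fixes_of_wordFix P (by decide +kernel)

theorem base58_ok : Fixes P 13 [2, 5, 3, 5, 2, 5, 3, 5] :=
  fixes_of_powFix P (u := [2, 5, 3, 5]) (e := 2) (by decide +kernel) (by decide +kernel)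

theorem base59_ok : Fixes P 13 [2, 5, 1, 5, 2, 5, 1, 5] :=
  fixes_of_powFix P (u := [2, 5, 1, 5]) (e := 2) (by decide +kernel) (by decide +kernel)

theorem base60_ok : Fixes P 13 [2, 5, 0, 2, 0, 2, 0, 5] := fixes_of_wordFix P (by decide +kernel)

theorem base61_ok : Fixes P 13 [2, 0, 2, 0, 2, 0] :=
  fixes_of_powFix P (u := [2, 0]) (e := 3) (by decide +kernel) (by decide +kernel)

theorem base62_ok : Fixes P 13 [2, 0, 3, 0, 2, 0, 3, 0] :=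
  fixes_of_powFix P (u := [2, 0, 3, 0]) (e := 2) (by decide +kernel) (by decide +kernel)

theorem base63_ok : Fixes P 13 [3, 1, 3, 1, 3, 1, 3, 1] :=
  fixes_of_powFix P (u := [3, 1]) (e := 4) (by decide +kernel) (by decide +kernel)

theorem base64_ok : Fixes P 13 [3, 1, 3, 5, 1, 5, 1, 5] := fixes_of_wordFix P (by decide +kernel)

theorem base65_ok : Fixes P 13 [3, 4, 3, 4] :=
  fixes_of_powFix P (u := [3, 4]) (e := 2) (by decide +kernel) (by decide +kernel)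

theorem base66_ok : Fixes P 13 [3, 4, 3, 4, 3, 0, 3, 0] := fixes_of_wordFix P (by decide +kernel)

theorem base67_ok : Fixes P 13 [3, 4, 3, 0, 4, 0, 4, 0] := fixes_of_wordFix P (by decide +kernel)

theorem base68_ok : Fixes P 13 [3, 4, 5, 3, 5, 3, 5, 4] := fixes_of_wordFix P (by decide +kernel)

theorem base69_ok : Fixes P 13 [3, 4, 5, 4, 5, 0, 5, 0] := fixes_of_wordFix P (by decide +kernel)

theorem base70_ok : Fixes P 13 [3, 4, 0, 3, 4, 0, 4, 0] := fixes_of_wordFix P (by decide +kernel)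

theorem base71_ok : Fixes P 13 [3, 4, 0, 3, 0, 4] := fixes_of_wordFix P (by decide +kernel)

theorem base72_ok : Fixes P 13 [3, 4, 0, 4, 3, 4, 0, 4] :=
  fixes_of_powFix P (u := [3, 4, 0, 4]) (e := 2) (by decide +kernel) (by decide +kernel)

theorem base73_ok : Fixes P 13 [3, 4, 0, 4, 3, 0, 4, 0] := fixes_of_wordFix P (by decide +kernel)

theorem base74_ok : Fixes P 13 [3, 4, 0, 4, 0, 4, 3, 0] := fixes_of_wordFix P (by decide +kernel)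

theorem base75_ok : Fixes P 13 [3, 4, 0, 5, 0, 5, 4, 5] := fixes_of_wordFix P (by decide +kernel)

theorem base76_ok : Fixes P 13 [3, 5, 3, 5, 3, 5] :=
  fixes_of_powFix P (u := [3, 5]) (e := 3) (by decide +kernel) (by decide +kernel)

theorem base77_ok : Fixes P 13 [3, 5, 3, 5, 0, 3, 0, 5] := fixes_of_wordFix P (by decide +kernel)

theorem base78_ok : Fixes P 13 [3, 5, 0, 5, 4, 5, 4, 0] := fixes_of_wordFix P (by decide +kernel)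

theorem base79_ok : Fixes P 13 [3, 0, 3, 0] :=
  fixes_of_powFix P (u := [3, 0]) (e := 2) (by decide +kernel) (by decide +kernel)

theorem base80_ok : Fixes P 13 [3, 0, 4, 0, 3, 0, 4, 0] :=
  fixes_of_powFix P (u := [3, 0, 4, 0]) (e := 2) (by decide +kernel) (by decide +kernel)

theorem base81_ok : Fixes P 13 [1, 5, 0, 5, 1, 5, 0, 5] :=
  fixes_of_powFix P (u := [1, 5, 0, 5]) (e := 2) (by decide +kernel) (by decide +kernel)

theorem base82_ok : Fixes P 13 [4, 0, 4, 0, 4, 0] :=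
  fixes_of_powFix P (u := [4, 0]) (e := 3) (by decide +kernel) (by decide +kernel)

theorem base83_ok : Fixes P 13 [1, 4, 1, 4, 1, 4, 3, 5, 1, 4, 1, 4, 1, 4, 5, 3, 5, 3, 1, 4, 1, 4, 1, 4, 3, 5] := fixes_of_wordFix P (by decide +kernel)

theorem base84_ok : Fixes P 13 [1, 4, 1, 4, 1, 4, 1, 4, 1, 4, 1, 4] :=
  fixes_of_powFix P (u := [1, 4]) (e := 6) (by decide +kernel) (by decide +kernel)

theorem base_ok : ∀ w ∈ base, Fixes P 13 w := by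
  intro w hw
  rw [base] at hw
  rcases List.mem_cons.1 hw with rfl | hw
  · exact base0_ok
  rcases List.mem_cons.1 hw with rfl | hw
  · exact base1_ok
  rcases List.mem_cons.1 hw with rfl | hw
  · exact base2_ok
  rcases List.mem_cons.1 hw with rfl | hw
  · exact base3_ok
  rcases List.mem_cons.1 hw with rfl | hw
  · exact base4_ok
  rcases List.mem_cons.1 hw with rfl | hw
  · exact base5_ok
  rcases List.mem_cons.1 hw with rfl | hw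
  · exact base6_ok
  rcases List.mem_cons.1 hw with rfl | hw
  · exact base7_ok
  rcases List.mem_cons.1 hw with rfl | hw
  · exact base8_ok
  rcases List.mem_cons.1 hw with rfl | hw
  · exact base9_ok
  rcases List.mem_cons.1 hw with rfl | hw
  · exact base10_ok
  rcases List.mem_cons.1 hw with rfl | hw
  · exact base11_ok
  rcases List.mem_cons.1 hw with rfl | hw
  · exact base12_ok
  rcases List.mem_cons.1 hw with rfl | hw
  · exact base13_ok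
  rcases List.mem_cons.1 hw with rfl | hw
  · exact base14_ok
  rcases List.mem_cons.1 hw with rfl | hw
  · exact base15_ok
  rcases List.mem_cons.1 hw with rfl | hw
  · exact base16_ok
  rcases List.mem_cons.1 hw with rfl | hw
  · exact base17_ok
  rcases List.mem_cons.1 hw with rfl | hw
  · exact base18_ok
  rcases List.mem_cons.1 hw with rfl | hw
  · exact base19_ok
  rcases List.mem_cons.1 hw with rfl | hw
  · exact base20_ok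
  rcases List.mem_cons.1 hw with rfl | hw
  · exact base21_ok
  rcases List.mem_cons.1 hw with rfl | hw
  · exact base22_ok
  rcases List.mem_cons.1 hw with rfl | hw
  · exact base23_ok
  rcases List.mem_cons.1 hw with rfl | hw
  · exact base24_ok
  rcases List.mem_cons.1 hw with rfl | hw
  · exact base25_ok
  rcases List.mem_cons.1 hw with rfl | hw
  · exact base26_ok
  rcases List.mem_cons.1 hw with rfl | hw
  · exact base27_ok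
  rcases List.mem_cons.1 hw with rfl | hw
  · exact base28_ok
  rcases List.mem_cons.1 hw with rfl | hw
  · exact base29_ok
  rcases List.mem_cons.1 hw with rfl | hw
  · exact base30_ok
  rcases List.mem_cons.1 hw with rfl | hw
  · exact base31_ok
  rcases List.mem_cons.1 hw with rfl | hw
  · exact base32_ok
  rcases List.mem_cons.1 hw with rfl | hw
  · exact base33_ok
  rcases List.mem_cons.1 hw with rfl | hw
  · exact base34_ok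
  rcases List.mem_cons.1 hw with rfl | hw
  · exact base35_ok
  rcases List.mem_cons.1 hw with rfl | hw
  · exact base36_ok
  rcases List.mem_cons.1 hw with rfl | hw
  · exact base37_ok
  rcases List.mem_cons.1 hw with rfl | hw
  · exact base38_ok
  rcases List.mem_cons.1 hw with rfl | hw
  · exact base39_ok
  rcases List.mem_cons.1 hw with rfl | hw
  · exact base40_ok
  rcases List.mem_cons.1 hw with rfl | hw
  · exact base41_ok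
  rcases List.mem_cons.1 hw with rfl | hw
  · exact base42_ok
  rcases List.mem_cons.1 hw with rfl | hw
  · exact base43_ok
  rcases List.mem_cons.1 hw with rfl | hw
  · exact base44_ok
  rcases List.mem_cons.1 hw with rfl | hw
  · exact base45_ok
  rcases List.mem_cons.1 hw with rfl | hw
  · exact base46_ok
  rcases List.mem_cons.1 hw with rfl | hw
  · exact base47_ok
  rcases List.mem_cons.1 hw with rfl | hw
  · exact base48_ok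
  rcases List.mem_cons.1 hw with rfl | hw
  · exact base49_ok
  rcases List.mem_cons.1 hw with rfl | hw
  · exact base50_ok
  rcases List.mem_cons.1 hw with rfl | hw
  · exact base51_ok
  rcases List.mem_cons.1 hw with rfl | hw
  · exact base52_ok
  rcases List.mem_cons.1 hw with rfl | hw
  · exact base53_ok
  rcases List.mem_cons.1 hw with rfl | hw
  · exact base54_ok
  rcases List.mem_cons.1 hw with rfl | hw
  · exact base55_ok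
  rcases List.mem_cons.1 hw with rfl | hw
  · exact base56_ok
  rcases List.mem_cons.1 hw with rfl | hw
  · exact base57_ok
  rcases List.mem_cons.1 hw with rfl | hw
  · exact base58_ok
  rcases List.mem_cons.1 hw with rfl | hw
  · exact base59_ok
  rcases List.mem_cons.1 hw with rfl | hw
  · exact base60_ok
  rcases List.mem_cons.1 hw with rfl | hw
  · exact base61_ok
  rcases List.mem_cons.1 hw with rfl | hw
  · exact base62_ok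
  rcases List.mem_cons.1 hw with rfl | hw
  · exact base63_ok
  rcases List.mem_cons.1 hw with rfl | hw
  · exact base64_ok
  rcases List.mem_cons.1 hw with rfl | hw
  · exact base65_ok
  rcases List.mem_cons.1 hw with rfl | hw
  · exact base66_ok
  rcases List.mem_cons.1 hw with rfl | hw
  · exact base67_ok
  rcases List.mem_cons.1 hw with rfl | hw
  · exact base68_ok
  rcases List.mem_cons.1 hw with rfl | hw
  · exact base69_ok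
  rcases List.mem_cons.1 hw with rfl | hw
  · exact base70_ok
  rcases List.mem_cons.1 hw with rfl | hw
  · exact base71_ok
  rcases List.mem_cons.1 hw with rfl | hw
  · exact base72_ok
  rcases List.mem_cons.1 hw with rfl | hw
  · exact base73_ok
  rcases List.mem_cons.1 hw with rfl | hw
  · exact base74_ok
  rcases List.mem_cons.1 hw with rfl | hw
  · exact base75_ok
  rcases List.mem_cons.1 hw with rfl | hw
  · exact base76_ok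
  rcases List.mem_cons.1 hw with rfl | hw
  · exact base77_ok
  rcases List.mem_cons.1 hw with rfl | hw
  · exact base78_ok
  rcases List.mem_cons.1 hw with rfl | hw
  · exact base79_ok
  rcases List.mem_cons.1 hw with rfl | hw
  · exact base80_ok
  rcases List.mem_cons.1 hw with rfl | hw
  · exact base81_ok
  rcases List.mem_cons.1 hw with rfl | hw
  · exact base82_ok
  rcases List.mem_cons.1 hw with rfl | hw
  · exact base83_ok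
  rcases List.mem_cons.1 hw with rfl | hw
  · exact base84_ok
  exact absurd hw List.not_mem_nil

theorem rots_ok : rotsOK base rots.entries hints = true := by decide +kernel

theorem fix_ok : wordsFixBase P sw = true := by decide +kernel

theorem tree_ok : treeOK P tree 0 = true := by decide +kernel

theorem tree_len : tree.length + 1 = 13 := by decide +kernel

end Cfsg.Agent.GL23Amalgam.Data.L13
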