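import Cfsg.Agent.Lib.Compute.CosetOrbit

/-! Coset enumeration certificate data (S3348, case M220). -/

set_option autoImplicit false
set_option maxRecDepth 100000
set_option Elab.async false

namespace Cfsg.Agent.GL23Amalgam.Data.M220

open Cfsg.Agent.CosetCert

/-- the coset table -/
def tab : Tab :=
  .leaf 0xad00da00d500d9005d00da00b300db00d000d8005b00db00b400d900d700db00c800d800ac00d800d300da00c900d900d500d600d900d500b400d600d600d700d200d400b300d700d700d500db00d7009c00d400d400d400d100d6009d00d5009600cf00d800d000c400d2009900cd00d600d100c500d3009800ce00d400d200a500d0009700cc00da00d300a400d1009a00d300cf00ce00c700cd009c00d100ce00cf009f00cc009d00d200cb00cc00c600cf009b00d000ca00cd00a100ce005e00cb00cd00ca00b200cb005f00ca00cc00cb005900ca00c900c100c500c300d800c800c200c000c700c200d900c9005d00bc00c800b900cf00c6005a00bd00c400b700cd00c7008c00b500c900aa00d200c4008b00b100c600ab0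0d300c500c300bf00aa00c9005a00c200c800be00b900c8005c00c3009300c900bb00be00c100c0009000c800bd00bf00c000c1009100c300b800c0005700be009200c200ae00c1005600bf00b100c600c000b800b500bc00a900c700ba00b600b100bd00bb00b400c100ae00ba00ba00af00b300bc00af00bb00bb005c00b800c200c7009e00b700a800b900bf00bd009300b6005b00b600ab00c600a000b900b500b700af00bc009100b800b600c500b500a900bd00b100d900bb00b400ad00d700b300da00ba00b200ac00d600b4009400b000b300a700cb00b200bd00c400b000a800bc00b5008f00b200b100a600b000b000ba00ad00b600ba008e00ae00ae00ac00be00bb008f00af00db00af00ad00b4009a00ac00d800ae00a700b3009b00ad008a00a900b700c400a200aa008d00a800c300c500a300ab00bc00ab00a900b5009200a800b800aa00a600b1009000a9009500a600ac00b2005800a7008e00a700a800b0005500a60062005400a100a300d100a40060007d009d00a200d000a50063007c00a000a500aa00a200610053009b00a400ab00a300a1007900a500a000cc009f00a0004c00a300a100b7009e009e004b009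c009e00ce00a1009f0078009a009f00b900a000cd004600a4009b00d4009c00ce0076009f009a00d5009d00cc007200a2009d00ac009a00cf0045009e009c00ad009b00d2007f00980098005f009700d10048009900990096009600d0004700950096005e009900d3007e009400970098009800a7007300970094008b009400b2004400960095008d009500c1007a0092009200b8009100be00500093009300a9009000bf004f008f009000b6009300c0007b008e009100a8009200b000710091008e00ae008e00a600430090008f00af008f00aa0068008c008c0094008b00c50082008d008d008a008a00c400830089008a0095008d00ab00670088008b008c008c00590064008b00880061008800580075008a00890062008900860074008000860083006b0087004e008100870085006c00850085007700840086006a008400690074008500820069006f008b007f0082008700680070008c007e008300840067007c008100860080006e0052007d005100870081007e0051007600990083007e006d0047007200960082007f00800048008000a4007d007c00790054008100a3007c007d007b005300740090007a007a007c005000770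093007b007b0078004f006e00a100760078007d004b006d009e00720079007a004c007a006c008500740077004e007f009c00790072007600460075008800730075006f0064007b0087008400770073004d007100950075007300740044007e009b00780076007100450073008f00710071007200430082003a006e006f0070006600830037006d007000750065007900260070006d0081004a00780025006f006e007f0049006c00770027006b006a0086006b004d0025006c006800870069006a003a0069006c0085006a00840039006a006700840066008d003c0067006b00830065008a003e00680069008200680038004100650066007000670039004200660064006f00640089002300640065007500a3003e006200620060006000a5003b006300630088006100a2003c005e00600089006200a4003d005f00610063006300ca00230060005e0099005e00cb00220061005f0097005f00c70036005d005c00db005b00b90033005c005d00c2005a00b700350059005a00da005d00c600340058005b00c3005c00890021005b005800ca005900880020005a005900a70058005600320057005700bf0056005700310055005600be005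70055001f0056005500a60055005200a500210053004b007d005100a2002000540050007c0054005200260051004a0081005300800024005200480080004e00920031004f0053007b004d009100320050004c007a005000860038004d004e0077004f006b0037004e00440074004a00a00033004b004f00780049009f0035004c00540079004c0027003f00490052006e004b00240040004a0047006d00460098003d00470051007e00450097003b00480049007f0048009d00360045004600760047009a00340046004300720043009400220044004d00730044008e001f004300450071001c004000650041003e0040002c004100660042003a003f002b00420049003f003d0042001b003f004a004000380041002f00630067003c0042003d001d00600048003b0040003e001e00610068003e0039003b003000620047003d0037003c00180070006a003900410038002a00650069003a003c003700290066004e0037003f003a0017006f004d0038003b0039002e005d0046003400350035001a005b004b0033003600360019005a0045003600320033002d005c004c00350031003400280057004f00310034003100160056005000320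0330032003b0030002e001d0030002f003e002f002c001e002f00300036002a00300019002d002d00330029002b001a002e002e0041002b002f001c002a002b0040002c002d001b0029002c0039002e002a0018002c00290038002d00280017002b002a0032002800290016002800280015004a006c0025002700260012006e00520024002600270014006d006b002700230024001300490051002600220025000c005f0064002300250022000b005e00440022002400230011005900540020002100210010005800530021001f0020000a00550043001f0020001f003c001d001c002f000c001d003d001e00190030000b001e0042001c001e002c0015001b003f001b001a002b0013001c00350018001b002d0010001900340017001d002e0011001a003a001a0018002a001400170037001900160029001200180031001600170028000a00160027000f00140014001c00130025000800150015001800120024000900110012001b00150026000e00100013001700140021000d00130010001900100020000700120011001a0011000f0015000e000e000f0009000e0012000f000f000d0008000d0011000d000d000e000700230006000c000c001e000b00220005000a000b001d000c001f0003000b000a0016000a00080013000600080009000f00090014000500090007000e00070010000300070008000d0004000c00090005000500050002000b00080006000600060006000400040002000400040001000a0007000300030003000500020002000400010002000300000001000100020001000000010000000000000000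

/-- base relators -/
def base : List (List ℕ) := [
  [2, 0, 2, 0],
  [2, 0, 2, 0, 2, 5, 2, 5],
  [2, 0, 2, 0, 2, 3, 2, 3],
  [2, 0, 2, 0, 4, 0, 4, 0],
  [2, 0, 2, 0, 1, 0, 1, 0],
  [2, 0, 2, 5, 2, 0, 5],
  [2, 0, 2, 4, 2, 0, 2, 4],
  [2, 0, 2, 4, 0, 4],
  [2, 0, 2, 4, 1, 0, 1, 4],
  [2, 0, 2, 3, 0, 3, 0, 3],
  [2, 0, 2, 1, 2, 0, 2, 1],
  [2, 0, 2, 1, 0, 1],
  [2, 0, 2, 1, 4, 0, 4, 1],
  [2, 0, 5, 2, 5, 0],
  [2, 0, 5, 2, 5, 1, 0, 1],
  [2, 0, 5, 0, 2, 0, 5, 0],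
  [2, 0, 5, 0, 5],
  [2, 0, 5, 3, 2, 3, 5, 0],
  [2, 0, 5, 1, 0, 1, 5],
  [2, 0, 4, 2, 0, 4, 0],
  [2, 0, 4, 2, 4],
  [2, 0, 4, 0, 4, 3, 2, 3],
  [2, 0, 4, 3, 2, 3, 4],
  [2, 0, 3, 2, 0, 3, 0, 3],
  [2, 0, 3, 2, 3, 0],
  [2, 0, 3, 2, 3, 4, 0, 4],
  [2, 0, 3, 2, 3, 1, 0, 1],
  [2, 0, 3, 0, 2, 0, 3, 0],
  [2, 0, 3, 0, 2, 3, 0, 3],
  [2, 0, 3, 0, 3, 0, 2, 3],
  [2, 0, 3, 5, 2, 5, 3, 0],
  [2, 0, 1, 2, 0, 1, 2, 1],
  [2, 0, 1, 2, 1, 2, 1, 0],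
  [2, 0, 1, 2, 1, 0, 2, 1],
  [2, 0, 1, 0, 2, 1, 2, 1],
  [2, 0, 1, 0, 1, 5, 2, 5],
  [2, 0, 1, 0, 1, 3, 2, 3],
  [2, 5, 2, 5],
  [2, 5, 2, 5, 2, 3, 2, 3],
  [2, 5, 2, 5, 0, 1, 0, 1],
  [2, 5, 0, 5, 2, 5, 0, 5],
  [2, 5, 0, 5, 1, 0, 1],
  [2, 5, 0, 3, 2, 3, 0, 5],
  [2, 5, 3, 2, 3, 5],
  [2, 5, 3, 5, 2, 5, 3, 5],
  [2, 5, 3, 5, 3, 5, 3],
  [2, 5, 1, 2, 1, 2, 1, 5],
  [2, 5, 1, 5, 3, 1, 3, 1],
  [2, 5, 1, 3, 1, 3, 5, 1],
  [2, 4, 2, 4, 2, 4, 2, 4],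
  [2, 4, 2, 4, 1, 0, 1],
  [2, 4, 0, 4, 2, 4, 0, 4],
  [2, 4, 0, 4, 2, 1, 0, 1],
  [2, 4, 0, 4, 0, 3, 2, 3],
  [2, 4, 0, 3, 2, 3, 4],
  [2, 3, 2, 3],
  [2, 3, 2, 3, 0, 1, 0, 1],
  [2, 3, 0, 5, 0, 5, 3],
  [2, 3, 0, 3, 2, 3, 0, 3],
  [2, 3, 5, 3, 2, 3, 5, 3],
  [2, 3, 1, 2, 1, 2, 1, 3],
  [2, 1, 2, 1, 2, 1],
  [2, 1, 0, 1, 2, 1, 0, 1],
  [0, 5, 0, 5, 0, 5, 0, 5],
  [0, 5, 0, 3, 5, 3, 5, 3],
  [0, 4, 0, 4],
  [0, 4, 0, 4, 0, 1, 0, 1],
  [0, 4, 0, 1, 4, 1, 4, 1],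
  [0, 4, 3, 0, 3, 0, 3, 4],
  [0, 4, 3, 4, 3, 1, 3, 1],
  [0, 4, 1, 0, 4, 1, 4, 1],
  [0, 4, 1, 0, 1, 4],
  [0, 4, 1, 4, 0, 4, 1, 4],
  [0, 4, 1, 4, 0, 1, 4, 1],
  [0, 4, 1, 4, 1, 4, 0, 1],
  [0, 4, 1, 3, 1, 3, 4, 3],
  [0, 3, 0, 3, 0, 3],
  [0, 3, 0, 3, 1, 0, 1, 3],
  [0, 3, 1, 3, 4, 3, 4, 1],
  [0, 1, 0, 1],
  [0, 1, 4, 1, 0, 1, 4, 1],
  [5, 3, 1, 3, 5, 3, 1, 3],
  [4, 1, 4, 1, 4, 1],
  [5, 4, 5, 4, 5, 4, 0, 3, 5, 4, 5, 4, 5, 4, 3, 0, 3, 0, 5, 4, 5, 4, 5, 4, 0, 3, 2],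
  [5, 4, 5, 4, 5, 4, 5, 4, 5, 4, 5, 4]]

/-- rotations of the relators -/
def rots : WTab :=
  (.node (.node (.node (.node (.node (.node (.node (.node (.node (.node (.leaf [2, 0, 2, 0]) (.leaf [3, 0, 4, 0, 4, 2, 3, 2])) (.node (.leaf [0, 2, 1, 0, 1, 3, 2, 3]) (.leaf [4, 5, 0, 3, 0, 3, 4, 5, 4, 5, 4, 5, 3, 0, 4, 5, 4, 5, 4, 5, 2, 3, 0, 4, 5, 4, 5]))) (.node (.node (.leaf [2, 0, 5, 3, 2, 3, 5, 0]) (.leaf [1, 0, 4, 1, 4, 1, 0, 4])) (.node (.leaf [2, 5, 0, 5, 2, 5, 0, 5]) (.leaf [2, 0, 2, 0])))) (.node (.node (.node (.leaf [1, 4, 2, 0, 2, 4, 1, 0]) (.leaf [1, 2, 1, 3, 2, 3, 1, 2])) (.node (.leaf [1, 0, 2, 1, 2, 1, 2, 0]) (.leaf [2, 0, 2, 0]))) (.node (.node (.leaf [4, 3, 2, 3, 4, 2, 0]) (.leaf [1, 3, 0, 3, 0, 3, 1, 0])) (.node (.leaf [3, 1, 2, 5, 1, 5, 3, 1]) (.leaf [2, 0, 2, 0]))))) (.node (.node (.node (.node (.leaf [1, 0, 2, 0, 2, 0, 1, 0]) (.leaf [1, 0, 3, 2, 3, 2, 1, 0]))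 (.node (.leaf [1, 2, 0, 1, 2, 1, 2, 0]) (.leaf [2, 0, 2, 0]))) (.node (.node (.leaf [2, 4, 0, 2, 0, 4, 0]) (.leaf [0, 4, 1, 4, 1, 4, 0, 1])) (.node (.leaf [2, 5, 3, 5, 2, 5, 3, 5]) (.leaf [2, 0, 2, 0])))) (.node (.node (.node (.leaf [5, 0, 2, 0, 5, 2]) (.leaf [0, 1, 4, 1, 4, 1, 0, 4])) (.node (.leaf [3, 1, 0, 1, 0, 2, 3, 2]) (.leaf [2, 0, 2, 0]))) (.node (.node (.leaf [3, 0, 2, 0, 3, 2]) (.leaf [5, 4, 5, 4, 0, 3, 5, 4, 5, 4, 5, 4, 3, 0, 3, 0, 5, 4, 5, 4, 5, 4, 0, 3, 2, 5, 4])) (.node (.leaf [1, 0, 1, 2, 4, 2, 4]) (.leaf [2, 0, 2, 0])))))) (.node (.node (.node (.node (.node (.leaf [2, 3, 2, 0, 2, 0, 2, 3]) (.leaf [3, 0, 4, 2, 4, 3, 2])) (.node (.leaf [3, 0, 3, 0, 2, 3, 2, 0]) (.leaf [4, 5, 4, 5, 2, 3, 0, 4, 5, 4, 5, 4, 5, 0, 3, 0, 3, 4, 5, 4, 5, 4, 5, 3, 0, 4, 5]))) (.node (.node (.leaf [1, 0, 1, 5, 0, 2, 5]) (.leaf [1, 0, 1, 4, 0, 4])) (.node (.leaf [5, 2, 1, 0, 1, 5, 0])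 (.leaf [2, 0, 2, 0])))) (.node (.node (.node (.leaf [2, 1, 0, 1, 2, 0]) (.leaf [5, 3, 5, 3, 0, 5, 0, 3])) (.node (.leaf [5, 1, 0, 1, 0, 2, 5, 2]) (.leaf [2, 0, 2, 0]))) (.node (.node (.leaf [0, 3, 0, 3, 2, 0, 3, 2]) (.leaf [3, 0, 1, 4, 3, 4, 3, 1])) (.node (.leaf [5, 1, 2, 5, 1, 3, 1, 3]) (.leaf [2, 0, 2, 0]))))) (.node (.node (.node (.node (.leaf [2, 0, 2, 4, 2, 0, 2, 4]) (.leaf [5, 0, 3, 2, 3, 5, 0])) (.node (.leaf [1, 2, 1, 2, 1, 0, 2, 0]) (.leaf [2, 0, 2, 0]))) (.node (.node (.leaf [4, 0, 4, 3, 2, 3, 2, 0]) (.leaf [3, 4, 3, 1, 3, 1, 4, 0])) (.node (.leaf [5, 2, 3, 5, 3, 5, 3]) (.leaf [2, 0, 2, 0])))) (.node (.node (.node (.leaf [0, 2, 1, 0, 1, 5, 2, 5]) (.leaf [3, 4, 3, 1, 3, 1, 0, 4])) (.node (.leaf [2, 5, 2, 5, 0, 1, 0, 1]) (.leaf [2, 0, 2, 0]))) (.node (.node (.leaf [0, 2, 4, 0, 4, 3, 2, 3]) (.leaf [5, 4, 5, 4, 5, 4, 0, 3, 2, 5, 4, 5, 4, 5, 4, 0, 3, 5, 4, 5, 4, 5,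 4, 3, 0, 3, 0])) (.node (.leaf [0, 4, 2, 1, 0, 1, 2, 4]) (.leaf [2, 0, 2, 0]))))))) (.node (.node (.node (.node (.node (.node (.leaf [2, 5, 2, 0, 2, 0, 2, 5]) (.leaf [0, 3, 2, 3, 4, 2, 4])) (.node (.leaf [3, 0, 2, 3, 0, 3, 2, 0]) (.leaf [4, 5, 4, 5, 3, 0, 4, 5, 4, 5, 4, 5, 2, 3, 0, 4, 5, 4, 5, 4, 5, 0, 3, 0, 3, 4, 5]))) (.node (.node (.leaf [2, 0, 5, 1, 0, 1, 5]) (.leaf [1, 4, 0, 1, 4, 0, 1, 4])) (.node (.leaf [1, 0, 1, 2, 5, 0, 5]) (.leaf [2, 0, 2, 0])))) (.node (.node (.node (.leaf [0, 3, 2, 0, 2, 3, 0, 3]) (.leaf [0, 1, 2, 1, 0, 1, 2, 1])) (.node (.leaf [1, 0, 1, 5, 2, 5, 2, 0]) (.leaf [2, 0, 2, 0]))) (.node (.node (.leaf [3, 4, 0, 2, 4, 3, 2]) (.leaf [4, 1, 0, 3, 1, 3, 4, 3])) (.node (.leaf [5, 2, 1, 3, 1, 3, 5, 1]) (.leaf [2, 0, 2, 0]))))) (.node (.node (.node (.node (.leaf [5, 2, 0, 2, 5, 2, 0]) (.leaf [0, 5, 0, 5, 3, 2, 3])) (.node (.leaf [1, 0, 2, 1, 0, 2, 1, 2])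 (.leaf [2, 0, 2, 0]))) (.node (.node (.leaf [4, 2, 0, 4, 2]) (.leaf [0, 4, 1, 3, 1, 3, 4, 3])) (.node (.leaf [3, 5, 3, 2, 5, 3, 5]) (.leaf [2, 0, 2, 0])))) (.node (.node (.node (.leaf [0, 1, 2, 0, 5, 2, 5, 1]) (.leaf [3, 0, 3, 0, 3, 4, 0, 4])) (.node (.leaf [2, 5, 2, 5, 2, 3, 2, 3]) (.leaf [2, 0, 2, 0]))) (.node (.node (.leaf [0, 4, 2, 0, 3, 2, 3, 4]) (.leaf [5, 4, 5, 4, 3, 0, 3, 0, 5, 4, 5, 4, 5, 4, 0, 3, 2, 5, 4, 5, 4, 5, 4, 0, 3, 5, 4])) (.node (.leaf [4, 2, 1, 0, 1, 4, 2]) (.leaf [2, 0, 2, 0])))))) (.node (.node (.node (.node (.node (.leaf [4, 0, 2, 0, 2, 0, 4, 0]) (.leaf [2, 3, 0, 1, 0, 1, 2, 3])) (.node (.leaf [3, 5, 2, 5, 3, 0, 2, 0]) (.leaf [2, 0, 2, 0]))) (.node (.node (.leaf [4, 2, 0, 4, 0, 2, 0]) (.leaf [0, 4, 1, 4, 0, 1, 4, 1])) (.node (.leaf [0, 5, 2, 5, 0, 3, 2, 3]) (.leaf [2, 0, 2, 0])))) (.node (.node (.node (.leaf [4, 0, 4, 1, 2, 0, 2, 1]) (.leaf [0, 4,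 0, 1, 0, 1, 0, 4])) (.node (.leaf [1, 0, 1, 3, 2, 3, 2, 0]) (.leaf [2, 0, 2, 0]))) (.node (.node (.leaf [2, 3, 0, 2, 3, 0, 3, 0]) (.leaf [5, 3, 1, 3, 5, 3, 1, 3])) (.node (.leaf [5, 2, 1, 5, 3, 1, 3, 1]) (.leaf [2, 0, 2, 0]))))) (.node (.node (.node (.node (.leaf [0, 4, 2, 0, 2, 4]) (.leaf [2, 3, 5, 3, 2, 3, 5, 3])) (.node (.leaf [1, 2, 1, 0, 2, 1, 2, 0]) (.leaf [2, 0, 2, 0]))) (.node (.node (.leaf [3, 4, 0, 4, 0, 2, 3, 2]) (.leaf [0, 3, 0, 3, 0, 3])) (.node (.leaf [1, 5, 2, 5, 1, 2, 1, 2]) (.leaf [2, 0, 2, 0])))) (.node (.node (.node (.leaf [5, 0, 5, 2, 0]) (.leaf [1, 3, 4, 3, 4, 0, 1, 3])) (.node (.leaf [1, 0, 1, 0, 5, 2, 5, 2]) (.leaf [2, 0, 2, 0]))) (.node (.node (.leaf [0, 1, 2, 0, 3, 2, 3, 1]) (.leaf [2, 5, 4, 5, 4, 5, 4, 0, 3, 5, 4, 5, 4, 5, 4, 3, 0, 3, 0, 5, 4, 5, 4, 5, 4, 0, 3])) (.node (.leaf [0, 4, 0, 3, 2, 3, 2, 4]) (.leaf [2, 0, 2, 0])))))))) (.node (.node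 (.node (.node (.node (.node (.node (.leaf [2, 0, 2, 5, 2, 5, 2, 0]) (.leaf [4, 2, 3, 2, 3, 0, 4, 0])) (.node (.leaf [3, 0, 2, 0, 3, 0, 2, 0]) (.leaf [0, 3, 4, 5, 4, 5, 4, 5, 3, 0, 4, 5, 4, 5, 4, 5, 2, 3, 0, 4, 5, 4, 5, 4, 5, 0, 3]))) (.node (.node (.leaf [2, 3, 5, 0, 2, 0, 5, 3]) (.leaf [4, 1, 0, 4, 1, 0, 4, 1])) (.node (.leaf [2, 5, 0, 5, 1, 0, 1]) (.leaf [2, 0, 2, 0])))) (.node (.node (.node (.leaf [2, 3, 0, 3, 0, 3, 2, 0]) (.leaf [2, 1, 2, 1, 2, 1])) (.node (.leaf [2, 1, 2, 0, 1, 0, 2, 1]) (.leaf [2, 0, 2, 0]))) (.node (.node (.leaf [4, 2, 0, 4, 3, 2, 3]) (.leaf [1, 3, 4, 3, 4, 1, 0, 3])) (.node (.leaf [1, 3, 5, 1, 5, 2, 1, 3]) (.leaf [2, 0, 2, 0]))))) (.node (.node (.node (.node (.leaf [2, 5, 2, 0, 5, 2, 0]) (.leaf [3, 2, 1, 0, 1, 0, 3, 2])) (.node (.leaf [2, 1, 2, 0, 1, 2, 0, 1]) (.leaf [2, 0, 2, 0]))) (.node (.node (.leaf [2, 0, 4, 2, 4]) (.leaf [1, 4, 0, 1, 0, 4,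 1, 4])) (.node (.leaf [2, 5, 3, 5, 3, 5, 3]) (.leaf [2, 0, 2, 0])))) (.node (.node (.node (.leaf [5, 2, 5, 1, 0, 1, 2, 0]) (.leaf [4, 1, 0, 4, 0, 1, 4, 1])) (.node (.leaf [0, 2, 3, 2, 3, 1, 0, 1]) (.leaf [2, 0, 2, 0]))) (.node (.node (.leaf [3, 2, 3, 4, 0, 4, 2, 0]) (.leaf [0, 3, 5, 4, 5, 4, 5, 4, 3, 0, 3, 0, 5, 4, 5, 4, 5, 4, 0, 3, 2, 5, 4, 5, 4, 5, 4])) (.node (.leaf [0, 1, 4, 2, 4, 2, 1]) (.leaf [2, 0, 2, 0])))))) (.node (.node (.node (.node (.node (.leaf [2, 0, 4, 0, 4, 0, 2, 0]) (.leaf [2, 3, 2, 3])) (.node (.leaf [2, 3, 2, 0, 3, 0, 3, 0]) (.leaf [5, 4, 5, 4, 5, 4, 5, 4, 5, 4, 5, 4]))) (.node (.node (.leaf [0, 2, 5, 1, 0, 1, 5]) (.leaf [0, 4, 1, 4, 0, 4, 1, 4])) (.node (.leaf [0, 3, 2, 3, 0, 5, 2, 5]) (.leaf [2, 0, 2, 0])))) (.node (.node (.node (.leaf [2, 0, 2, 1, 4, 0, 4, 1]) (.leaf [0, 4, 0, 4])) (.node (.leaf [0, 2, 5, 2, 5, 1, 0, 1]) (.leaf [2, 0, 2, 0]))) (.node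 (.node (.leaf [3, 0, 3, 0, 2, 3, 0, 2]) (.leaf [0, 1, 4, 1, 0, 1, 4, 1])) (.node (.leaf [3, 1, 3, 1, 5, 2, 1, 5]) (.leaf [2, 0, 2, 0]))))) (.node (.node (.node (.node (.leaf [2, 0, 2, 4, 0, 4]) (.leaf [2, 3, 0, 3, 2, 3, 0, 3])) (.node (.leaf [1, 0, 2, 0, 1, 2, 1, 2]) (.leaf [2, 0, 2, 0]))) (.node (.node (.leaf [2, 3, 2, 0, 4, 0, 4, 3]) (.leaf [3, 1, 4, 0, 3, 4, 3, 1])) (.node (.leaf [1, 2, 1, 2, 1, 5, 2, 5]) (.leaf [2, 0, 2, 0])))) (.node (.node (.node (.leaf [5, 0, 2, 0, 5, 0, 2, 0]) (.leaf [3, 1, 0, 4, 3, 4, 3, 1])) (.node (.leaf [0, 1, 0, 1, 2, 5, 2, 5]) (.leaf [2, 0, 2, 0]))) (.node (.node (.leaf [3, 2, 3, 1, 0, 1, 2, 0]) (.leaf [5, 4, 0, 3, 2, 5, 4, 5, 4, 5, 4, 0, 3, 5, 4, 5, 4, 5, 4, 3, 0, 3, 0, 5, 4, 5, 4])) (.node (.leaf [0, 1, 2, 4, 0, 4, 2, 1]) (.leaf [2, 0, 2, 0]))))))) (.node (.node (.node (.node (.node (.node (.leaf [2, 0, 2, 3, 2, 3, 2, 0]) (.leaf [4, 2, 4,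 0, 3, 2, 3])) (.node (.leaf [0, 3, 2, 0, 3, 0, 2, 3]) (.leaf [3, 0, 4, 5, 4, 5, 4, 5, 2, 3, 0, 4, 5, 4, 5, 4, 5, 0, 3, 0, 3, 4, 5, 4, 5, 4, 5]))) (.node (.node (.leaf [0, 1, 5, 2, 0, 5, 1]) (.leaf [4, 0, 1, 4, 1, 4, 0, 1])) (.node (.leaf [0, 1, 5, 0, 5, 2, 1]) (.leaf [2, 0, 2, 0])))) (.node (.node (.node (.leaf [2, 1, 2, 0, 2, 1, 2, 0]) (.leaf [0, 5, 0, 3, 5, 3, 5, 3])) (.node (.leaf [2, 5, 2, 0, 1, 0, 1, 5]) (.leaf [2, 0, 2, 0]))) (.node (.node (.leaf [2, 0, 3, 2, 0, 3, 0, 3]) (.leaf [3, 4, 3, 1, 3, 0, 1, 4])) (.node (.leaf [1, 3, 1, 3, 5, 1, 2, 5]) (.leaf [2, 0, 2, 0]))))) (.node (.node (.node (.node (.leaf [5, 2, 0, 2, 5, 0, 2]) (.leaf [3, 2, 3, 0, 5, 0, 5])) (.node (.leaf [0, 2, 1, 2, 1, 0, 2, 1]) (.leaf [2, 0, 2, 0]))) (.node (.node (.leaf [0, 2, 4, 2, 4]) (.leaf [1, 3, 4, 3, 0, 4, 1, 3])) (.node (.leaf [5, 3, 5, 3, 5, 2, 3]) (.leaf [2, 0, 2, 0])))) (.node (.node (.node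 (.leaf [1, 5, 2, 5, 0, 2, 1, 0]) (.leaf [3, 4, 0, 4, 3, 0, 3, 0])) (.node (.leaf [2, 3, 2, 3, 2, 5, 2, 5]) (.leaf [2, 0, 2, 0]))) (.node (.node (.leaf [4, 3, 2, 3, 0, 2, 4, 0]) (.leaf [3, 0, 3, 0, 5, 4, 5, 4, 5, 4, 0, 3, 2, 5, 4, 5, 4, 5, 4, 0, 3, 5, 4, 5, 4, 5, 4])) (.node (.leaf [0, 4, 2, 4, 0, 4, 2, 4]) (.leaf [2, 0, 2, 0])))))) (.node (.node (.node (.node (.node (.leaf [2, 0, 1, 0, 1, 0, 2, 0]) (.leaf [0, 1, 2, 3, 2, 3, 0, 1])) (.node (.leaf [3, 0, 2, 0, 3, 5, 2, 5]) (.leaf [2, 0, 2, 0]))) (.node (.node (.leaf [0, 2, 0, 4, 2, 0, 4]) (.leaf [0, 1, 4, 1, 0, 4, 1, 4])) (.node (.leaf [3, 2, 3, 5, 2, 5]) (.leaf [2, 0, 2, 0])))) (.node (.node (.node (.leaf [2, 0, 5, 2, 5, 0]) (.leaf [0, 1, 0, 4, 0, 4, 0, 1])) (.node (.leaf [2, 3, 2, 0, 1, 0, 1, 3]) (.leaf [2, 0, 2, 0]))) (.node (.node (.leaf [2, 0, 3, 2, 3, 0]) (.leaf [4, 1, 4, 1, 4, 1])) (.node (.leaf [2, 4, 2, 4, 1, 0,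 1]) (.leaf [2, 0, 2, 0]))))) (.node (.node (.node (.node (.leaf [2, 4, 1, 0, 1, 4, 2, 0]) (.leaf [2, 3, 1, 2, 1, 2, 1, 3])) (.node (.leaf [2, 1, 2, 0, 1, 2, 1, 0]) (.leaf [2, 0, 2, 0]))) (.node (.node (.leaf [0, 2, 3, 2, 3, 4, 0, 4]) (.leaf [0, 3, 1, 0, 1, 3, 0, 3])) (.node (.leaf [1, 5, 3, 1, 3, 1, 2, 5]) (.leaf [2, 0, 2, 0])))) (.node (.node (.node (.leaf [0, 5, 0, 2, 5]) (.leaf [4, 0, 1, 3, 1, 3, 4, 3])) (.node (.leaf [5, 2, 5, 2, 1, 0, 1, 0]) (.leaf [2, 0, 2, 0]))) (.node (.node (.leaf [1, 3, 2, 3, 0, 2, 1, 0]) (.leaf [4, 5, 4, 5, 4, 5, 0, 3, 0, 3, 4, 5, 4, 5, 4, 5, 3, 0, 4, 5, 4, 5, 4, 5, 2, 3, 0])) (.node (.leaf [2, 3, 2, 4, 0, 4, 0, 3]) (.leaf [2, 0, 2, 0]))))))))) (.node (.node (.node (.node (.node (.node (.node (.node (.leaf [2, 0, 2, 0, 2, 5, 2, 5]) (.leaf [4, 0, 4, 2, 3, 2, 3, 0])) (.node (.leaf [2, 0, 3, 0, 2, 0, 3, 0]) (.leaf [0, 3, 0, 3, 4, 5, 4, 5, 4, 5,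 3, 0, 4, 5, 4, 5, 4, 5, 2, 3, 0, 4, 5, 4, 5, 4, 5]))) (.node (.node (.leaf [5, 3, 2, 3, 5, 0, 2, 0]) (.leaf [4, 1, 4, 1, 0, 4, 1, 0])) (.node (.leaf [0, 5, 2, 5, 0, 5, 2, 5]) (.leaf [2, 0, 2, 0])))) (.node (.node (.node (.leaf [2, 0, 2, 3, 0, 3, 0, 3]) (.leaf [1, 3, 2, 3, 1, 2, 1, 2])) (.node (.leaf [2, 1, 2, 1, 2, 0, 1, 0]) (.leaf [2, 0, 2, 0]))) (.node (.node (.leaf [2, 3, 4, 2, 0, 4, 3]) (.leaf [0, 3, 1, 3, 4, 3, 4, 1])) (.node (.leaf [1, 3, 1, 3, 5, 1, 5, 2]) (.leaf [2, 0, 2, 0]))))) (.node (.node (.node (.node (.leaf [2, 0, 2, 5, 2, 0, 5]) (.leaf [3, 2, 3, 2, 1, 0, 1, 0])) (.node (.leaf [0, 1, 2, 1, 2, 0, 1, 2]) (.leaf [2, 0, 2, 0]))) (.node (.node (.leaf [0, 2, 0, 4, 0, 2, 4]) (.leaf [1, 4, 1, 4, 0, 1, 0, 4])) (.node (.leaf [3, 5, 2, 5, 3, 5, 2, 5]) (.leaf [2, 0, 2, 0])))) (.node (.node (.node (.leaf [2, 0, 5, 2, 5, 1, 0, 1]) (.leaf [4, 1, 4, 1, 0, 4, 0, 1])) (.node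 (.leaf [0, 1, 0, 2, 3, 2, 3, 1]) (.leaf [2, 0, 2, 0]))) (.node (.node (.leaf [2, 0, 3, 2, 3, 4, 0, 4]) (.leaf [5, 4, 0, 3, 5, 4, 5, 4, 5, 4, 3, 0, 3, 0, 5, 4, 5, 4, 5, 4, 0, 3, 2, 5, 4, 5, 4])) (.node (.leaf [1, 2, 4, 2, 4, 1, 0]) (.leaf [2, 0, 2, 0])))))) (.node (.node (.node (.node (.node (.leaf [2, 0, 2, 0, 4, 0, 4, 0]) (.leaf [4, 2, 4, 3, 2, 3, 0])) (.node (.leaf [3, 0, 2, 3, 2, 0, 3, 0]) (.leaf [4, 5, 2, 3, 0, 4, 5, 4, 5, 4, 5, 0, 3, 0, 3, 4, 5, 4, 5, 4, 5, 3, 0, 4, 5, 4, 5]))) (.node (.node (.leaf [1, 5, 0, 2, 5, 1, 0]) (.leaf [1, 4, 0, 4, 1, 0])) (.node (.leaf [2, 5, 0, 3, 2, 3, 0, 5]) (.leaf [2, 0, 2, 0])))) (.node (.node (.node (.leaf [0, 1, 2, 0, 2, 1]) (.leaf [5, 3, 0, 5, 0, 3, 5, 3])) (.node (.leaf [0, 1, 0, 2, 5, 2, 5, 1]) (.leaf [2, 0, 2, 0]))) (.node (.node (.leaf [0, 3, 2, 0, 3, 2, 0, 3]) (.leaf [0, 1, 0, 1])) (.node (.leaf [1, 5, 3, 1, 3, 1, 5, 2]) (.leaf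 [2, 0, 2, 0]))))) (.node (.node (.node (.node (.leaf [2, 4, 2, 0, 2, 4, 2, 0]) (.leaf [3, 2, 3, 5, 0, 5, 0])) (.node (.leaf [1, 2, 1, 0, 2, 0, 1, 2]) (.leaf [2, 0, 2, 0]))) (.node (.node (.leaf [4, 3, 2, 3, 2, 0, 4, 0]) (.leaf [3, 1, 3, 1, 4, 0, 3, 4])) (.node (.leaf [2, 5, 1, 2, 1, 2, 1, 5]) (.leaf [2, 0, 2, 0])))) (.node (.node (.node (.leaf [2, 0, 5, 0, 2, 0, 5, 0]) (.leaf [3, 1, 3, 1, 0, 4, 3, 4])) (.node (.leaf [2, 5, 0, 1, 0, 1, 2, 5]) (.leaf [2, 0, 2, 0]))) (.node (.node (.leaf [2, 0, 3, 2, 3, 1, 0, 1]) (.leaf [5, 4, 5, 4, 0, 3, 2, 5, 4, 5, 4, 5, 4, 0, 3, 5, 4, 5, 4, 5, 4, 3, 0, 3, 0, 5, 4])) (.node (.leaf [2, 1, 0, 1, 2, 4, 0, 4]) (.leaf [2, 0, 2, 0]))))))) (.node (.node (.node (.node (.node (.node (.leaf [2, 0, 2, 0, 2, 3, 2, 3]) (.leaf [2, 3, 4, 2, 4, 0, 3])) (.node (.leaf [2, 3, 0, 3, 2, 0, 3, 0]) (.leaf [4, 5, 3, 0, 4, 5, 4, 5, 4, 5, 2, 3, 0, 4, 5, 4, 5, 4,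 5, 0, 3, 0, 3, 4, 5, 4, 5]))) (.node (.node (.leaf [5, 1, 0, 1, 5, 2, 0]) (.leaf [0, 1, 4, 0, 1, 4, 1, 4])) (.node (.leaf [1, 2, 5, 0, 5, 1, 0]) (.leaf [2, 0, 2, 0])))) (.node (.node (.node (.leaf [2, 0, 2, 1, 2, 0, 2, 1]) (.leaf [0, 5, 0, 5, 0, 5, 0, 5])) (.node (.leaf [1, 5, 2, 5, 2, 0, 1, 0]) (.leaf [2, 0, 2, 0]))) (.node (.node (.leaf [0, 2, 4, 3, 2, 3, 4]) (.leaf [1, 4, 3, 4, 3, 1, 3, 0])) (.node (.leaf [2, 5, 1, 3, 1, 3, 5, 1]) (.leaf [2, 0, 2, 0]))))) (.node (.node (.node (.node (.leaf [0, 2, 5, 2, 0, 2, 5]) (.leaf [0, 5, 3, 2, 3, 0, 5])) (.node (.leaf [2, 1, 0, 2, 1, 2, 1, 0]) (.leaf [2, 0, 2, 0]))) (.node (.node (.leaf [2, 4, 0, 2, 4]) (.leaf [1, 3, 1, 3, 4, 3, 0, 4])) (.node (.leaf [3, 2, 5, 3, 5, 3, 5]) (.leaf [2, 0, 2, 0])))) (.node (.node (.node (.leaf [1, 0, 1, 5, 2, 5, 0, 2]) (.leaf [3, 0, 3, 4, 0, 4, 3, 0])) (.node (.leaf [2, 5, 2, 3, 2, 3, 2, 5]) (.leaf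 [2, 0, 2, 0]))) (.node (.node (.leaf [4, 0, 4, 3, 2, 3, 0, 2]) (.leaf [5, 4, 3, 0, 3, 0, 5, 4, 5, 4, 5, 4, 0, 3, 2, 5, 4, 5, 4, 5, 4, 0, 3, 5, 4, 5, 4])) (.node (.leaf [2, 4, 0, 4, 2, 4, 0, 4]) (.leaf [2, 0, 2, 0])))))) (.node (.node (.node (.node (.node (.leaf [2, 0, 2, 0, 1, 0, 1, 0]) (.leaf [0, 1, 0, 1, 2, 3, 2, 3])) (.node (.leaf [2, 5, 3, 0, 2, 0, 3, 5]) (.leaf [2, 0, 2, 0]))) (.node (.node (.leaf [0, 4, 0, 2, 0, 4, 2]) (.leaf [1, 4, 0, 1, 4, 1, 0, 4])) (.node (.leaf [2, 5, 3, 2, 3, 5]) (.leaf [2, 0, 2, 0])))) (.node (.node (.node (.leaf [4, 1, 2, 0, 2, 1, 4, 0]) (.leaf [0, 1, 0, 1, 0, 4, 0, 4])) (.node (.leaf [1, 3, 2, 3, 2, 0, 1, 0]) (.leaf [2, 0, 2, 0]))) (.node (.node (.leaf [0, 2, 3, 0, 3, 0, 2, 3]) (.leaf [1, 3, 5, 3, 1, 3, 5, 3])) (.node (.leaf [2, 4, 2, 4, 2, 4, 2, 4]) (.leaf [2, 0, 2, 0]))))) (.node (.node (.node (.node (.leaf [2, 0, 2, 4, 1, 0, 1, 4]) (.leaf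 [5, 3, 2, 3, 5, 3, 2, 3])) (.node (.leaf [1, 0, 2, 1, 2, 0, 1, 2]) (.leaf [2, 0, 2, 0]))) (.node (.node (.leaf [0, 4, 0, 2, 3, 2, 3, 4]) (.leaf [0, 3, 0, 3, 1, 0, 1, 3])) (.node (.leaf [2, 5, 1, 5, 3, 1, 3, 1]) (.leaf [2, 0, 2, 0])))) (.node (.node (.node (.leaf [5, 2, 0, 5, 0]) (.leaf [4, 3, 4, 0, 1, 3, 1, 3])) (.node (.leaf [1, 0, 5, 2, 5, 2, 1, 0]) (.leaf [2, 0, 2, 0]))) (.node (.node (.leaf [1, 0, 1, 3, 2, 3, 0, 2]) (.leaf [3, 0, 4, 5, 4, 5, 4, 5, 0, 3, 0, 3, 4, 5, 4, 5, 4, 5, 3, 0, 4, 5, 4, 5, 4, 5, 2])) (.node (.leaf [0, 3, 2, 3, 2, 4, 0, 4]) (.leaf [2, 0, 2, 0])))))))) (.node (.node (.node (.node (.node (.node (.node (.leaf [2, 5, 2, 5, 2, 0, 2, 0]) (.leaf [2, 4, 0, 3, 2, 3, 4])) (.node (.leaf [2, 0, 3, 0, 2, 3, 0, 3]) (.leaf [4, 5, 4, 5, 4, 5, 3, 0, 4, 5, 4, 5, 4, 5, 2, 3, 0, 4, 5, 4, 5, 4, 5, 0, 3, 0, 3]))) (.node (.node (.leaf [5, 0, 2, 0, 5, 3, 2, 3]) (.leaf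 [1, 4, 1, 4, 0, 1, 4, 0])) (.node (.leaf [0, 5, 1, 0, 1, 2, 5]) (.leaf [2, 0, 2, 0])))) (.node (.node (.node (.leaf [0, 3, 0, 3, 2, 0, 2, 3]) (.leaf [2, 1, 0, 1, 2, 1, 0, 1])) (.node (.leaf [2, 0, 1, 0, 1, 5, 2, 5]) (.leaf [2, 0, 2, 0]))) (.node (.node (.leaf [3, 2, 3, 4, 0, 2, 4]) (.leaf [4, 3, 4, 1, 0, 3, 1, 3])) (.node (.leaf [5, 1, 5, 2, 1, 3, 1, 3]) (.leaf [2, 0, 2, 0]))))) (.node (.node (.node (.node (.leaf [2, 0, 5, 2, 0, 2, 5]) (.leaf [2, 3, 0, 5, 0, 5, 3])) (.node (.leaf [1, 2, 1, 0, 2, 1, 0, 2]) (.leaf [2, 0, 2, 0]))) (.node (.node (.leaf [4, 2, 4, 2, 0]) (.leaf [0, 1, 0, 4, 1, 4, 1, 4])) (.node (.leaf [3, 5, 3, 5, 3, 2, 5]) (.leaf [2, 0, 2, 0])))) (.node (.node (.node (.leaf [5, 1, 0, 1, 2, 0, 5, 2]) (.leaf [0, 4, 3, 0, 3, 0, 3, 4])) (.node (.leaf [2, 5, 2, 5]) (.leaf [2, 0, 2, 0]))) (.node (.node (.leaf [3, 4, 0, 4, 2, 0, 3, 2]) (.leaf [5, 4, 5, 4, 5, 4, 3,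 0, 3, 0, 5, 4, 5, 4, 5, 4, 0, 3, 2, 5, 4, 5, 4, 5, 4, 0, 3])) (.node (.leaf [4, 2, 4, 2, 1, 0, 1]) (.leaf [2, 0, 2, 0])))))) (.node (.node (.node (.node (.node (.leaf [4, 0, 4, 0, 2, 0, 2, 0]) (.leaf [2, 3, 2, 3, 0, 1, 0, 1])) (.node (.leaf [2, 0, 3, 5, 2, 5, 3, 0]) (.leaf [2, 0, 2, 0]))) (.node (.node (.leaf [2, 0, 4, 2, 0, 4, 0]) (.leaf [1, 4, 0, 4, 1, 4, 0, 4])) (.node (.leaf [2, 3, 0, 5, 2, 5, 0, 3]) (.leaf [2, 0, 2, 0])))) (.node (.node (.node (.leaf [2, 1, 4, 0, 4, 1, 2, 0]) (.leaf [0, 4, 0, 4, 0, 1, 0, 1])) (.node (.leaf [2, 0, 1, 0, 1, 3, 2, 3]) (.leaf [2, 0, 2, 0]))) (.node (.node (.leaf [3, 0, 2, 3, 0, 2, 3, 0]) (.leaf [4, 1, 0, 1, 4, 1, 0, 1])) (.node (.leaf [3, 1, 5, 2, 1, 5, 3, 1]) (.leaf [2, 0, 2, 0]))))) (.node (.node (.node (.node (.leaf [2, 4, 0, 4, 2, 0]) (.leaf [0, 3, 2, 3, 0, 3, 2, 3])) (.node (.leaf [2, 0, 1, 2, 1, 0, 2, 1]) (.leaf [2, 0, 2, 0]))) (.node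 (.node (.leaf [3, 2, 3, 4, 0, 4, 0, 2]) (.leaf [4, 0, 3, 4, 3, 1, 3, 1])) (.node (.leaf [1, 2, 1, 5, 2, 5, 1, 2]) (.leaf [2, 0, 2, 0])))) (.node (.node (.node (.leaf [2, 0, 5, 0, 5]) (.leaf [1, 3, 1, 3, 4, 3, 4, 0])) (.node (.leaf [0, 1, 2, 5, 2, 5, 0, 1]) (.leaf [2, 0, 2, 0]))) (.node (.node (.leaf [3, 1, 0, 1, 2, 0, 3, 2]) (.leaf [0, 3, 2, 5, 4, 5, 4, 5, 4, 0, 3, 5, 4, 5, 4, 5, 4, 3, 0, 3, 0, 5, 4, 5, 4, 5, 4])) (.node (.leaf [2, 4, 0, 4, 0, 3, 2, 3]) (.leaf [2, 0, 2, 0]))))))) (.node (.node (.node (.node (.node (.node (.leaf [2, 3, 2, 3, 2, 0, 2, 0]) (.leaf [3, 2, 3, 0, 4, 2, 4])) (.node (.leaf [2, 0, 3, 0, 3, 0, 2, 3]) (.leaf [4, 5, 4, 5, 4, 5, 2, 3, 0, 4, 5, 4, 5, 4, 5, 0, 3, 0, 3, 4, 5, 4, 5, 4, 5, 3, 0]))) (.node (.node (.leaf [5, 2, 0, 5, 1, 0, 1]) (.leaf [0, 4, 1, 0, 1, 4])) (.node (.leaf [5, 0, 5, 2, 1, 0, 1]) (.leaf [2, 0, 2, 0])))) (.node (.node (.node (.leaf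 [2, 0, 2, 1, 0, 1]) (.leaf [0, 3, 5, 3, 5, 3, 0, 5])) (.node (.leaf [5, 2, 5, 1, 0, 1, 0, 2]) (.leaf [2, 0, 2, 0]))) (.node (.node (.leaf [3, 2, 0, 3, 0, 3, 2, 0]) (.leaf [3, 1, 3, 0, 1, 4, 3, 4])) (.node (.leaf [1, 3, 5, 1, 2, 5, 1, 3]) (.leaf [2, 0, 2, 0]))))) (.node (.node (.node (.node (.leaf [0, 2, 5, 0, 2, 5, 2]) (.leaf [5, 0, 5, 0, 3, 2, 3])) (.node (.leaf [2, 0, 1, 2, 1, 2, 1, 0]) (.leaf [2, 0, 2, 0]))) (.node (.node (.leaf [2, 0, 4, 0, 4, 3, 2, 3]) (.leaf [4, 3, 0, 4, 1, 3, 1, 3])) (.node (.leaf [5, 3, 5, 2, 3, 5, 3]) (.leaf [2, 0, 2, 0])))) (.node (.node (.node (.leaf [2, 5, 0, 2, 1, 0, 1, 5]) (.leaf [0, 4, 3, 4, 3, 1, 3, 1])) (.node (.leaf [2, 3, 2, 5, 2, 5, 2, 3]) (.leaf [2, 0, 2, 0]))) (.node (.node (.leaf [2, 3, 0, 2, 4, 0, 4, 3]) (.leaf [3, 0, 5, 4, 5, 4, 5, 4, 0, 3, 2, 5, 4, 5, 4, 5, 4, 0, 3, 5, 4, 5, 4, 5, 4, 3, 0])) (.node (.leaf [2, 4, 0, 4, 2, 1, 0,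 1]) (.leaf [2, 0, 2, 0])))))) (.node (.node (.node (.node (.node (.leaf [1, 0, 1, 0, 2, 0, 2, 0]) (.leaf [1, 0, 1, 0, 3, 2, 3, 2])) (.node (.leaf [2, 0, 1, 2, 0, 1, 2, 1]) (.leaf [2, 0, 2, 0]))) (.node (.node (.leaf [4, 0, 2, 4, 0, 2, 0]) (.leaf [4, 1, 0, 4, 1, 4, 0, 1])) (.node (.leaf [3, 5, 2, 5, 3, 2]) (.leaf [2, 0, 2, 0])))) (.node (.node (.node (.leaf [5, 2, 5, 0, 2, 0]) (.leaf [0, 4, 0, 1, 4, 1, 4, 1])) (.node (.leaf [3, 2, 3, 1, 0, 1, 0, 2]) (.leaf [2, 0, 2, 0]))) (.node (.node (.leaf [3, 2, 3, 0, 2, 0]) (.leaf [5, 4, 5, 4, 5, 4, 0, 3, 5, 4, 5, 4, 5, 4, 3, 0, 3, 0, 5, 4, 5, 4, 5, 4, 0, 3, 2])) (.node (.leaf [2, 4, 1, 0, 1, 2, 4]) (.leaf [2, 0, 2, 0]))))) (.node (.node (.node (.node (.leaf [1, 0, 1, 4, 2, 0, 2, 4]) (.leaf [1, 2, 1, 2, 1, 3, 2, 3])) (.node (.leaf [2, 0, 1, 0, 2, 1, 2, 1]) (.leaf [2, 0, 2, 0]))) (.node (.node (.leaf [2, 0, 4, 3, 2, 3, 4]) (.leaf [1,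 0, 1, 3, 0, 3, 0, 3])) (.node (.leaf [3, 1, 3, 1, 2, 5, 1, 5]) (.leaf [2, 0, 2, 0])))) (.node (.node (.node (.leaf [0, 2, 5, 0, 5]) (.leaf [0, 4, 1, 0, 4, 1, 4, 1])) (.node (.leaf [5, 2, 1, 0, 1, 0, 5, 2]) (.leaf [2, 0, 2, 0]))) (.node (.node (.leaf [2, 3, 0, 2, 1, 0, 1, 3]) (.leaf [4, 5, 4, 5, 0, 3, 0, 3, 4, 5, 4, 5, 4, 5, 3, 0, 4, 5, 4, 5, 4, 5, 2, 3, 0, 4, 5])) (.node (.leaf [3, 2, 3, 0, 4, 0, 4, 2]) (.leaf [2, 0, 2, 0])))))))))) (.node (.node (.node (.node (.node (.node (.node (.node (.node (.leaf [0, 2, 0, 2]) (.leaf [0, 4, 0, 4, 2, 3, 2, 3])) (.node (.leaf [2, 1, 0, 1, 3, 2, 3, 0]) (.leaf [5, 0, 3, 0, 3, 4, 5, 4, 5, 4, 5, 3, 0, 4, 5, 4, 5, 4, 5, 2, 3, 0, 4, 5, 4, 5, 4]))) (.node (.node (.leaf [0, 5, 3, 2, 3, 5, 0, 2]) (.leaf [0, 4, 1, 4, 1, 0, 4, 1])) (.node (.leaf [5, 0, 5, 2, 5, 0, 5, 2]) (.leaf [2, 0, 2, 0])))) (.node (.node (.node (.leaf [4, 2, 0, 2, 4, 1, 0,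 1]) (.leaf [2, 1, 3, 2, 3, 1, 2, 1])) (.node (.leaf [0, 2, 1, 2, 1, 2, 0, 1]) (.leaf [2, 0, 2, 0]))) (.node (.node (.leaf [3, 2, 3, 4, 2, 0, 4]) (.leaf [3, 0, 3, 0, 3, 1, 0, 1])) (.node (.leaf [1, 2, 5, 1, 5, 3, 1, 3]) (.leaf [2, 0, 2, 0]))))) (.node (.node (.node (.node (.leaf [0, 2, 0, 2, 0, 1, 0, 1]) (.leaf [0, 3, 2, 3, 2, 1, 0, 1])) (.node (.leaf [2, 0, 1, 2, 1, 2, 0, 1]) (.leaf [2, 0, 2, 0]))) (.node (.node (.leaf [4, 0, 2, 0, 4, 0, 2]) (.leaf [4, 1, 4, 1, 4, 0, 1, 0])) (.node (.leaf [5, 3, 5, 2, 5, 3, 5, 2]) (.leaf [2, 0, 2, 0])))) (.node (.node (.node (.leaf [0, 2, 0, 5, 2, 5]) (.leaf [1, 4, 1, 4, 1, 0, 4, 0])) (.node (.leaf [1, 0, 1, 0, 2, 3, 2, 3]) (.leaf [2, 0, 2, 0]))) (.node (.node (.leaf [0, 2, 0, 3, 2, 3]) (.leaf [4, 5, 4, 0, 3, 5, 4, 5, 4, 5, 4, 3, 0, 3, 0, 5, 4, 5, 4, 5, 4, 0, 3, 2, 5, 4, 5])) (.node (.leaf [0, 1, 2, 4, 2, 4, 1]) (.leaf [2, 0, 2, 0]))))))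 (.node (.node (.node (.node (.node (.leaf [3, 2, 0, 2, 0, 2, 3, 2]) (.leaf [0, 4, 2, 4, 3, 2, 3])) (.node (.leaf [0, 3, 0, 2, 3, 2, 0, 3]) (.leaf [5, 4, 5, 2, 3, 0, 4, 5, 4, 5, 4, 5, 0, 3, 0, 3, 4, 5, 4, 5, 4, 5, 3, 0, 4, 5, 4]))) (.node (.node (.leaf [0, 1, 5, 0, 2, 5, 1]) (.leaf [0, 1, 4, 0, 4, 1])) (.node (.leaf [2, 1, 0, 1, 5, 0, 5]) (.leaf [2, 0, 2, 0])))) (.node (.node (.node (.leaf [1, 0, 1, 2, 0, 2]) (.leaf [3, 5, 3, 0, 5, 0, 3, 5])) (.node (.leaf [1, 0, 1, 0, 2, 5, 2, 5]) (.leaf [2, 0, 2, 0]))) (.node (.node (.leaf [3, 0, 3, 2, 0, 3, 2, 0]) (.leaf [0, 1, 4, 3, 4, 3, 1, 3])) (.node (.leaf [1, 2, 5, 1, 3, 1, 3, 5]) (.leaf [2, 0, 2, 0]))))) (.node (.node (.node (.node (.leaf [0, 2, 4, 2, 0, 2, 4, 2]) (.leaf [0, 3, 2, 3, 5, 0, 5])) (.node (.leaf [2, 1, 2, 1, 0, 2, 0, 1]) (.leaf [2, 0, 2, 0]))) (.node (.node (.leaf [0, 4, 3, 2, 3, 2, 0, 4]) (.leaf [4, 3, 1, 3, 1, 4,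 0, 3])) (.node (.leaf [2, 3, 5, 3, 5, 3, 5]) (.leaf [2, 0, 2, 0])))) (.node (.node (.node (.leaf [2, 1, 0, 1, 5, 2, 5, 0]) (.leaf [4, 3, 1, 3, 1, 0, 4, 3])) (.node (.leaf [5, 2, 5, 0, 1, 0, 1, 2]) (.leaf [2, 0, 2, 0]))) (.node (.node (.leaf [2, 4, 0, 4, 3, 2, 3, 0]) (.leaf [4, 5, 4, 5, 4, 0, 3, 2, 5, 4, 5, 4, 5, 4, 0, 3, 5, 4, 5, 4, 5, 4, 3, 0, 3, 0, 5])) (.node (.leaf [4, 2, 1, 0, 1, 2, 4, 0]) (.leaf [2, 0, 2, 0]))))))) (.node (.node (.node (.node (.node (.node (.leaf [5, 2, 0, 2, 0, 2, 5, 2]) (.leaf [3, 2, 3, 4, 2, 4, 0])) (.node (.leaf [0, 2, 3, 0, 3, 2, 0, 3]) (.leaf [5, 4, 5, 3, 0, 4, 5, 4, 5, 4, 5, 2, 3, 0, 4, 5, 4, 5, 4, 5, 0, 3, 0, 3, 4, 5, 4]))) (.node (.node (.leaf [0, 5, 1, 0, 1, 5, 2]) (.leaf [4, 0, 1, 4, 0, 1, 4, 1])) (.node (.leaf [0, 1, 2, 5, 0, 5, 1]) (.leaf [2, 0, 2, 0])))) (.node (.node (.node (.leaf [3, 2, 0, 2, 3, 0, 3, 0]) (.leaf [1, 2, 1, 0, 1, 2,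 1, 0])) (.node (.leaf [0, 1, 5, 2, 5, 2, 0, 1]) (.leaf [2, 0, 2, 0]))) (.node (.node (.leaf [4, 0, 2, 4, 3, 2, 3]) (.leaf [1, 0, 3, 1, 3, 4, 3, 4])) (.node (.leaf [2, 1, 3, 1, 3, 5, 1, 5]) (.leaf [2, 0, 2, 0]))))) (.node (.node (.node (.node (.leaf [5, 0, 2, 5, 2, 0, 2]) (.leaf [5, 0, 5, 3, 2, 3, 0])) (.node (.leaf [0, 2, 1, 0, 2, 1, 2, 1]) (.leaf [2, 0, 2, 0]))) (.node (.node (.leaf [4, 2, 4, 0, 2]) (.leaf [4, 1, 3, 1, 3, 4, 3, 0])) (.node (.leaf [5, 3, 2, 5, 3, 5, 3]) (.leaf [2, 0, 2, 0])))) (.node (.node (.node (.leaf [1, 2, 0, 5, 2, 5, 1, 0]) (.leaf [0, 3, 0, 3, 4, 0, 4, 3])) (.node (.leaf [5, 2, 5, 2, 3, 2, 3, 2]) (.leaf [2, 0, 2, 0]))) (.node (.node (.leaf [4, 2, 0, 3, 2, 3, 4, 0]) (.leaf [4, 5, 4, 3, 0, 3, 0, 5, 4, 5, 4, 5, 4, 0, 3, 2, 5, 4, 5, 4, 5, 4, 0, 3, 5, 4, 5])) (.node (.leaf [2, 1, 0, 1, 4, 2, 4]) (.leaf [2, 0, 2, 0])))))) (.node (.node (.node (.node (.node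 (.leaf [0, 2, 0, 2, 0, 4, 0, 4]) (.leaf [3, 0, 1, 0, 1, 2, 3, 2])) (.node (.leaf [5, 2, 5, 3, 0, 2, 0, 3]) (.leaf [2, 0, 2, 0]))) (.node (.node (.leaf [2, 0, 4, 0, 2, 0, 4]) (.leaf [4, 1, 4, 0, 1, 4, 1, 0])) (.node (.leaf [5, 2, 5, 0, 3, 2, 3, 0]) (.leaf [2, 0, 2, 0])))) (.node (.node (.node (.leaf [0, 4, 1, 2, 0, 2, 1, 4]) (.leaf [4, 0, 1, 0, 1, 0, 4, 0])) (.node (.leaf [0, 1, 3, 2, 3, 2, 0, 1]) (.leaf [2, 0, 2, 0]))) (.node (.node (.leaf [3, 0, 2, 3, 0, 3, 0, 2]) (.leaf [3, 1, 3, 5, 3, 1, 3, 5])) (.node (.leaf [2, 1, 5, 3, 1, 3, 1, 5]) (.leaf [2, 0, 2, 0]))))) (.node (.node (.node (.node (.leaf [4, 2, 0, 2, 4, 0]) (.leaf [3, 5, 3, 2, 3, 5, 3, 2])) (.node (.leaf [2, 1, 0, 2, 1, 2, 0, 1]) (.leaf [2, 0, 2, 0]))) (.node (.node (.leaf [4, 0, 4, 0, 2, 3, 2, 3]) (.leaf [3, 0, 3, 0, 3, 0])) (.node (.leaf [5, 2, 5, 1, 2, 1, 2, 1]) (.leaf [2, 0, 2, 0])))) (.node (.node (.node (.leaf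 [0, 5, 2, 0, 5]) (.leaf [3, 4, 3, 4, 0, 1, 3, 1])) (.node (.leaf [0, 1, 0, 5, 2, 5, 2, 1]) (.leaf [2, 0, 2, 0]))) (.node (.node (.leaf [1, 2, 0, 3, 2, 3, 1, 0]) (.leaf [2, 3, 0, 4, 5, 4, 5, 4, 5, 0, 3, 0, 3, 4, 5, 4, 5, 4, 5, 3, 0, 4, 5, 4, 5, 4, 5])) (.node (.leaf [4, 0, 3, 2, 3, 2, 4, 0]) (.leaf [2, 0, 2, 0])))))))) (.node (.node (.node (.node (.node (.node (.node (.leaf [0, 2, 5, 2, 5, 2, 0, 2]) (.leaf [2, 3, 2, 3, 0, 4, 0, 4])) (.node (.leaf [0, 2, 0, 3, 0, 2, 0, 3]) (.leaf [3, 4, 5, 4, 5, 4, 5, 3, 0, 4, 5, 4, 5, 4, 5, 2, 3, 0, 4, 5, 4, 5, 4, 5, 0, 3, 0]))) (.node (.node (.leaf [3, 5, 0, 2, 0, 5, 3, 2]) (.leaf [1, 0, 4, 1, 0, 4, 1, 4])) (.node (.leaf [5, 0, 5, 1, 0, 1, 2]) (.leaf [2, 0, 2, 0])))) (.node (.node (.node (.leaf [3, 0, 3, 0, 3, 2, 0, 2]) (.leaf [1, 2, 1, 2, 1, 2])) (.node (.leaf [1, 2, 0, 1, 0, 2, 1, 2]) (.leaf [2, 0, 2, 0]))) (.node (.node (.leaf [4, 3,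 2, 3, 4, 0, 2]) (.leaf [3, 4, 3, 4, 1, 0, 3, 1])) (.node (.leaf [3, 5, 1, 5, 2, 1, 3, 1]) (.leaf [2, 0, 2, 0]))))) (.node (.node (.node (.node (.leaf [5, 2, 0, 5, 2, 0, 2]) (.leaf [2, 1, 0, 1, 0, 3, 2, 3])) (.node (.leaf [1, 2, 0, 1, 2, 0, 1, 2]) (.leaf [2, 0, 2, 0]))) (.node (.node (.leaf [0, 4, 2, 4, 2]) (.leaf [4, 0, 1, 0, 4, 1, 4, 1])) (.node (.leaf [5, 3, 5, 3, 5, 3, 2]) (.leaf [2, 0, 2, 0])))) (.node (.node (.node (.leaf [2, 5, 1, 0, 1, 2, 0, 5]) (.leaf [1, 0, 4, 0, 1, 4, 1, 4])) (.node (.leaf [2, 3, 2, 3, 1, 0, 1, 0]) (.leaf [2, 0, 2, 0]))) (.node (.node (.leaf [2, 3, 4, 0, 4, 2, 0, 3]) (.leaf [3, 5, 4, 5, 4, 5, 4, 3, 0, 3, 0, 5, 4, 5, 4, 5, 4, 0, 3, 2, 5, 4, 5, 4, 5, 4, 0])) (.node (.leaf [1, 4, 2, 4, 2, 1, 0]) (.leaf [2, 0, 2, 0])))))) (.node (.node (.node (.node (.node (.leaf [0, 4, 0, 4, 0, 2, 0, 2]) (.leaf [3, 2, 3, 2])) (.node (.leaf [3, 2, 0, 3, 0, 3, 0, 2])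 (.leaf [4, 5, 4, 5, 4, 5, 4, 5, 4, 5, 4, 5]))) (.node (.node (.leaf [2, 5, 1, 0, 1, 5, 0]) (.leaf [4, 1, 4, 0, 4, 1, 4, 0])) (.node (.leaf [3, 2, 3, 0, 5, 2, 5, 0]) (.leaf [2, 0, 2, 0])))) (.node (.node (.node (.leaf [0, 2, 1, 4, 0, 4, 1, 2]) (.leaf [4, 0, 4, 0])) (.node (.leaf [2, 5, 2, 5, 1, 0, 1, 0]) (.leaf [2, 0, 2, 0]))) (.node (.node (.leaf [0, 3, 0, 2, 3, 0, 2, 3]) (.leaf [1, 4, 1, 0, 1, 4, 1, 0])) (.node (.leaf [1, 3, 1, 5, 2, 1, 5, 3]) (.leaf [2, 0, 2, 0]))))) (.node (.node (.node (.node (.leaf [0, 2, 4, 0, 4, 2]) (.leaf [3, 0, 3, 2, 3, 0, 3, 2])) (.node (.leaf [0, 2, 0, 1, 2, 1, 2, 1]) (.leaf [2, 0, 2, 0]))) (.node (.node (.leaf [3, 2, 0, 4, 0, 4, 3, 2]) (.leaf [1, 4, 0, 3, 4, 3, 1, 3])) (.node (.leaf [2, 1, 2, 1, 5, 2, 5, 1]) (.leaf [2, 0, 2, 0])))) (.node (.node (.node (.leaf [0, 2, 0, 5, 0, 2, 0, 5]) (.leaf [1, 0, 4, 3, 4, 3, 1, 3])) (.node (.leaf [1, 0, 1,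 2, 5, 2, 5, 0]) (.leaf [2, 0, 2, 0]))) (.node (.node (.leaf [2, 3, 1, 0, 1, 2, 0, 3]) (.leaf [4, 0, 3, 2, 5, 4, 5, 4, 5, 4, 0, 3, 5, 4, 5, 4, 5, 4, 3, 0, 3, 0, 5, 4, 5, 4, 5])) (.node (.leaf [1, 2, 4, 0, 4, 2, 1, 0]) (.leaf [2, 0, 2, 0]))))))) (.node (.node (.node (.node (.node (.node (.leaf [0, 2, 3, 2, 3, 2, 0, 2]) (.leaf [4, 3, 2, 3, 0, 4, 2])) (.node (.leaf [3, 2, 0, 3, 0, 2, 3, 0]) (.leaf [0, 4, 5, 4, 5, 4, 5, 2, 3, 0, 4, 5, 4, 5, 4, 5, 0, 3, 0, 3, 4, 5, 4, 5, 4, 5, 3]))) (.node (.node (.leaf [1, 5, 2, 0, 5, 1, 0]) (.leaf [0, 1, 4, 1, 4, 0, 1, 4])) (.node (.leaf [1, 5, 0, 5, 2, 1, 0]) (.leaf [2, 0, 2, 0])))) (.node (.node (.node (.leaf [1, 2, 0, 2, 1, 2, 0, 2]) (.leaf [5, 0, 3, 5, 3, 5, 3, 0])) (.node (.leaf [5, 2, 0, 1, 0, 1, 5, 2]) (.leaf [2, 0, 2, 0]))) (.node (.node (.leaf [0, 3, 2, 0, 3, 0, 3, 2]) (.leaf [4, 3, 1, 3, 0, 1, 4, 3])) (.node (.leaf [3, 1, 3, 5, 1,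 2, 5, 1]) (.leaf [2, 0, 2, 0]))))) (.node (.node (.node (.node (.leaf [2, 0, 2, 5, 0, 2, 5]) (.leaf [3, 5, 0, 5, 0, 3, 2])) (.node (.leaf [2, 1, 2, 1, 0, 2, 1, 0]) (.leaf [2, 0, 2, 0]))) (.node (.node (.leaf [2, 4, 2, 4, 0]) (.leaf [3, 4, 3, 0, 4, 1, 3, 1])) (.node (.leaf [3, 5, 3, 5, 2, 3, 5]) (.leaf [2, 0, 2, 0])))) (.node (.node (.node (.leaf [5, 2, 5, 0, 2, 1, 0, 1]) (.leaf [4, 0, 4, 3, 0, 3, 0, 3])) (.node (.leaf [3, 2, 3, 2, 5, 2, 5, 2]) (.leaf [2, 0, 2, 0]))) (.node (.node (.leaf [3, 2, 3, 0, 2, 4, 0, 4]) (.leaf [0, 3, 0, 5, 4, 5, 4, 5, 4, 0, 3, 2, 5, 4, 5, 4, 5, 4, 0, 3, 5, 4, 5, 4, 5, 4, 3])) (.node (.leaf [4, 2, 4, 0, 4, 2, 4, 0]) (.leaf [2, 0, 2, 0])))))) (.node (.node (.node (.node (.node (.leaf [0, 1, 0, 1, 0, 2, 0, 2]) (.leaf [1, 2, 3, 2, 3, 0, 1, 0])) (.node (.leaf [0, 2, 0, 3, 5, 2, 5, 3]) (.leaf [2, 0, 2, 0]))) (.node (.node (.leaf [0, 4, 0, 2, 4, 0, 2])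 (.leaf [1, 4, 1, 0, 4, 1, 4, 0])) (.node (.leaf [2, 3, 5, 2, 5, 3]) (.leaf [2, 0, 2, 0])))) (.node (.node (.node (.leaf [0, 5, 2, 5, 0, 2]) (.leaf [1, 0, 4, 0, 4, 0, 1, 0])) (.node (.leaf [3, 2, 0, 1, 0, 1, 3, 2]) (.leaf [2, 0, 2, 0]))) (.node (.node (.leaf [0, 3, 2, 3, 0, 2]) (.leaf [1, 4, 1, 4, 1, 4])) (.node (.leaf [4, 2, 4, 1, 0, 1, 2]) (.leaf [2, 0, 2, 0]))))) (.node (.node (.node (.node (.leaf [4, 1, 0, 1, 4, 2, 0, 2]) (.leaf [3, 1, 2, 1, 2, 1, 3, 2])) (.node (.leaf [1, 2, 0, 1, 2, 1, 0, 2]) (.leaf [2, 0, 2, 0]))) (.node (.node (.leaf [2, 3, 2, 3, 4, 0, 4, 0]) (.leaf [3, 1, 0, 1, 3, 0, 3, 0])) (.node (.leaf [5, 3, 1, 3, 1, 2, 5, 1]) (.leaf [2, 0, 2, 0])))) (.node (.node (.node (.leaf [5, 0, 2, 5, 0]) (.leaf [0, 1, 3, 1, 3, 4, 3, 4])) (.node (.leaf [2, 5, 2, 1, 0, 1, 0, 5]) (.leaf [2, 0, 2, 0]))) (.node (.node (.leaf [3, 2, 3, 0, 2, 1, 0, 1]) (.leaf [5, 4, 5, 4, 5,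 0, 3, 0, 3, 4, 5, 4, 5, 4, 5, 3, 0, 4, 5, 4, 5, 4, 5, 2, 3, 0, 4])) (.node (.leaf [3, 2, 4, 0, 4, 0, 3, 2]) (.leaf [2, 0, 2, 0]))))))))) (.node (.node (.node (.node (.node (.node (.node (.node (.leaf [0, 2, 0, 2, 5, 2, 5, 2]) (.leaf [0, 4, 2, 3, 2, 3, 0, 4])) (.node (.leaf [0, 3, 0, 2, 0, 3, 0, 2]) (.leaf [3, 0, 3, 4, 5, 4, 5, 4, 5, 3, 0, 4, 5, 4, 5, 4, 5, 2, 3, 0, 4, 5, 4, 5, 4, 5, 0]))) (.node (.node (.leaf [3, 2, 3, 5, 0, 2, 0, 5]) (.leaf [1, 4, 1, 0, 4, 1, 0, 4])) (.node (.leaf [5, 2, 5, 0, 5, 2, 5, 0]) (.leaf [2, 0, 2, 0])))) (.node (.node (.node (.leaf [0, 2, 3, 0, 3, 0, 3, 2]) (.leaf [3, 2, 3, 1, 2, 1, 2, 1])) (.node (.leaf [1, 2, 1, 2, 0, 1, 0, 2]) (.leaf [2, 0, 2, 0]))) (.node (.node (.leaf [3, 4, 2, 0, 4, 3, 2]) (.leaf [3, 1, 3, 4, 3, 4, 1, 0])) (.node (.leaf [3, 1, 3, 5, 1, 5, 2, 1]) (.leaf [2, 0, 2, 0]))))) (.node (.node (.node (.node (.leaf [0, 2, 5, 2, 0,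 5, 2]) (.leaf [2, 3, 2, 1, 0, 1, 0, 3])) (.node (.leaf [1, 2, 1, 2, 0, 1, 2, 0]) (.leaf [2, 0, 2, 0]))) (.node (.node (.leaf [2, 0, 4, 0, 2, 4, 0]) (.leaf [4, 1, 4, 0, 1, 0, 4, 1])) (.node (.leaf [5, 2, 5, 3, 5, 2, 5, 3]) (.leaf [2, 0, 2, 0])))) (.node (.node (.node (.leaf [0, 5, 2, 5, 1, 0, 1, 2]) (.leaf [1, 4, 1, 0, 4, 0, 1, 4])) (.node (.leaf [1, 0, 2, 3, 2, 3, 1, 0]) (.leaf [2, 0, 2, 0]))) (.node (.node (.leaf [0, 3, 2, 3, 4, 0, 4, 2]) (.leaf [4, 0, 3, 5, 4, 5, 4, 5, 4, 3, 0, 3, 0, 5, 4, 5, 4, 5, 4, 0, 3, 2, 5, 4, 5, 4, 5])) (.node (.leaf [1, 0, 1, 4, 2, 4, 2]) (.leaf [2, 0, 2, 0])))))) (.node (.node (.node (.node (.node (.leaf [0, 2, 0, 4, 0, 4, 0, 2]) (.leaf [2, 4, 3, 2, 3, 0, 4])) (.node (.leaf [0, 2, 3, 2, 0, 3, 0, 3]) (.leaf [5, 2, 3, 0, 4, 5, 4, 5, 4, 5, 0, 3, 0, 3, 4, 5, 4, 5, 4, 5, 3, 0, 4, 5, 4, 5, 4]))) (.node (.node (.leaf [5, 0, 2, 5, 1, 0, 1]) (.leaf [4,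 0, 4, 1, 0, 1])) (.node (.leaf [5, 0, 3, 2, 3, 0, 5, 2]) (.leaf [2, 0, 2, 0])))) (.node (.node (.node (.leaf [1, 2, 0, 2, 1, 0]) (.leaf [3, 0, 5, 0, 3, 5, 3, 5])) (.node (.leaf [1, 0, 2, 5, 2, 5, 1, 0]) (.leaf [2, 0, 2, 0]))) (.node (.node (.leaf [3, 2, 0, 3, 2, 0, 3, 0]) (.leaf [1, 0, 1, 0])) (.node (.leaf [5, 3, 1, 3, 1, 5, 2, 1]) (.leaf [2, 0, 2, 0]))))) (.node (.node (.node (.node (.leaf [4, 2, 0, 2, 4, 2, 0, 2]) (.leaf [2, 3, 5, 0, 5, 0, 3])) (.node (.leaf [2, 1, 0, 2, 0, 1, 2, 1]) (.leaf [2, 0, 2, 0]))) (.node (.node (.leaf [3, 2, 3, 2, 0, 4, 0, 4]) (.leaf [1, 3, 1, 4, 0, 3, 4, 3])) (.node (.leaf [5, 1, 2, 1, 2, 1, 5, 2]) (.leaf [2, 0, 2, 0])))) (.node (.node (.node (.leaf [0, 5, 0, 2, 0, 5, 0, 2]) (.leaf [1, 3, 1, 0, 4, 3, 4, 3])) (.node (.leaf [5, 0, 1, 0, 1, 2, 5, 2]) (.leaf [2, 0, 2, 0]))) (.node (.node (.leaf [0, 3, 2, 3, 1, 0, 1, 2]) (.leaf [4, 5, 4, 0, 3, 2,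 5, 4, 5, 4, 5, 4, 0, 3, 5, 4, 5, 4, 5, 4, 3, 0, 3, 0, 5, 4, 5])) (.node (.leaf [1, 0, 1, 2, 4, 0, 4, 2]) (.leaf [2, 0, 2, 0]))))))) (.node (.node (.node (.node (.node (.node (.leaf [0, 2, 0, 2, 3, 2, 3, 2]) (.leaf [3, 4, 2, 4, 0, 3, 2])) (.node (.leaf [3, 0, 3, 2, 0, 3, 0, 2]) (.leaf [5, 3, 0, 4, 5, 4, 5, 4, 5, 2, 3, 0, 4, 5, 4, 5, 4, 5, 0, 3, 0, 3, 4, 5, 4, 5, 4]))) (.node (.node (.leaf [1, 0, 1, 5, 2, 0, 5]) (.leaf [1, 4, 0, 1, 4, 1, 4, 0])) (.node (.leaf [1, 0, 1, 5, 0, 5, 2]) (.leaf [2, 0, 2, 0])))) (.node (.node (.node (.leaf [0, 2, 1, 2, 0, 2, 1, 2]) (.leaf [5, 0, 5, 0, 5, 0, 5, 0])) (.node (.leaf [5, 2, 5, 2, 0, 1, 0, 1]) (.leaf [2, 0, 2, 0]))) (.node (.node (.leaf [2, 4, 3, 2, 3, 4, 0]) (.leaf [4, 3, 4, 3, 1, 3, 0, 1])) (.node (.leaf [5, 1, 3, 1, 3, 5, 1, 2]) (.leaf [2, 0, 2, 0]))))) (.node (.node (.node (.node (.leaf [2, 5, 2, 0, 2, 5, 0]) (.leaf [5, 3, 2, 3, 0,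 5, 0])) (.node (.leaf [1, 0, 2, 1, 2, 1, 0, 2]) (.leaf [2, 0, 2, 0]))) (.node (.node (.leaf [4, 0, 2, 4, 2]) (.leaf [3, 1, 3, 4, 3, 0, 4, 1])) (.node (.leaf [3, 5, 3, 5, 3, 5, 2]) (.leaf [2, 0, 2, 0])))) (.node (.node (.node (.leaf [0, 1, 5, 2, 5, 0, 2, 1]) (.leaf [0, 3, 4, 0, 4, 3, 0, 3])) (.node (.leaf [5, 2, 3, 2, 3, 2, 5, 2]) (.leaf [2, 0, 2, 0]))) (.node (.node (.leaf [0, 4, 3, 2, 3, 0, 2, 4]) (.leaf [4, 3, 0, 3, 0, 5, 4, 5, 4, 5, 4, 0, 3, 2, 5, 4, 5, 4, 5, 4, 0, 3, 5, 4, 5, 4, 5])) (.node (.leaf [4, 0, 4, 2, 4, 0, 4, 2]) (.leaf [2, 0, 2, 0])))))) (.node (.node (.node (.node (.node (.leaf [0, 2, 0, 1, 0, 1, 0, 2]) (.leaf [1, 0, 1, 2, 3, 2, 3, 0])) (.node (.leaf [5, 3, 0, 2, 0, 3, 5, 2]) (.leaf [2, 0, 2, 0]))) (.node (.node (.leaf [4, 0, 2, 0, 4, 2, 0]) (.leaf [4, 0, 1, 4, 1, 0, 4, 1])) (.node (.leaf [5, 3, 2, 3, 5, 2]) (.leaf [2, 0, 2, 0])))) (.node (.node (.node (.leaf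 [1, 2, 0, 2, 1, 4, 0, 4]) (.leaf [1, 0, 1, 0, 4, 0, 4, 0])) (.node (.leaf [3, 2, 3, 2, 0, 1, 0, 1]) (.leaf [2, 0, 2, 0]))) (.node (.node (.leaf [2, 3, 0, 3, 0, 2, 3, 0]) (.leaf [3, 5, 3, 1, 3, 5, 3, 1])) (.node (.leaf [4, 2, 4, 2, 4, 2, 4, 2]) (.leaf [2, 0, 2, 0]))))) (.node (.node (.node (.node (.leaf [0, 2, 4, 1, 0, 1, 4, 2]) (.leaf [3, 2, 3, 5, 3, 2, 3, 5])) (.node (.leaf [0, 2, 1, 2, 0, 1, 2, 1]) (.leaf [2, 0, 2, 0]))) (.node (.node (.leaf [4, 0, 2, 3, 2, 3, 4, 0]) (.leaf [3, 0, 3, 1, 0, 1, 3, 0])) (.node (.leaf [5, 1, 5, 3, 1, 3, 1, 2]) (.leaf [2, 0, 2, 0])))) (.node (.node (.node (.leaf [5, 0, 5, 0, 2]) (.leaf [3, 4, 0, 1, 3, 1, 3, 4])) (.node (.leaf [0, 5, 2, 5, 2, 1, 0, 1]) (.leaf [2, 0, 2, 0]))) (.node (.node (.leaf [0, 1, 3, 2, 3, 0, 2, 1]) (.leaf [0, 4, 5, 4, 5, 4, 5, 0, 3, 0, 3, 4, 5, 4, 5, 4, 5, 3, 0, 4, 5, 4, 5, 4, 5, 2, 3])) (.node (.leaf [3, 2, 3, 2, 4,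 0, 4, 0]) (.leaf [2, 0, 2, 0])))))))) (.node (.node (.node (.node (.node (.node (.node (.leaf [5, 2, 5, 2, 0, 2, 0, 2]) (.leaf [4, 0, 3, 2, 3, 4, 2])) (.node (.leaf [0, 3, 0, 2, 3, 0, 3, 2]) (.leaf [5, 4, 5, 4, 5, 3, 0, 4, 5, 4, 5, 4, 5, 2, 3, 0, 4, 5, 4, 5, 4, 5, 0, 3, 0, 3, 4]))) (.node (.node (.leaf [0, 2, 0, 5, 3, 2, 3, 5]) (.leaf [4, 1, 4, 0, 1, 4, 0, 1])) (.node (.leaf [5, 1, 0, 1, 2, 5, 0]) (.leaf [2, 0, 2, 0])))) (.node (.node (.node (.leaf [3, 0, 3, 2, 0, 2, 3, 0]) (.leaf [1, 0, 1, 2, 1, 0, 1, 2])) (.node (.leaf [0, 1, 0, 1, 5, 2, 5, 2]) (.leaf [2, 0, 2, 0]))) (.node (.node (.leaf [2, 3, 4, 0, 2, 4, 3]) (.leaf [3, 4, 1, 0, 3, 1, 3, 4])) (.node (.leaf [1, 5, 2, 1, 3, 1, 3, 5]) (.leaf [2, 0, 2, 0]))))) (.node (.node (.node (.node (.leaf [0, 5, 2, 0, 2, 5, 2]) (.leaf [3, 0, 5, 0, 5, 3, 2])) (.node (.leaf [2, 1, 0, 2, 1, 0, 2, 1]) (.leaf [2, 0, 2, 0]))) (.node (.node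 (.leaf [2, 4, 2, 0, 4]) (.leaf [1, 0, 4, 1, 4, 1, 4, 0])) (.node (.leaf [5, 3, 5, 3, 2, 5, 3]) (.leaf [2, 0, 2, 0])))) (.node (.node (.node (.leaf [1, 0, 1, 2, 0, 5, 2, 5]) (.leaf [4, 3, 0, 3, 0, 3, 4, 0])) (.node (.leaf [5, 2, 5, 2]) (.leaf [2, 0, 2, 0]))) (.node (.node (.leaf [4, 0, 4, 2, 0, 3, 2, 3]) (.leaf [4, 5, 4, 5, 4, 3, 0, 3, 0, 5, 4, 5, 4, 5, 4, 0, 3, 2, 5, 4, 5, 4, 5, 4, 0, 3, 5])) (.node (.leaf [2, 4, 2, 1, 0, 1, 4]) (.leaf [2, 0, 2, 0])))))) (.node (.node (.node (.node (.node (.leaf [0, 4, 0, 2, 0, 2, 0, 4]) (.leaf [3, 2, 3, 0, 1, 0, 1, 2])) (.node (.leaf [0, 3, 5, 2, 5, 3, 0, 2]) (.leaf [2, 0, 2, 0]))) (.node (.node (.leaf [0, 4, 2, 0, 4, 0, 2]) (.leaf [4, 0, 4, 1, 4, 0, 4, 1])) (.node (.leaf [3, 0, 5, 2, 5, 0, 3, 2]) (.leaf [2, 0, 2, 0])))) (.node (.node (.node (.leaf [1, 4, 0, 4, 1, 2, 0, 2]) (.leaf [4, 0, 4, 0, 1, 0, 1, 0])) (.node (.leaf [0, 1, 0, 1, 3,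 2, 3, 2]) (.leaf [2, 0, 2, 0]))) (.node (.node (.leaf [0, 2, 3, 0, 2, 3, 0, 3]) (.leaf [1, 0, 1, 4, 1, 0, 1, 4])) (.node (.leaf [1, 5, 2, 1, 5, 3, 1, 3]) (.leaf [2, 0, 2, 0]))))) (.node (.node (.node (.node (.leaf [4, 0, 4, 2, 0, 2]) (.leaf [3, 2, 3, 0, 3, 2, 3, 0])) (.node (.leaf [0, 1, 2, 1, 0, 2, 1, 2]) (.leaf [2, 0, 2, 0]))) (.node (.node (.leaf [2, 3, 4, 0, 4, 0, 2, 3]) (.leaf [0, 3, 4, 3, 1, 3, 1, 4])) (.node (.leaf [2, 1, 5, 2, 5, 1, 2, 1]) (.leaf [2, 0, 2, 0])))) (.node (.node (.node (.leaf [0, 5, 0, 5, 2]) (.leaf [3, 1, 3, 4, 3, 4, 0, 1])) (.node (.leaf [1, 2, 5, 2, 5, 0, 1, 0]) (.leaf [2, 0, 2, 0]))) (.node (.node (.leaf [1, 0, 1, 2, 0, 3, 2, 3]) (.leaf [3, 2, 5, 4, 5, 4, 5, 4, 0, 3, 5, 4, 5, 4, 5, 4, 3, 0, 3, 0, 5, 4, 5, 4, 5, 4, 0])) (.node (.leaf [4, 0, 4, 0, 3, 2, 3, 2]) (.leaf [2, 0, 2, 0]))))))) (.node (.node (.node (.node (.node (.node (.leaf [3, 2, 3,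 2, 0, 2, 0, 2]) (.leaf [2, 3, 0, 4, 2, 4, 3])) (.node (.leaf [0, 3, 0, 3, 0, 2, 3, 2]) (.leaf [5, 4, 5, 4, 5, 2, 3, 0, 4, 5, 4, 5, 4, 5, 0, 3, 0, 3, 4, 5, 4, 5, 4, 5, 3, 0, 4]))) (.node (.node (.leaf [5, 1, 0, 1, 5, 0, 2]) (.leaf [4, 1, 0, 1, 4, 0])) (.node (.leaf [0, 5, 2, 1, 0, 1, 5]) (.leaf [2, 0, 2, 0])))) (.node (.node (.node (.leaf [0, 2, 1, 0, 1, 2]) (.leaf [3, 5, 3, 5, 3, 0, 5, 0])) (.node (.leaf [2, 5, 1, 0, 1, 0, 2, 5]) (.leaf [2, 0, 2, 0]))) (.node (.node (.leaf [2, 0, 3, 0, 3, 2, 0, 3]) (.leaf [1, 3, 0, 1, 4, 3, 4, 3])) (.node (.leaf [3, 5, 1, 2, 5, 1, 3, 1]) (.leaf [2, 0, 2, 0]))))) (.node (.node (.node (.node (.leaf [2, 5, 0, 2, 5, 2, 0]) (.leaf [0, 5, 0, 3, 2, 3, 5])) (.node (.leaf [0, 1, 2, 1, 2, 1, 0, 2]) (.leaf [2, 0, 2, 0]))) (.node (.node (.leaf [0, 4, 0, 4, 3, 2, 3, 2]) (.leaf [3, 0, 4, 1, 3, 1, 3, 4])) (.node (.leaf [3, 5, 2, 3, 5, 3, 5]) (.leaf [2,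 0, 2, 0])))) (.node (.node (.node (.leaf [5, 0, 2, 1, 0, 1, 5, 2]) (.leaf [4, 3, 4, 3, 1, 3, 1, 0])) (.node (.leaf [3, 2, 5, 2, 5, 2, 3, 2]) (.leaf [2, 0, 2, 0]))) (.node (.node (.leaf [3, 0, 2, 4, 0, 4, 3, 2]) (.leaf [0, 5, 4, 5, 4, 5, 4, 0, 3, 2, 5, 4, 5, 4, 5, 4, 0, 3, 5, 4, 5, 4, 5, 4, 3, 0, 3])) (.node (.leaf [4, 0, 4, 2, 1, 0, 1, 2]) (.leaf [2, 0, 2, 0])))))) (.node (.node (.node (.node (.node (.leaf [0, 1, 0, 2, 0, 2, 0, 1]) (.leaf [0, 1, 0, 3, 2, 3, 2, 1])) (.node (.leaf [0, 1, 2, 0, 1, 2, 1, 2]) (.leaf [2, 0, 2, 0]))) (.node (.node (.leaf [0, 2, 4, 0, 2, 0, 4]) (.leaf [1, 0, 4, 1, 4, 0, 1, 4])) (.node (.leaf [5, 2, 5, 3, 2, 3]) (.leaf [2, 0, 2, 0])))) (.node (.node (.node (.leaf [2, 5, 0, 2, 0, 5]) (.leaf [4, 0, 1, 4, 1, 4, 1, 0])) (.node (.leaf [2, 3, 1, 0, 1, 0, 2, 3]) (.leaf [2, 0, 2, 0]))) (.node (.node (.leaf [2, 3, 0, 2, 0, 3]) (.leaf [4, 5, 4, 5, 4, 0, 3,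 5, 4, 5, 4, 5, 4, 3, 0, 3, 0, 5, 4, 5, 4, 5, 4, 0, 3, 2, 5])) (.node (.leaf [4, 1, 0, 1, 2, 4, 2]) (.leaf [2, 0, 2, 0]))))) (.node (.node (.node (.node (.leaf [0, 1, 4, 2, 0, 2, 4, 1]) (.leaf [2, 1, 2, 1, 3, 2, 3, 1])) (.node (.leaf [0, 1, 0, 2, 1, 2, 1, 2]) (.leaf [2, 0, 2, 0]))) (.node (.node (.leaf [0, 4, 3, 2, 3, 4, 2]) (.leaf [0, 1, 3, 0, 3, 0, 3, 1])) (.node (.leaf [1, 3, 1, 2, 5, 1, 5, 3]) (.leaf [2, 0, 2, 0])))) (.node (.node (.node (.leaf [2, 5, 0, 5, 0]) (.leaf [4, 1, 0, 4, 1, 4, 1, 0])) (.node (.leaf [2, 1, 0, 1, 0, 5, 2, 5]) (.leaf [2, 0, 2, 0]))) (.node (.node (.leaf [3, 0, 2, 1, 0, 1, 3, 2]) (.leaf [5, 4, 5, 0, 3, 0, 3, 4, 5, 4, 5, 4, 5, 3, 0, 4, 5, 4, 5, 4, 5, 2, 3, 0, 4, 5, 4])) (.node (.leaf [2, 3, 0, 4, 0, 4, 2, 3]) (.leaf [2, 0, 2, 0])))))))))))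

def hints_0 : List (ℕ × ℕ × Bool) := [
  (0, 0, false), (53, 2, true), (26, 6, true), (83, 7, true), (17, 0, false), (70, 2, false), (40, 0, false), (0, 0, false),
  (8, 6, false), (60, 4, false), (34, 2, false), (0, 0, false), (22, 2, false), (77, 6, false), (47, 6, false), (0, 0, false),
  (4, 6, false), (56, 2, true), (31, 2, false), (0, 0, false), (19, 3, true), (74, 0, false), (44, 0, false), (0, 0, false),
  (13, 4, false), (67, 2, false), (36, 2, true), (0, 0, false), (24, 4, false), (83, 2, false), (50, 4, false), (0, 0, false),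
  (2, 6, false), (54, 3, true), (29, 2, false), (83, 23, true), (18, 1, true), (71, 2, false), (41, 5, true), (0, 0, false),
  (11, 2, false), (64, 4, false), (35, 2, true), (0, 0, false), (23, 4, false), (78, 6, true), (48, 6, false), (0, 0, false),
  (6, 0, false), (57, 3, true), (32, 2, false), (0, 0, false), (21, 2, false), (75, 0, true), (45, 5, true), (0, 0, false),
  (14, 6, true), (69, 2, false), (39, 0, false), (0, 0, false), (25, 6, true), (83, 18, false), (52, 2, false), (0, 0, false),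
  (1, 6, false), (54, 2, false), (28, 2, false), (83, 15, true), (18, 0, false), (70, 2, true), (41, 4, false), (0, 0, false),
  (9, 6, false), (62, 2, false), (35, 2, false), (0, 0, false), (22, 3, true), (78, 6, false), (47, 6, true), (0, 0, false),
  (5, 6, false), (57, 2, false), (31, 2, true), (0, 0, false), (20, 4, false), (75, 0, false), (45, 4, false), (0, 0, false),
  (14, 6, false), (68, 2, false), (38, 0, false), (0, 0, false), (25, 6, false), (83, 10, false), (50, 5, true), (0, 0, false),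
  (3, 6, false), (56, 2, false), (30, 2, false), (0, 0, false), (19, 2, false), (73, 0, false), (42, 6, false), (0, 0, false),
  (12, 4, false), (66, 2, false), (36, 2, false), (0, 0, false), (23, 4, true), (81, 0, false), (48, 6, true), (0, 0, false),
  (7, 4, false), (59, 0, false), (33, 2, false), (0, 0, false), (21, 2, true), (76, 0, false), (46, 6, false), (0, 0, false),
  (16, 2, false), (69, 2, true), (39, 0, true), (0, 0, false), (26, 6, false), (83, 26, false), (53, 2, false), (0, 0, false),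
  (1, 2, false), (53, 6, true), (27, 2, false), (83, 11, true), (17, 4, false), (70, 6, false), (41, 0, false), (0, 0, false),
  (9, 2, false), (61, 0, false), (34, 6, false), (0, 0, false), (22, 6, false), (78, 2, false), (47, 2, true), (0, 0, false),
  (5, 2, false), (56, 6, true), (31, 6, false), (0, 0, false), (20, 0, false), (74, 4, false), (45, 0, false), (0, 0, false),
  (14, 2, false), (67, 6, false), (36, 6, true), (0, 0, false), (25, 2, false), (83, 6, false), (50, 1, true), (0, 0, false),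
  (3, 2, false), (55, 0, false), (29, 6, false), (84, 0, false), (18, 5, true), (72, 0, false), (42, 2, false), (0, 0, false),
  (12, 0, false), (65, 0, false), (35, 6, true), (0, 0, false), (23, 0, true), (80, 0, false), (48, 2, true), (0, 0, false),
  (7, 0, false), (58, 0, false), (32, 6, false), (0, 0, false), (21, 6, false), (75, 4, true), (46, 2, false), (0, 0, false),
  (15, 2, false), (69, 6, false), (39, 4, false), (0, 0, false), (26, 2, false), (83, 22, false), (52, 6, false), (0, 0, false),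
  (2, 2, false), (54, 6, false), (28, 6, false), (83, 19, true), (18, 4, false), (70, 6, true), (41, 1, true), (0, 0, false),
  (10, 2, false), (64, 0, false), (35, 6, false), (0, 0, false), (23, 0, false), (78, 2, true), (48, 2, false), (0, 0, false),
  (5, 3, true), (57, 6, false), (31, 6, true), (0, 0, false), (20, 3, true), (75, 4, false), (45, 1, true), (0, 0, false),
  (14, 2, true), (68, 6, false), (38, 4, false), (0, 0, false), (25, 2, true), (83, 14, false), (51, 2, false), (0, 0, false),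
  (4, 2, false), (56, 6, false), (30, 6, false), (0, 0, false), (19, 6, false), (73, 4, false), (43, 2, false), (0, 0, false),
  (13, 0, false), (66, 6, false), (36, 6, false), (0, 0, false), (24, 0, false), (82, 0, false), (50, 0, false), (0, 0, false),
  (8, 2, false), (60, 0, false), (33, 6, false), (0, 0, false), (21, 6, true), (77, 2, false), (47, 2, false), (0, 0, false),
  (16, 1, true), (69, 6, true), (39, 4, true), (0, 0, false), (26, 2, true), (83, 3, true), (53, 6, false), (0, 0, false),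
  (1, 0, false), (53, 4, true), (27, 0, false), (83, 9, true), (17, 2, false), (70, 4, false), (40, 2, false), (0, 0, false),
  (9, 0, false), (60, 6, false), (34, 4, false), (0, 0, false), (22, 4, false), (78, 0, false), (47, 0, true), (0, 0, false),
  (5, 0, false), (56, 4, true), (31, 4, false), (0, 0, false), (19, 5, true), (74, 2, false), (44, 2, false), (0, 0, false),
  (14, 0, false), (67, 4, false), (36, 4, true), (0, 0, false), (25, 0, false), (83, 4, false), (50, 6, false), (0, 0, false),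
  (3, 0, false), (54, 5, true), (29, 4, false), (83, 25, true), (18, 3, true), (71, 4, false), (42, 0, false), (0, 0, false),
  (11, 4, false), (64, 6, false), (35, 4, true), (0, 0, false), (23, 6, false), (79, 0, false), (48, 0, true), (0, 0, false),
  (6, 2, false), (57, 5, true), (32, 4, false), (0, 0, false), (21, 4, false), (75, 2, true), (46, 0, false), (0, 0, false),
  (15, 0, false), (69, 4, false), (39, 2, false), (0, 0, false), (26, 0, false), (83, 20, false), (52, 4, false), (0, 0, false),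
  (2, 0, false), (54, 4, false), (28, 4, false), (83, 17, true), (18, 2, false), (70, 4, true), (41, 6, false), (0, 0, false),
  (10, 0, false), (63, 0, false), (35, 4, false), (0, 0, false), (22, 5, true), (78, 0, true), (48, 0, false), (0, 0, false),
  (5, 1, true), (57, 4, false), (31, 4, true), (0, 0, false), (20, 1, true), (75, 2, false), (45, 6, false), (0, 0, false),
  (14, 0, true), (68, 4, false), (38, 2, false), (0, 0, false), (25, 0, true), (83, 12, false), (51, 0, false), (0, 0, false),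
  (4, 0, false), (56, 4, false), (30, 4, false), (0, 0, false), (19, 4, false), (73, 2, false), (43, 0, false), (0, 0, false),
  (12, 6, false), (66, 4, false), (36, 4, false), (0, 0, false), (23, 6, true), (81, 2, false), (49, 0, false), (0, 0, false),
  (8, 0, false), (59, 2, false), (33, 4, false), (0, 0, false), (21, 4, true), (77, 0, false), (47, 0, false), (0, 0, false),
  (16, 4, false), (69, 4, true), (39, 2, true), (0, 0, false), (26, 0, true), (83, 1, true), (53, 4, false), (0, 0, false),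
  (1, 4, false), (54, 0, false), (28, 0, false), (83, 13, true), (17, 6, false), (70, 0, true), (41, 2, false), (0, 0, false),
  (9, 4, false), (62, 0, false), (35, 0, false), (0, 0, false), (22, 1, true), (78, 4, false), (47, 4, true), (0, 0, false)]
def hints_1 : List (ℕ × ℕ × Bool) := [
  (5, 4, false), (57, 0, false), (31, 0, true), (0, 0, false), (20, 2, false), (74, 6, false), (45, 2, false), (0, 0, false),
  (14, 4, false), (68, 0, false), (37, 0, false), (0, 0, false), (25, 4, false), (83, 8, false), (50, 3, true), (0, 0, false),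
  (3, 4, false), (56, 0, false), (30, 0, false), (0, 0, false), (19, 0, false), (72, 2, false), (42, 4, false), (0, 0, false),
  (12, 2, false), (66, 0, false), (36, 0, false), (0, 0, false), (23, 2, true), (80, 2, false), (48, 4, true), (0, 0, false),
  (7, 2, false), (58, 2, false), (33, 0, false), (0, 0, false), (21, 0, true), (75, 6, true), (46, 4, false), (0, 0, false),
  (16, 0, false), (69, 0, true), (39, 6, false), (0, 0, false), (26, 4, false), (83, 24, false), (53, 0, false), (0, 0, false),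
  (2, 4, false), (54, 1, true), (29, 0, false), (83, 21, true), (18, 6, false), (71, 0, false), (41, 3, true), (0, 0, false),
  (11, 0, false), (64, 2, false), (35, 0, true), (0, 0, false), (23, 2, false), (78, 4, true), (48, 4, false), (0, 0, false),
  (5, 5, true), (57, 1, true), (32, 0, false), (0, 0, false), (21, 0, false), (75, 6, false), (45, 3, true), (0, 0, false),
  (14, 4, true), (69, 0, false), (38, 6, false), (0, 0, false), (25, 4, true), (83, 16, false), (52, 0, false), (0, 0, false),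
  (4, 4, false), (56, 0, true), (31, 0, false), (0, 0, false), (19, 1, true), (73, 6, false), (43, 4, false), (0, 0, false),
  (13, 2, false), (67, 0, false), (36, 0, true), (0, 0, false), (24, 2, false), (83, 0, false), (50, 2, false), (0, 0, false),
  (8, 4, false), (60, 2, false), (34, 0, false), (0, 0, false), (22, 0, false), (77, 4, false), (47, 4, false), (0, 0, false),
  (16, 3, true), (70, 0, false), (39, 6, true), (0, 0, false), (26, 4, true), (83, 5, true), (53, 0, true), (0, 0, false),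
  (0, 1, false), (53, 3, true), (26, 7, true), (83, 8, true), (17, 1, false), (70, 3, false), (40, 1, false), (0, 0, false),
  (8, 7, false), (60, 5, false), (34, 3, false), (0, 0, false), (22, 3, false), (77, 7, false), (47, 7, false), (0, 0, false),
  (4, 7, false), (56, 3, true), (31, 3, false), (0, 0, false), (19, 4, true), (74, 1, false), (44, 1, false), (0, 0, false),
  (13, 5, false), (67, 3, false), (36, 3, true), (0, 0, false), (24, 5, false), (83, 3, false), (50, 5, false), (0, 0, false),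
  (2, 7, false), (54, 4, true), (29, 3, false), (83, 24, true), (18, 2, true), (71, 3, false), (41, 6, true), (0, 0, false),
  (11, 3, false), (64, 5, false), (35, 3, true), (0, 0, false), (23, 5, false), (78, 7, true), (48, 7, false), (0, 0, false),
  (6, 1, false), (57, 4, true), (32, 3, false), (0, 0, false), (21, 3, false), (75, 1, true), (45, 6, true), (0, 0, false),
  (14, 7, true), (69, 3, false), (39, 1, false), (0, 0, false), (25, 7, true), (83, 19, false), (52, 3, false), (0, 0, false),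
  (1, 7, false), (54, 3, false), (28, 3, false), (83, 16, true), (18, 1, false), (70, 3, true), (41, 5, false), (0, 0, false),
  (9, 7, false), (62, 3, false), (35, 3, false), (0, 0, false), (22, 4, true), (78, 7, false), (47, 7, true), (0, 0, false),
  (5, 0, true), (57, 3, false), (31, 3, true), (0, 0, false), (20, 0, true), (75, 1, false), (45, 5, false), (0, 0, false),
  (14, 7, false), (68, 3, false), (38, 1, false), (0, 0, false), (25, 7, false), (83, 11, false), (50, 6, true), (0, 0, false),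
  (3, 7, false), (56, 3, false), (30, 3, false), (0, 0, false), (19, 3, false), (73, 1, false), (42, 7, false), (0, 0, false),
  (12, 5, false), (66, 3, false), (36, 3, false), (0, 0, false), (23, 5, true), (81, 1, false), (48, 7, true), (0, 0, false),
  (7, 5, false), (59, 1, false), (33, 3, false), (0, 0, false), (21, 3, true), (76, 1, false), (46, 7, false), (0, 0, false),
  (16, 3, false), (69, 3, true), (39, 1, true), (0, 0, false), (26, 7, false), (83, 0, true), (53, 3, false), (0, 0, false),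
  (1, 3, false), (53, 7, true), (27, 3, false), (83, 12, true), (17, 5, false), (70, 7, false), (41, 1, false), (0, 0, false),
  (9, 3, false), (61, 1, false), (34, 7, false), (0, 0, false), (22, 0, true), (78, 3, false), (47, 3, true), (0, 0, false),
  (5, 3, false), (56, 7, true), (31, 7, false), (0, 0, false), (20, 1, false), (74, 5, false), (45, 1, false), (0, 0, false),
  (14, 3, false), (67, 7, false), (36, 7, true), (0, 0, false), (25, 3, false), (83, 7, false), (50, 2, true), (0, 0, false),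
  (3, 3, false), (55, 1, false), (29, 7, false), (84, 1, false), (18, 6, true), (72, 1, false), (42, 3, false), (0, 0, false),
  (12, 1, false), (65, 1, false), (35, 7, true), (0, 0, false), (23, 1, true), (80, 1, false), (48, 3, true), (0, 0, false),
  (7, 1, false), (58, 1, false), (32, 7, false), (0, 0, false), (21, 7, false), (75, 5, true), (46, 3, false), (0, 0, false),
  (15, 3, false), (69, 7, false), (39, 5, false), (0, 0, false), (26, 3, false), (83, 23, false), (52, 7, false), (0, 0, false),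
  (2, 3, false), (54, 0, true), (28, 7, false), (83, 20, true), (18, 5, false), (70, 7, true), (41, 2, true), (0, 0, false),
  (10, 3, false), (64, 1, false), (35, 7, false), (0, 0, false), (23, 1, false), (78, 3, true), (48, 3, false), (0, 0, false),
  (5, 4, true), (57, 0, true), (31, 7, true), (0, 0, false), (20, 4, true), (75, 5, false), (45, 2, true), (0, 0, false),
  (14, 3, true), (68, 7, false), (38, 5, false), (0, 0, false), (25, 3, true), (83, 15, false), (51, 3, false), (0, 0, false),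
  (4, 3, false), (56, 7, false), (30, 7, false), (0, 0, false), (19, 0, true), (73, 5, false), (43, 3, false), (0, 0, false),
  (13, 1, false), (66, 7, false), (36, 7, false), (0, 0, false), (24, 1, false), (82, 1, false), (50, 1, false), (0, 0, false),
  (8, 3, false), (60, 1, false), (33, 7, false), (0, 0, false), (21, 7, true), (77, 3, false), (47, 3, false), (0, 0, false),
  (16, 2, true), (69, 7, true), (39, 5, true), (0, 0, false), (26, 3, true), (83, 4, true), (53, 7, false), (0, 0, false),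
  (1, 1, false), (53, 5, true), (27, 1, false), (83, 10, true), (17, 3, false), (70, 5, false), (40, 3, false), (0, 0, false),
  (9, 1, false), (60, 7, false), (34, 5, false), (0, 0, false), (22, 5, false), (78, 1, false), (47, 1, true), (0, 0, false),
  (5, 1, false), (56, 5, true), (31, 5, false), (0, 0, false), (19, 6, true), (74, 3, false), (44, 3, false), (0, 0, false),
  (14, 1, false), (67, 5, false), (36, 5, true), (0, 0, false), (25, 1, false), (83, 5, false), (50, 0, true), (0, 0, false)]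
def hints_2 : List (ℕ × ℕ × Bool) := [
  (3, 1, false), (54, 6, true), (29, 5, false), (83, 26, true), (18, 4, true), (71, 5, false), (42, 1, false), (0, 0, false),
  (11, 5, false), (64, 7, false), (35, 5, true), (0, 0, false), (23, 7, false), (79, 1, false), (48, 1, true), (0, 0, false),
  (6, 3, false), (57, 6, true), (32, 5, false), (0, 0, false), (21, 5, false), (75, 3, true), (46, 1, false), (0, 0, false),
  (15, 1, false), (69, 5, false), (39, 3, false), (0, 0, false), (26, 1, false), (83, 21, false), (52, 5, false), (0, 0, false),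
  (2, 1, false), (54, 5, false), (28, 5, false), (83, 18, true), (18, 3, false), (70, 5, true), (41, 0, true), (0, 0, false),
  (10, 1, false), (63, 1, false), (35, 5, false), (0, 0, false), (22, 6, true), (78, 1, true), (48, 1, false), (0, 0, false),
  (5, 2, true), (57, 5, false), (31, 5, true), (0, 0, false), (20, 2, true), (75, 3, false), (45, 0, true), (0, 0, false),
  (14, 1, true), (68, 5, false), (38, 3, false), (0, 0, false), (25, 1, true), (83, 13, false), (51, 1, false), (0, 0, false),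
  (4, 1, false), (56, 5, false), (30, 5, false), (0, 0, false), (19, 5, false), (73, 3, false), (43, 1, false), (0, 0, false),
  (12, 7, false), (66, 5, false), (36, 5, false), (0, 0, false), (23, 7, true), (81, 3, false), (49, 1, false), (0, 0, false),
  (8, 1, false), (59, 3, false), (33, 5, false), (0, 0, false), (21, 5, true), (77, 1, false), (47, 1, false), (0, 0, false),
  (16, 0, true), (69, 5, true), (39, 3, true), (0, 0, false), (26, 1, true), (83, 2, true), (53, 5, false), (0, 0, false),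
  (1, 5, false), (54, 1, false), (28, 1, false), (83, 14, true), (17, 7, false), (70, 1, true), (41, 3, false), (0, 0, false),
  (9, 5, false), (62, 1, false), (35, 1, false), (0, 0, false), (22, 2, true), (78, 5, false), (47, 5, true), (0, 0, false),
  (5, 5, false), (57, 1, false), (31, 1, true), (0, 0, false), (20, 3, false), (74, 7, false), (45, 3, false), (0, 0, false),
  (14, 5, false), (68, 1, false), (37, 1, false), (0, 0, false), (25, 5, false), (83, 9, false), (50, 4, true), (0, 0, false),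
  (3, 5, false), (56, 1, false), (30, 1, false), (0, 0, false), (19, 1, false), (72, 3, false), (42, 5, false), (0, 0, false),
  (12, 3, false), (66, 1, false), (36, 1, false), (0, 0, false), (23, 3, true), (80, 3, false), (48, 5, true), (0, 0, false),
  (7, 3, false), (58, 3, false), (33, 1, false), (0, 0, false), (21, 1, true), (75, 7, true), (46, 5, false), (0, 0, false),
  (16, 1, false), (69, 1, true), (39, 7, false), (0, 0, false), (26, 5, false), (83, 25, false), (53, 1, false), (0, 0, false),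
  (2, 5, false), (54, 2, true), (29, 1, false), (83, 22, true), (18, 0, true), (71, 1, false), (41, 4, true), (0, 0, false),
  (11, 1, false), (64, 3, false), (35, 1, true), (0, 0, false), (23, 3, false), (78, 5, true), (48, 5, false), (0, 0, false),
  (5, 6, true), (57, 2, true), (32, 1, false), (0, 0, false), (21, 1, false), (75, 7, false), (45, 4, true), (0, 0, false),
  (14, 5, true), (69, 1, false), (38, 7, false), (0, 0, false), (25, 5, true), (83, 17, false), (52, 1, false), (0, 0, false),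
  (4, 5, false), (56, 1, true), (31, 1, false), (0, 0, false), (19, 2, true), (73, 7, false), (43, 5, false), (0, 0, false),
  (13, 3, false), (67, 1, false), (36, 1, true), (0, 0, false), (24, 3, false), (83, 1, false), (50, 3, false), (0, 0, false),
  (8, 5, false), (60, 3, false), (34, 1, false), (0, 0, false), (22, 1, false), (77, 5, false), (47, 5, false), (0, 0, false),
  (16, 4, true), (70, 1, false), (39, 7, true), (0, 0, false), (26, 5, true), (83, 6, true), (53, 1, true), (0, 0, false)]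
def hints : List (ℕ × ℕ × Bool) :=
  (hints_0 ++ (hints_1 ++ hints_2))

/-- subgroup words -/
def sw : List (List ℕ) := [[2], [0], [5], [3], [1]]

def subs : List (List ℕ) := [[2], [0], [5], [3], [1]]

/-- parameters -/
def P : Params := ⟨tab, 6, rots, subs⟩

def tree_0 : List ℕ := [
  4, 7, 11, 14, 17, 29, 21, 33,
  39, 22, 34, 40, 42, 79, 54, 46,
  82, 88, 105, 52, 114, 61, 109, 121,
  103, 97, 115, 127, 67, 174, 65, 101,
  107, 71, 77, 119, 211, 113, 224, 134,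
  140, 146, 164, 253, 158, 270, 182, 176,
  137, 245, 275, 301, 161, 314, 143, 251,
  257, 149, 293, 343, 179, 362, 167, 380,
  378, 392, 189, 207, 315, 327, 357, 369,
  387, 381, 321, 309, 333, 339, 303, 297,
  219, 231, 195, 201, 190, 298, 304, 196,
  202, 316, 537, 310, 546, 208, 564, 370,
  567, 358, 576, 213, 399, 393, 375, 363,
  345, 351, 225, 644, 226, 232, 334, 352,
  402, 679, 408, 691, 600, 420, 468, 456,
  711, 474, 480, 498, 504, 432, 713, 486,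
  749, 618, 765, 630, 717, 648, 642, 533,
  816, 622, 830, 784, 834, 406, 682, 742,
  861, 484, 870, 412, 694, 760, 897, 436,
  906, 418, 688, 712, 424, 724, 939, 460,
  954, 502, 972, 974, 984, 511, 529, 865,
  877, 979, 973, 931, 925, 859, 853, 998,
  1010, 1060, 1071, 1040, 1016, 871, 961, 883,
  949, 1052, 1046, 1119, 1087, 517, 523, 1148,
  1142, 1144, 541, 1028, 1090, 1100, 1132, 1166,
  1172, 535, 1069, 967, 1226, 955, 1230, 985,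
  991, 1183, 1177, 943, 937, 1274, 1284, 1207,
  1296, 1298, 1304]
def tree : List ℕ :=
  tree_0

def ph0_0 : List ℕ := [
  2048, 2049, 2050, 2051, 2052, 4186, 4584, 8803,
  4732, 8838, 16384, 20489, 20523, 12399, 32901, 12437,
  16543, 16679, 8913, 16400, 33197, 25032, 12744, 29403,
  57425, 65626, 57488, 57482, 53491, 37150, 61732, 28980,
  61775, 29127, 66024, 82521, 107107, 41596, 78459, 66161,
  103048, 107142, 98946, 45744, 41641, 58046, 53946, 53703,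
  111224, 86711, 82600, 82120, 73940, 110841, 156051, 180800,
  98936, 111216, 115383, 123601, 192695, 180422, 176320, 196815,
  184530, 196828, 123133, 119057, 188693, 176532, 250259, 123326,
  233938, 246315, 180780, 426577, 123515, 49784, 49352, 45268,
  41172, 143643, 139667, 410029, 410027, 82377, 160217, 139824,
  193089, 479822, 90816, 163840, 200713, 200747, 127087, 327813,
  127125, 164135, 90720, 90748, 163850, 172100, 168134, 164042,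
  172245, 188651, 168189, 229659, 328109, 324017, 319909, 242120,
  127432, 139709, 201149, 209362, 234032, 229931, 279259, 328411,
  504148, 278983, 332222, 668248, 590425, 692835, 590460, 655985,
  352881, 688776, 692870, 701058, 348848, 500410, 131786, 369352,
  283257, 799352, 213615, 369328, 361129, 377528, 684736, 557199,
  684685, 720950, 684200, 831970, 729581, 680429, 688753, 725008,
  725006, 692296, 803006, 741591, 807145, 696845, 799408, 823296,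
  823306, 819233, 376863, 221244, 893004, 823460, 782945, 799370,
  356994, 790556, 352413, 356509, 348344, 356570, 790825, 786727,
  786921, 324269, 500052, 311639, 487823, 319944, 504303, 655961,
  631409, 508623, 758485, 758481, 749640, 811215, 860409, 852544,
  856145, 852054, 676139, 885444, 892944, 487880, 278853, 475719,
  434875, 315460, 434384, 540893, 540897, 475420, 434766, 545358,
  540680, 238299, 229409, 262220, 270448, 413951, 303350, 250151,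
  254253, 254249, 192946, 418245, 459231, 426557, 426151, 577704,
  405690, 565426, 516306, 291083, 413980, 430531, 532966, 401927,
  615025, 606896, 574152, 471061, 606365, 618680, 479849, 623213,
  291506, 615097, 626689, 332459, 524351, 336222, 528773, 283068,
  389800, 397835, 389653, 389744, 410285, 152266, 159744, 159754,
  446635, 549082, 528593, 553219, 553233, 155943, 160033, 438867,
  447100, 450759, 438905, 549164, 442660, 442802, 397947, 397336,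
  406121, 299636, 303396, 197064, 303561, 299452, 185051, 221332,
  102726, 131507, 217544, 287168, 197243, 193136, 287170, 295385,
  483873, 275008, 483911, 643673, 868963, 651899, 873096, 868998,
  496317, 495617, 491530, 495641, 467017, 847957, 659617, 651421,
  659641, 630965, 844381, 672363, 844460, 847888, 663751, 635102,
  635104, 704764, 880940, 872759, 705162, 717443, 586370, 705192,
  709304, 733401, 737499, 737503, 717036, 876795, 737806, 762387,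
  717434, 750205, 811211, 757951, 770536, 819727, 500320, 324197,
  754310, 758416, 783025, 778926, 598724, 598216, 590036, 581844,
  774720, 774144, 774154, 811031, 770081, 762116, 790796, 762431,
  860792, 889461, 897040, 876746, 856277, 889467, 885431, 897183,
  836221, 844458, 839839, 848034, 840286, 848484, 840401, 832125,
  721508, 462897, 471082, 462918, 479599, 516564, 516105, 520198,
  532613, 426262, 553430, 569402, 553104, 627323, 135745, 135251,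
  364634, 340223, 307653, 344510, 360936, 828003, 676475, 373371,
  828038, 512700, 496331, 512029, 671802, 524398, 893620, 897057]
def ph0_1 : List ℕ := [
  380990, 381178, 368936, 381281, 836218, 831505, 561586, 348949,
  680391, 721369, 713433, 353026, 557831, 606986, 610312, 561917,
  561777, 557736, 778695, 594377, 791001, 590284, 688857, 725000,
  741418, 692269, 762449, 765997]

def ph1_0 : List Aux := [
  .node 36 4, .derive 220 [.bwd 0, .edge 0, .edge 2, .edge 0, .edge 2, .edge 0, .edge 4] [0] (.rel 24), .node 39 4, .derive 221 [.bwd 0, .edge 0, .edge 2, .edge 0, .edge 2, .edge 0, .edge 4] [0] (.rel 24), .derive 220 [.fwd 2, .edge 2, .bwd 0, .bwd 1, .edge 0, .edge 4, .bwd 0] [2] (.rel 19), .node 57 4, .node 63 4, .derive 223 [.bwd 0, .edge 0, .edge 1, .edge 3, .edge 1, .edge 3, .fwd 4] [3] (.rel 636),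
  .node 64 4, .derive 224 [.bwd 0, .edge 0, .edge 1, .edge 3, .edge 1, .edge 3, .fwd 3] [3] (.rel 636), .node 65 4, .derive 225 [.bwd 0, .edge 0, .edge 2, .edge 0, .edge 2, .edge 0, .fwd 4] [0] (.rel 24), .derive 225 [.bwd 1, .edge 0, .edge 2, .fwd 3] [2] (.rel 171), .node 66 4, .derive 226 [.bwd 0, .edge 0, .edge 2, .edge 0, .edge 2, .edge 0, .fwd 5] [0] (.rel 24), .derive 223 [.bwd 3, .fwd 2, .bwd 0, .bwd 1, .edge 0, .fwd 6, .bwd 0] [2] (.rel 19),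
  .derive 226 [.bwd 2, .edge 0, .fwd 7, .bwd 1, .bwd 0, .fwd 8, .bwd 11] [3] (.rel 185), .node 73 0, .node 73 4, .node 74 0, .derive 229 [.bwd 0, .edge 2, .fwd 2] [2] (.rel 1), .node 74 4, .node 77 4, .node 78 4,
  .node 90 5, .node 91 5, .derive 234 [.bwd 0, .edge 2, .edge 0, .edge 2, .edge 0, .edge 2, .fwd 1] [2] (.rel 9), .node 92 5, .derive 235 [.bwd 0, .edge 0, .edge 2, .fwd 2] [0] (.rel 125), .node 93 5, .derive 236 [.bwd 0, .edge 2, .edge 0, .edge 2, .edge 0, .edge 2, .fwd 2] [2] (.rel 9), .derive 233 [.bwd 4, .bwd 2, .bwd 0, .bwd 1, .edge 2, .fwd 3, .bwd 0] [0] (.rel 4),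
  .node 94 5, .node 95 5, .derive 238 [.bwd 0, .edge 2, .edge 0, .edge 2, .edge 0, .edge 2, .fwd 1] [2] (.rel 9), .node 96 1, .node 96 5, .node 97 5, .derive 241 [.bwd 0, .edge 2, .edge 0, .edge 2, .edge 0, .edge 2, .fwd 1] [2] (.rel 9), .node 98 5,
  .derive 242 [.bwd 0, .edge 0, .edge 2, .fwd 3] [0] (.rel 125), .node 99 1, .derive 243 [.bwd 0, .edge 0, .edge 2, .edge 0, .edge 2, .edge 0, .fwd 6] [0] (.rel 32), .node 99 5, .derive 244 [.bwd 0, .edge 2, .edge 0, .edge 2, .edge 0, .edge 2, .fwd 4] [2] (.rel 9), .derive 241 [.fwd 6, .bwd 4, .bwd 0, .bwd 1, .edge 2, .fwd 5, .bwd 0] [0] (.rel 4), .node 101 0, .derive 245 [.bwd 0, .edge 2, .edge 5, .edge 2, .edge 0, .edge 2] [5] (.rel 42),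
  .derive 245 [.bwd 1, .edge 3, .edge 2, .edge 0, .edge 2, .edge 3, .fwd 30] [3] (.rel 72), .node 101 4, .node 102 0, .derive 247 [.bwd 0, .edge 2, .fwd 4] [2] (.rel 1), .derive 130 [.edge 2, .bwd 4, .bwd 0, .bwd 1, .edge 2, .fwd 5, .bwd 0] [5] (.rel 8), .derive 229 [.fwd 32, .bwd 4, .bwd 1, .bwd 2, .edge 2, .fwd 6, .bwd 1] [3] (.rel 16), .node 102 4, .node 105 4,
  .node 106 4, .node 107 4, .node 108 4, .node 109 5, .node 110 5, .derive 254 [.bwd 0, .edge 2, .bwd 59, .fwd 56, .fwd 57, .edge 2, .fwd 1] [2] (.rel 9), .node 111 5, .node 116 4,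
  .derive 256 [.bwd 0, .edge 0, .edge 2, .edge 0, .edge 2, .edge 0, .fwd 41] [0] (.rel 24), .derive 256 [.bwd 1, .edge 0, .edge 2, .fwd 41] [2] (.rel 171), .node 119 4, .derive 257 [.bwd 0, .edge 0, .edge 2, .edge 0, .edge 2, .edge 0, .fwd 43] [0] (.rel 24), .derive 231 [.bwd 3, .fwd 2, .bwd 0, .bwd 1, .edge 0, .fwd 44, .bwd 0] [2] (.rel 19), .derive 257 [.bwd 2, .edge 0, .edge 1, .edge 3, .edge 1, .edge 3, .fwd 47] [3] (.rel 636), .node 132 4, .derive 258 [.bwd 0, .edge 0, .edge 2, .edge 0, .edge 2, .edge 0, .fwd 15] [0] (.rel 24),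
  .derive 258 [.bwd 1, .edge 0, .edge 2, .fwd 15] [2] (.rel 171), .node 133 4, .derive 259 [.bwd 0, .edge 0, .edge 2, .edge 0, .edge 2, .edge 0, .fwd 17] [0] (.rel 24), .derive 249 [.bwd 3, .fwd 2, .bwd 0, .bwd 1, .edge 0, .fwd 18, .bwd 0] [2] (.rel 19), .derive 259 [.bwd 2, .edge 0, .edge 1, .edge 3, .edge 1, .edge 3, .fwd 17] [3] (.rel 636), .node 134 4, .derive 260 [.bwd 0, .edge 0, .edge 2, .edge 0, .edge 2, .edge 0, .fwd 19] [0] (.rel 24), .derive 260 [.bwd 1, .edge 0, .edge 2, .fwd 21] [2] (.rel 171),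
  .derive 260 [.bwd 2, .edge 0, .edge 1, .edge 3, .edge 1, .edge 3, .fwd 25] [3] (.rel 636), .node 135 4, .derive 261 [.bwd 0, .edge 0, .edge 2, .edge 0, .edge 2, .edge 0, .fwd 24] [0] (.rel 24), .derive 252 [.bwd 4, .fwd 3, .bwd 0, .bwd 1, .edge 0, .fwd 25, .bwd 0] [2] (.rel 19), .derive 261 [.bwd 2, .edge 0, .fwd 26, .bwd 1, .bwd 0, .bwd 7, .bwd 8] [3] (.rel 185), .node 136 1, .derive 262 [.bwd 0, .edge 5, .edge 2, .edge 1, .edge 3, .edge 1, .edge 3] [5] (.rel 455), .derive 262 [.bwd 1, .edge 3, .edge 4, .edge 3, .edge 4, .edge 0, .fwd 51] [3] (.rel 632),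
  .derive 202 [.edge 1, .edge 5, .edge 2, .fwd 2, .fwd 0, .bwd 52, .edge 3, .fwd 54] [] (.rel 455), .derive 238 [.bwd 0] [] (.free), .derive 202 [.bwd 0, .fwd 55] [2] (.free), .derive 203 [.edge 2, .fwd 0] [] (.free), .derive 202 [.bwd 2, .bwd 58] [5] (.free), .derive 237 [.bwd 1] [] (.free), .derive 203 [.bwd 0, .bwd 61] [5] (.free), .node 137 1,
  .derive 263 [.bwd 0, .edge 0, .edge 2, .edge 0, .edge 2, .edge 0, .fwd 10] [0] (.rel 32), .derive 263 [.bwd 1, .edge 0, .fwd 11, .fwd 10, .edge 0, .edge 2] [5] (.rel 144), .node 138 1, .node 138 5]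
def ph1_1 : List Aux := [
  .derive 265 [.bwd 0, .edge 2, .edge 3, .edge 5, .edge 3, .fwd 74] [3] (.rel 432), .node 139 5, .derive 266 [.bwd 0, .edge 2, .edge 0, .edge 2, .edge 0, .edge 2, .fwd 2] [2] (.rel 9), .derive 266 [.bwd 1, .edge 0, .edge 2, .edge 0, .fwd 3, .fwd 2, .fwd 76] [3] (.rel 134), .node 140 1, .derive 267 [.bwd 0, .edge 0, .edge 2, .edge 0, .edge 2, .edge 0, .fwd 6] [0] (.rel 32), .node 140 5, .derive 268 [.bwd 0, .edge 0, .edge 2, .fwd 5] [0] (.rel 125),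
  .node 141 5, .derive 269 [.bwd 0, .edge 2, .edge 0, .edge 2, .edge 0, .edge 2, .fwd 2] [2] (.rel 9), .derive 265 [.bwd 7, .bwd 2, .bwd 0, .bwd 1, .edge 2, .fwd 3, .bwd 0] [0] (.rel 4), .node 148 1, .derive 270 [.bwd 0, .edge 5, .edge 2, .edge 1, .edge 3, .edge 1, .edge 3] [5] (.rel 455), .derive 270 [.bwd 1, .edge 5, .edge 2, .edge 1, .edge 5, .edge 3, .fwd 14] [3] (.rel 471), .node 149 1, .derive 271 [.bwd 0, .edge 0, .edge 2, .edge 0, .edge 2, .edge 0, .fwd 3] [0] (.rel 32),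
  .derive 271 [.bwd 1, .edge 0, .fwd 4, .fwd 3, .edge 0, .edge 2] [5] (.rel 144), .node 150 5, .derive 272 [.bwd 0, .edge 3, .fwd 6, .fwd 4, .bwd 19, .fwd 18, .bwd 15] [1] (.rel 467), .node 154 5, .derive 273 [.bwd 0, .edge 2, .edge 1, .edge 3, .edge 1, .edge 3, .fwd 90] [1] (.rel 456), .node 156 5, .derive 274 [.bwd 0, .edge 2, .edge 0, .edge 2, .edge 0, .edge 2, .fwd 2] [2] (.rel 9), .node 158 5,
  .derive 275 [.bwd 0, .edge 2, .edge 1, .edge 3, .edge 1, .edge 3, .fwd 2] [1] (.rel 456), .node 159 5, .derive 276 [.bwd 0, .edge 2, .edge 0, .edge 2, .edge 0, .edge 2, .fwd 2] [2] (.rel 9), .derive 276 [.bwd 1, .edge 2, .fwd 3, .fwd 2, .fwd 4, .fwd 6, .fwd 96] [1] (.rel 441), .node 160 5, .derive 277 [.bwd 0, .edge 0, .edge 2, .fwd 3] [0] (.rel 125), .derive 277 [.bwd 1, .edge 0, .edge 2, .fwd 4, .fwd 2, .fwd 101] [1] (.rel 147), .node 161 5,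
  .derive 278 [.bwd 0, .edge 2, .edge 0, .edge 2, .edge 0, .edge 2, .fwd 3] [2] (.rel 9), .derive 275 [.bwd 6, .bwd 3, .bwd 0, .bwd 1, .edge 2, .fwd 4, .bwd 0] [0] (.rel 4), .node 163 5, .derive 279 [.bwd 0, .edge 2, .edge 0, .edge 2, .edge 0, .edge 2, .bwd 48] [2] (.rel 9), .node 164 5, .derive 280 [.bwd 0, .edge 2, .edge 0, .edge 2, .edge 0, .edge 2, .bwd 39] [2] (.rel 9), .derive 279 [.fwd 2, .bwd 41, .bwd 0, .bwd 1, .edge 2, .bwd 40, .bwd 0] [0] (.rel 4), .node 171 5,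
  .derive 281 [.bwd 0, .edge 2, .edge 0, .edge 2, .edge 0, .edge 2, .bwd 23] [2] (.rel 9), .node 172 5, .derive 282 [.bwd 0, .edge 2, .edge 3, .edge 5, .edge 3, .fwd 24] [3] (.rel 432), .node 173 5, .node 179 5, .derive 284 [.bwd 0, .edge 2, .edge 0, .edge 2, .edge 0, .edge 2, .fwd 3] [2] (.rel 9), .derive 284 [.bwd 1, .edge 0, .edge 2, .fwd 2] [0] (.rel 125), .node 180 5,
  .derive 285 [.bwd 0, .edge 2, .edge 0, .edge 2, .edge 0, .edge 2, .fwd 4] [2] (.rel 9), .derive 282 [.bwd 3, .fwd 2, .bwd 0, .bwd 1, .edge 2, .fwd 5, .bwd 0] [0] (.rel 4), .node 194 5, .derive 286 [.bwd 0, .edge 2, .edge 1, .edge 3, .edge 1, .edge 3, .fwd 3] [1] (.rel 456), .node 195 5, .node 197 5, .derive 288 [.bwd 0, .edge 2, .edge 0, .edge 2, .edge 0, .edge 2, .bwd 41] [2] (.rel 9), .derive 281 [.fwd 14, .fwd 39, .bwd 0, .bwd 1, .edge 2, .bwd 42, .bwd 0] [0] (.rel 4),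
  .node 200 5, .derive 289 [.bwd 0, .edge 2, .edge 0, .edge 2, .edge 0, .edge 2, .fwd 6] [2] (.rel 9), .derive 289 [.bwd 1, .edge 0, .edge 2, .fwd 5] [0] (.rel 125), .node 201 5, .derive 290 [.bwd 0, .edge 2, .edge 0, .edge 2, .edge 0, .edge 2, .fwd 7] [2] (.rel 9), .derive 286 [.bwd 3, .fwd 2, .bwd 0, .bwd 1, .edge 2, .fwd 8, .bwd 0] [0] (.rel 4), .derive 290 [.bwd 2, .edge 2, .fwd 9, .bwd 3, .fwd 4, .fwd 10, .bwd 12] [1] (.rel 109), .node 204 5,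
  .derive 291 [.bwd 0, .edge 2, .edge 3, .fwd 69, .edge 3, .fwd 126] [3] (.rel 432), .node 205 5, .derive 292 [.bwd 0, .edge 2, .edge 0, .edge 2, .edge 0, .edge 2, .fwd 2] [2] (.rel 9), .node 206 5, .derive 293 [.bwd 0, .edge 0, .edge 2, .fwd 2] [0] (.rel 125), .node 207 5, .derive 294 [.bwd 0, .edge 2, .edge 0, .edge 2, .edge 0, .edge 2, .fwd 2] [2] (.rel 9), .derive 291 [.bwd 4, .bwd 2, .bwd 0, .bwd 1, .edge 2, .fwd 3, .bwd 0] [0] (.rel 4),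
  .node 216 5, .derive 295 [.bwd 0, .edge 2, .edge 1, .edge 3, .edge 1, .edge 3, .fwd 9] [1] (.rel 456), .node 217 5, .node 218 5, .derive 297 [.bwd 0, .edge 2, .edge 0, .edge 2, .edge 0, .edge 2, .fwd 3] [2] (.rel 9), .derive 297 [.bwd 1, .edge 0, .edge 2, .fwd 2] [0] (.rel 125), .node 219 5, .derive 298 [.bwd 0, .edge 2, .edge 0, .edge 2, .edge 0, .edge 2, .fwd 4] [2] (.rel 9),
  .derive 298 [.bwd 1, .edge 2, .fwd 5, .bwd 2, .fwd 3, .fwd 6, .fwd 8] [1] (.rel 109), .node 220 5, .derive 299 [.bwd 0, .fwd 180, .edge 2, .fwd 121] [0] (.rel 125), .node 221 5, .derive 300 [.bwd 0, .bwd 179, .fwd 182, .edge 2, .bwd 180, .bwd 179, .fwd 2] [2] (.rel 9), .derive 253 [.bwd 123, .bwd 2, .bwd 0, .bwd 1, .bwd 180, .fwd 3, .bwd 0] [0] (.rel 4), .node 227 4, .derive 301 [.bwd 0, .bwd 169, .edge 2, .fwd 167, .fwd 166, .bwd 169, .fwd 168] [0] (.rel 24),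
  .derive 301 [.bwd 1, .bwd 170, .edge 2, .fwd 166] [2] (.rel 171), .derive 301 [.bwd 2, .bwd 171, .fwd 170, .bwd 1, .fwd 0, .bwd 119, .bwd 120] [3] (.rel 185), .node 230 5, .node 233 4, .node 235 3, .node 235 4, .derive 305 [.bwd 0, .fwd 165, .fwd 167, .fwd 2] [2] (.rel 171), .node 236 3,
  .derive 306 [.bwd 0, .fwd 165, .fwd 167, .fwd 169, .fwd 164, .fwd 165, .fwd 3] [2] (.rel 17), .node 239 2, .derive 307 [.bwd 0, .bwd 110, .bwd 62, .fwd 59, .fwd 60, .fwd 101, .bwd 62] [3] (.rel 16), .node 239 5]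
def ph1_2 : List Aux := [
  .derive 308 [.bwd 0, .fwd 2, .fwd 1, .bwd 65, .edge 3, .fwd 71] [3] (.rel 432), .node 242 3, .node 243 5, .node 244 3, .derive 311 [.bwd 0, .fwd 159, .fwd 163, .bwd 165, .fwd 158, .fwd 159, .fwd 2] [2] (.rel 17), .node 245 4, .derive 312 [.bwd 0, .bwd 159, .edge 2, .fwd 155, .fwd 154, .bwd 159, .fwd 156] [0] (.rel 24), .derive 312 [.bwd 1, .bwd 160, .edge 2, .fwd 152] [2] (.rel 171),
  .derive 312 [.bwd 2, .bwd 161, .fwd 158, .bwd 1, .fwd 0, .bwd 127, .fwd 128] [3] (.rel 185), .node 249 5, .node 250 5, .derive 314 [.bwd 0, .bwd 136, .bwd 135, .fwd 1] [0] (.rel 125), .node 252 5, .node 253 4, .derive 316 [.bwd 0, .bwd 154, .edge 4, .edge 5, .edge 4, .edge 5, .edge 2, .edge 3, .edge 0, .edge 4, .edge 5, .edge 4, .fwd 180, .fwd 124, .edge 4, .fwd 121, .edge 0, .edge 3, .edge 0, .edge 3, .edge 4, .edge 5, .edge 4, .edge 5, .edge 4, .fwd 170, .fwd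 10] [0] (.rel 782), .derive 316 [.bwd 1, .bwd 155, .edge 4, .edge 5, .edge 4, .edge 5, .edge 3, .edge 0, .edge 4, .edge 5, .edge 4, .fwd 182, .fwd 121, .edge 4, .fwd 120, .edge 2, .edge 3, .edge 0, .edge 4, .edge 5, .edge 4, .edge 5, .edge 4, .fwd 171, .bwd 169, .bwd 50, .fwd 43] [3] (.rel 774),
  .node 255 4, .node 258 5, .derive 318 [.bwd 0, .fwd 145, .bwd 143, .bwd 142, .bwd 146, .fwd 145, .fwd 7] [2] (.rel 9), .node 259 5, .derive 319 [.bwd 0, .bwd 144, .bwd 148, .fwd 147, .bwd 145, .bwd 144, .fwd 10] [2] (.rel 9), .derive 318 [.fwd 2, .fwd 9, .bwd 0, .bwd 1, .bwd 145, .fwd 11, .bwd 0] [0] (.rel 4), .node 264 2, .derive 320 [.bwd 0, .bwd 109, .bwd 68, .bwd 67, .fwd 82, .fwd 107, .bwd 68] [3] (.rel 16),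
  .node 264 5, .derive 321 [.bwd 0, .fwd 2, .fwd 1, .bwd 71, .edge 3, .fwd 65] [3] (.rel 432), .node 265 4, .node 266 4, .node 267 5, .node 268 3, .derive 325 [.bwd 0, .bwd 120, .bwd 119, .bwd 127, .fwd 126, .fwd 198, .fwd 34] [0] (.rel 73), .derive 325 [.bwd 1, .bwd 124, .edge 2, .edge 3, .fwd 124, .fwd 1] [5] (.rel 431),
  .node 268 4, .derive 326 [.bwd 0, .fwd 125, .fwd 130, .fwd 122, .fwd 123, .fwd 125, .fwd 5] [0] (.rel 24), .derive 326 [.bwd 1, .fwd 126, .fwd 131, .fwd 7] [2] (.rel 171), .node 269 3, .derive 327 [.bwd 0, .fwd 126, .fwd 128, .fwd 133, .fwd 125, .fwd 126, .fwd 6] [2] (.rel 17), .derive 304 [.bwd 40, .bwd 6, .bwd 0, .bwd 1, .fwd 127, .fwd 7, .bwd 0] [0] (.rel 12), .node 269 4, .derive 328 [.bwd 0, .bwd 128, .bwd 136, .bwd 131, .bwd 129, .bwd 128, .fwd 12] [0] (.rel 24),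
  .derive 323 [.bwd 6, .fwd 5, .bwd 0, .bwd 1, .bwd 129, .fwd 13, .bwd 0] [2] (.rel 19), .node 273 3, .node 277 4, .node 278 3, .derive 331 [.bwd 0, .fwd 111, .fwd 114, .fwd 117, .fwd 110, .fwd 111, .bwd 43] [2] (.rel 17), .derive 331 [.bwd 1, .fwd 112, .bwd 44, .bwd 45, .bwd 202, .fwd 42] [0] (.rel 562), .node 286 3, .derive 332 [.bwd 0, .bwd 96, .edge 1, .fwd 219, .bwd 216, .bwd 126, .fwd 5] [1] (.rel 453),
  .node 286 4, .derive 333 [.bwd 0, .fwd 87, .fwd 86, .fwd 106, .fwd 130, .fwd 145, .fwd 57] [3] (.rel 636), .node 287 3, .derive 334 [.bwd 0, .bwd 98, .edge 1, .fwd 226, .bwd 224, .bwd 120, .bwd 50] [1] (.rel 453), .derive 334 [.bwd 1, .bwd 91, .bwd 26, .bwd 27, .bwd 146, .fwd 23] [0] (.rel 562), .node 287 4, .derive 335 [.bwd 0, .bwd 95, .fwd 96, .fwd 5, .fwd 4, .bwd 59] [3] (.rel 201), .node 289 3,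
  .derive 336 [.bwd 0, .fwd 98, .fwd 94, .fwd 95, .bwd 97, .fwd 98, .fwd 9] [2] (.rel 17), .derive 336 [.bwd 1, .bwd 100, .edge 1, .fwd 82, .bwd 77, .fwd 76, .bwd 41] [1] (.rel 453), .node 289 4, .derive 337 [.bwd 0, .fwd 100, .bwd 98, .bwd 97, .bwd 101, .fwd 100, .fwd 5] [0] (.rel 24), .node 293 3, .derive 338 [.bwd 0, .bwd 90, .bwd 89, .bwd 94, .bwd 92, .bwd 90, .bwd 45] [2] (.rel 17), .derive 309 [.bwd 57, .bwd 47, .bwd 0, .bwd 1, .bwd 91, .bwd 46, .bwd 0] [0] (.rel 12), .derive 338 [.bwd 2, .bwd 92, .bwd 47, .bwd 49, .fwd 77, .fwd 78] [4] (.rel 198),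
  .derive 338 [.bwd 3, .bwd 96, .edge 2, .edge 3, .fwd 94, .bwd 48] [5] (.rel 431), .node 302 4, .node 303 5, .node 306 4, .node 308 0, .derive 342 [.bwd 0, .bwd 24, .fwd 23] [2] (.rel 1), .derive 342 [.bwd 1, .bwd 25, .fwd 24, .bwd 0, .bwd 1, .bwd 18, .fwd 17] [1] (.rel 33), .node 311 1,
  .derive 343 [.bwd 0, .bwd 57, .bwd 10, .bwd 9, .bwd 67, .bwd 57, .bwd 14] [0] (.rel 32), .derive 343 [.bwd 1, .bwd 69, .bwd 229, .fwd 231, .fwd 70, .bwd 3, .fwd 2] [3] (.rel 452), .node 314 4, .node 315 4, .node 317 5, .derive 346 [.bwd 0, .bwd 60, .bwd 214, .edge 4, .edge 5, .edge 4, .edge 5, .edge 4, .fwd 252, .fwd 85, .fwd 10] [4] (.rel 788), .derive 344 [.bwd 3, .bwd 67, .bwd 221, .edge 5, .edge 3, .edge 0, .edge 4, .fwd 215, .fwd 61, .fwd 1, .fwd 0, .bwd 11, .bwd 83, .bwd 23, .bwd 18, .bwd 19, .bwd 121, .edge 4, .edge 5, .edge 4, .edge 5, .edge 0, .edge 3, .edge 0, .edge 3, .fwd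 222, .fwd 68] [] (.rel 776), .derive 344 [.fwd 0] [] (.free),
  .derive 318 [.fwd 58, .fwd 59, .bwd 0, .bwd 5, .fwd 68, .bwd 59, .bwd 58] [4] (.rel 159), .node 322 5, .node 323 5, .derive 348 [.bwd 0, .bwd 49, .fwd 48, .fwd 1] [0] (.rel 125), .node 325 4, .derive 349 [.bwd 0, .fwd 54, .fwd 88, .fwd 47, .fwd 48, .fwd 54, .fwd 17] [0] (.rel 24), .derive 345 [.bwd 10, .bwd 73, .bwd 227, .edge 5, .edge 2, .edge 3, .edge 0, .fwd 285, .fwd 104, .bwd 22, .fwd 21, .bwd 72, .bwd 226, .bwd 284, .bwd 269, .fwd 271, .fwd 276, .bwd 280, .edge 5, .edge 4, .edge 5, .edge 4, .fwd 256, .fwd 90, .bwd 55, .fwd 1] [5] (.rel 784), .derive 341 [.bwd 1, .bwd 2, .fwd 55, .fwd 2, .bwd 0, .bwd 11, .bwd 74, .fwd 203, .fwd 202, .bwd 215, .bwd 216, .edge 5, .fwd 216, .fwd 69, .bwd 6, .bwd 69, .fwd 215, .bwd 202, .fwd 204, .bwd 78, .bwd 81, .fwd 239, .edge 4, .fwd 185, .fwd 59, .fwd 4] [3] (.rel 781),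
  .derive 347 [.bwd 4, .bwd 0, .bwd 20, .bwd 92, .bwd 167, .fwd 46, .bwd 40] [4] (.rel 695), .node 326 5, .derive 350 [.bwd 0, .fwd 55, .bwd 50, .bwd 49, .bwd 56, .fwd 55, .fwd 8] [2] (.rel 9), .derive 343 [.fwd 18, .fwd 34, .bwd 2, .bwd 0] [4] (.rel 172), .derive 339 [.bwd 26, .bwd 101, .bwd 103, .fwd 102, .bwd 227, .bwd 228, .edge 5, .edge 4, .edge 5, .edge 4, .fwd 135, .fwd 133, .fwd 41, .fwd 39, .bwd 18, .fwd 0, .bwd 2, .bwd 59, .bwd 185, .edge 4, .fwd 239, .bwd 238, .bwd 272, .fwd 270, .fwd 101, .fwd 26] [5] (.rel 786), .derive 330 [.bwd 50, .bwd 164, .edge 4, .edge 5, .fwd 271, .fwd 102, .fwd 27, .fwd 0, .bwd 27, .bwd 102, .bwd 271, .edge 5] [] (.rel 789), .derive 330 [.fwd 0] [] (.free), .derive 76 [.bwd 0, .bwd 52] [4] (.free),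
  .derive 160 [.edge 4, .fwd 0] [] (.free), .derive 277 [.bwd 0] [] (.free), .derive 160 [.fwd 169, .fwd 0] [5] (.free), .commit 0]
def ph1 : List Aux :=
  (ph1_0 ++ (ph1_1 ++ ph1_2))

def ph2_0 : List ℕ := [
  659464, 651306, 750023, 635348, 811481, 799449, 823304, 819242,
  704980, 733192, 737322, 708653, 618925, 614833, 643545, 877009,
  873041, 627278, 639742, 856825, 868770, 614856, 848658, 815559,
  758233, 701011, 414450, 413720, 458772, 479295, 417954, 459233,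
  557668, 561762, 299626, 270971, 541309, 438962, 578316, 574201,
  569386, 573896, 577989, 405972, 533264, 394000, 537323, 450840,
  496045, 491953, 528837, 520645, 434916, 544791, 443058, 548887,
  553119, 160379, 529071, 148214, 389732, 385634, 332411, 336034,
  664305, 258786, 266996, 676608, 405945, 832081, 828121, 569797]

/-- known edges at a check point -/
def mask0 : ℕ := 0x10414704508608208204214608218440448619410419609810c08218258421a1141861821821860860c70d70d22d249a4920502506100d22d2692050154061041201211801a110614412112790424d24d04104053482486482090502110590502526b249248964825924921920821921961964c34cb4ce0ee38aa8e0ca1ee3ae241019421269241387a8ab8e38e059c29a60a69a60d2af2eb20524f0cb2258678e24e26c90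

theorem treeRun_ok : stIs (runList (treeStep P) tree ⟨1, 0, []⟩) 220 mask0 = true := by decide +kernel

def seg0 : List Phase := [.scans ph0_0, .scans ph0_1, .aux ph1, .scans ph2_0]

theorem seg0_ok : stIs (runList (phaseStep P) seg0 ⟨220, mask0, []⟩) 351 (2 ^ (220 * P.k) - 1) = true := by decide +kernel

/-- the certificate -/
def phases : List Phase :=
  seg0

theorem cert_ok : checkCert P 220 tree phases = true :=
  checkCert_of_run P treeRun_ok (run_last P seg0_ok)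

theorem gen0_ok : genOK P 220 0 = true := by decide +kernel

theorem gen1_ok : genOK P 220 1 = true := by decide +kernel

theorem gen2_ok : genOK P 220 2 = true := by decide +kernel

theorem gen3_ok : genOK P 220 3 = true := by decide +kernel

theorem gen4_ok : genOK P 220 4 = true := by decide +kernel

theorem gen5_ok : genOK P 220 5 = true := by decide +kernel

theorem tab_ok : tableOK P 220 = true := tableOK_of_gens P (by decide +kernel) (by decide +kernel) fun x hx =>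
  match x, hx with
  | 0, _ => gen0_ok
  | 1, _ => gen1_ok
  | 2, _ => gen2_ok
  | 3, _ => gen3_ok
  | 4, _ => gen4_ok
  | 5, _ => gen5_ok
  | _ + 6, hx => absurd (show _ + 6 < 6 from hx) (by omega)

theorem base0_ok : Fixes P 220 [2, 0, 2, 0] :=
  fixes_of_powFix P (u := [2, 0]) (e := 2) (by decide +kernel) (by decide +kernel)

theorem base1_ok : Fixes P 220 [2, 0, 2, 0, 2, 5, 2, 5] := fixes_of_wordFix P (by decide +kernel)

theorem base2_ok : Fixes P 220 [2, 0, 2, 0, 2, 3, 2, 3] := fixes_of_wordFix P (by decide +kernel)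

theorem base3_ok : Fixes P 220 [2, 0, 2, 0, 4, 0, 4, 0] := fixes_of_wordFix P (by decide +kernel)

theorem base4_ok : Fixes P 220 [2, 0, 2, 0, 1, 0, 1, 0] := fixes_of_wordFix P (by decide +kernel)

theorem base5_ok : Fixes P 220 [2, 0, 2, 5, 2, 0, 5] := fixes_of_wordFix P (by decide +kernel)

theorem base6_ok : Fixes P 220 [2, 0, 2, 4, 2, 0, 2, 4] :=
  fixes_of_powFix P (u := [2, 0, 2, 4]) (e := 2) (by decide +kernel) (by decide +kernel)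

theorem base7_ok : Fixes P 220 [2, 0, 2, 4, 0, 4] := fixes_of_wordFix P (by decide +kernel)

theorem base8_ok : Fixes P 220 [2, 0, 2, 4, 1, 0, 1, 4] := fixes_of_wordFix P (by decide +kernel)

theorem base9_ok : Fixes P 220 [2, 0, 2, 3, 0, 3, 0, 3] := fixes_of_wordFix P (by decide +kernel)

theorem base10_ok : Fixes P 220 [2, 0, 2, 1, 2, 0, 2, 1] :=
  fixes_of_powFix P (u := [2, 0, 2, 1]) (e := 2) (by decide +kernel) (by decide +kernel)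

theorem base11_ok : Fixes P 220 [2, 0, 2, 1, 0, 1] := fixes_of_wordFix P (by decide +kernel)

theorem base12_ok : Fixes P 220 [2, 0, 2, 1, 4, 0, 4, 1] := fixes_of_wordFix P (by decide +kernel)

theorem base13_ok : Fixes P 220 [2, 0, 5, 2, 5, 0] := fixes_of_wordFix P (by decide +kernel)

theorem base14_ok : Fixes P 220 [2, 0, 5, 2, 5, 1, 0, 1] := fixes_of_wordFix P (by decide +kernel)

theorem base15_ok : Fixes P 220 [2, 0, 5, 0, 2, 0, 5, 0] :=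
  fixes_of_powFix P (u := [2, 0, 5, 0]) (e := 2) (by decide +kernel) (by decide +kernel)

theorem base16_ok : Fixes P 220 [2, 0, 5, 0, 5] := fixes_of_wordFix P (by decide +kernel)

theorem base17_ok : Fixes P 220 [2, 0, 5, 3, 2, 3, 5, 0] := fixes_of_wordFix P (by decide +kernel)

theorem base18_ok : Fixes P 220 [2, 0, 5, 1, 0, 1, 5] := fixes_of_wordFix P (by decide +kernel)

theorem base19_ok : Fixes P 220 [2, 0, 4, 2, 0, 4, 0] := fixes_of_wordFix P (by decide +kernel)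

theorem base20_ok : Fixes P 220 [2, 0, 4, 2, 4] := fixes_of_wordFix P (by decide +kernel)

theorem base21_ok : Fixes P 220 [2, 0, 4, 0, 4, 3, 2, 3] := fixes_of_wordFix P (by decide +kernel)

theorem base22_ok : Fixes P 220 [2, 0, 4, 3, 2, 3, 4] := fixes_of_wordFix P (by decide +kernel)

theorem base23_ok : Fixes P 220 [2, 0, 3, 2, 0, 3, 0, 3] := fixes_of_wordFix P (by decide +kernel)

theorem base24_ok : Fixes P 220 [2, 0, 3, 2, 3, 0] := fixes_of_wordFix P (by decide +kernel)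

theorem base25_ok : Fixes P 220 [2, 0, 3, 2, 3, 4, 0, 4] := fixes_of_wordFix P (by decide +kernel)

theorem base26_ok : Fixes P 220 [2, 0, 3, 2, 3, 1, 0, 1] := fixes_of_wordFix P (by decide +kernel)

theorem base27_ok : Fixes P 220 [2, 0, 3, 0, 2, 0, 3, 0] :=
  fixes_of_powFix P (u := [2, 0, 3, 0]) (e := 2) (by decide +kernel) (by decide +kernel)

theorem base28_ok : Fixes P 220 [2, 0, 3, 0, 2, 3, 0, 3] := fixes_of_wordFix P (by decide +kernel)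

theorem base29_ok : Fixes P 220 [2, 0, 3, 0, 3, 0, 2, 3] := fixes_of_wordFix P (by decide +kernel)

theorem base30_ok : Fixes P 220 [2, 0, 3, 5, 2, 5, 3, 0] := fixes_of_wordFix P (by decide +kernel)

theorem base31_ok : Fixes P 220 [2, 0, 1, 2, 0, 1, 2, 1] := fixes_of_wordFix P (by decide +kernel)

theorem base32_ok : Fixes P 220 [2, 0, 1, 2, 1, 2, 1, 0] := fixes_of_wordFix P (by decide +kernel)

theorem base33_ok : Fixes P 220 [2, 0, 1, 2, 1, 0, 2, 1] := fixes_of_wordFix P (by decide +kernel)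

theorem base34_ok : Fixes P 220 [2, 0, 1, 0, 2, 1, 2, 1] := fixes_of_wordFix P (by decide +kernel)

theorem base35_ok : Fixes P 220 [2, 0, 1, 0, 1, 5, 2, 5] := fixes_of_wordFix P (by decide +kernel)

theorem base36_ok : Fixes P 220 [2, 0, 1, 0, 1, 3, 2, 3] := fixes_of_wordFix P (by decide +kernel)

theorem base37_ok : Fixes P 220 [2, 5, 2, 5] :=
  fixes_of_powFix P (u := [2, 5]) (e := 2) (by decide +kernel) (by decide +kernel)

theorem base38_ok : Fixes P 220 [2, 5, 2, 5, 2, 3, 2, 3] := fixes_of_wordFix P (by decide +kernel)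

theorem base39_ok : Fixes P 220 [2, 5, 2, 5, 0, 1, 0, 1] := fixes_of_wordFix P (by decide +kernel)

theorem base40_ok : Fixes P 220 [2, 5, 0, 5, 2, 5, 0, 5] :=
  fixes_of_powFix P (u := [2, 5, 0, 5]) (e := 2) (by decide +kernel) (by decide +kernel)

theorem base41_ok : Fixes P 220 [2, 5, 0, 5, 1, 0, 1] := fixes_of_wordFix P (by decide +kernel)

theorem base42_ok : Fixes P 220 [2, 5, 0, 3, 2, 3, 0, 5] := fixes_of_wordFix P (by decide +kernel)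

theorem base43_ok : Fixes P 220 [2, 5, 3, 2, 3, 5] := fixes_of_wordFix P (by decide +kernel)

theorem base44_ok : Fixes P 220 [2, 5, 3, 5, 2, 5, 3, 5] :=
  fixes_of_powFix P (u := [2, 5, 3, 5]) (e := 2) (by decide +kernel) (by decide +kernel)

theorem base45_ok : Fixes P 220 [2, 5, 3, 5, 3, 5, 3] := fixes_of_wordFix P (by decide +kernel)

theorem base46_ok : Fixes P 220 [2, 5, 1, 2, 1, 2, 1, 5] := fixes_of_wordFix P (by decide +kernel)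

theorem base47_ok : Fixes P 220 [2, 5, 1, 5, 3, 1, 3, 1] := fixes_of_wordFix P (by decide +kernel)

theorem base48_ok : Fixes P 220 [2, 5, 1, 3, 1, 3, 5, 1] := fixes_of_wordFix P (by decide +kernel)

theorem base49_ok : Fixes P 220 [2, 4, 2, 4, 2, 4, 2, 4] :=
  fixes_of_powFix P (u := [2, 4]) (e := 4) (by decide +kernel) (by decide +kernel)

theorem base50_ok : Fixes P 220 [2, 4, 2, 4, 1, 0, 1] := fixes_of_wordFix P (by decide +kernel)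

theorem base51_ok : Fixes P 220 [2, 4, 0, 4, 2, 4, 0, 4] :=
  fixes_of_powFix P (u := [2, 4, 0, 4]) (e := 2) (by decide +kernel) (by decide +kernel)

theorem base52_ok : Fixes P 220 [2, 4, 0, 4, 2, 1, 0, 1] := fixes_of_wordFix P (by decide +kernel)

theorem base53_ok : Fixes P 220 [2, 4, 0, 4, 0, 3, 2, 3] := fixes_of_wordFix P (by decide +kernel)

theorem base54_ok : Fixes P 220 [2, 4, 0, 3, 2, 3, 4] := fixes_of_wordFix P (by decide +kernel)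

theorem base55_ok : Fixes P 220 [2, 3, 2, 3] :=
  fixes_of_powFix P (u := [2, 3]) (e := 2) (by decide +kernel) (by decide +kernel)

theorem base56_ok : Fixes P 220 [2, 3, 2, 3, 0, 1, 0, 1] := fixes_of_wordFix P (by decide +kernel)

theorem base57_ok : Fixes P 220 [2, 3, 0, 5, 0, 5, 3] := fixes_of_wordFix P (by decide +kernel)

theorem base58_ok : Fixes P 220 [2, 3, 0, 3, 2, 3, 0, 3] :=
  fixes_of_powFix P (u := [2, 3, 0, 3]) (e := 2) (by decide +kernel) (by decide +kernel)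

theorem base59_ok : Fixes P 220 [2, 3, 5, 3, 2, 3, 5, 3] :=
  fixes_of_powFix P (u := [2, 3, 5, 3]) (e := 2) (by decide +kernel) (by decide +kernel)

theorem base60_ok : Fixes P 220 [2, 3, 1, 2, 1, 2, 1, 3] := fixes_of_wordFix P (by decide +kernel)

theorem base61_ok : Fixes P 220 [2, 1, 2, 1, 2, 1] :=
  fixes_of_powFix P (u := [2, 1]) (e := 3) (by decide +kernel) (by decide +kernel)

theorem base62_ok : Fixes P 220 [2, 1, 0, 1, 2, 1, 0, 1] :=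
  fixes_of_powFix P (u := [2, 1, 0, 1]) (e := 2) (by decide +kernel) (by decide +kernel)

theorem base63_ok : Fixes P 220 [0, 5, 0, 5, 0, 5, 0, 5] :=
  fixes_of_powFix P (u := [0, 5]) (e := 4) (by decide +kernel) (by decide +kernel)

theorem base64_ok : Fixes P 220 [0, 5, 0, 3, 5, 3, 5, 3] := fixes_of_wordFix P (by decide +kernel)

theorem base65_ok : Fixes P 220 [0, 4, 0, 4] :=
  fixes_of_powFix P (u := [0, 4]) (e := 2) (by decide +kernel) (by decide +kernel)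

theorem base66_ok : Fixes P 220 [0, 4, 0, 4, 0, 1, 0, 1] := fixes_of_wordFix P (by decide +kernel)

theorem base67_ok : Fixes P 220 [0, 4, 0, 1, 4, 1, 4, 1] := fixes_of_wordFix P (by decide +kernel)

theorem base68_ok : Fixes P 220 [0, 4, 3, 0, 3, 0, 3, 4] := fixes_of_wordFix P (by decide +kernel)

theorem base69_ok : Fixes P 220 [0, 4, 3, 4, 3, 1, 3, 1] := fixes_of_wordFix P (by decide +kernel)

theorem base70_ok : Fixes P 220 [0, 4, 1, 0, 4, 1, 4, 1] := fixes_of_wordFix P (by decide +kernel)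

theorem base71_ok : Fixes P 220 [0, 4, 1, 0, 1, 4] := fixes_of_wordFix P (by decide +kernel)

theorem base72_ok : Fixes P 220 [0, 4, 1, 4, 0, 4, 1, 4] :=
  fixes_of_powFix P (u := [0, 4, 1, 4]) (e := 2) (by decide +kernel) (by decide +kernel)

theorem base73_ok : Fixes P 220 [0, 4, 1, 4, 0, 1, 4, 1] := fixes_of_wordFix P (by decide +kernel)

theorem base74_ok : Fixes P 220 [0, 4, 1, 4, 1, 4, 0, 1] := fixes_of_wordFix P (by decide +kernel)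

theorem base75_ok : Fixes P 220 [0, 4, 1, 3, 1, 3, 4, 3] := fixes_of_wordFix P (by decide +kernel)

theorem base76_ok : Fixes P 220 [0, 3, 0, 3, 0, 3] :=
  fixes_of_powFix P (u := [0, 3]) (e := 3) (by decide +kernel) (by decide +kernel)

theorem base77_ok : Fixes P 220 [0, 3, 0, 3, 1, 0, 1, 3] := fixes_of_wordFix P (by decide +kernel)

theorem base78_ok : Fixes P 220 [0, 3, 1, 3, 4, 3, 4, 1] := fixes_of_wordFix P (by decide +kernel)

theorem base79_ok : Fixes P 220 [0, 1, 0, 1] :=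
  fixes_of_powFix P (u := [0, 1]) (e := 2) (by decide +kernel) (by decide +kernel)

theorem base80_ok : Fixes P 220 [0, 1, 4, 1, 0, 1, 4, 1] :=
  fixes_of_powFix P (u := [0, 1, 4, 1]) (e := 2) (by decide +kernel) (by decide +kernel)

theorem base81_ok : Fixes P 220 [5, 3, 1, 3, 5, 3, 1, 3] :=
  fixes_of_powFix P (u := [5, 3, 1, 3]) (e := 2) (by decide +kernel) (by decide +kernel)

theorem base82_ok : Fixes P 220 [4, 1, 4, 1, 4, 1] :=
  fixes_of_powFix P (u := [4, 1]) (e := 3) (by decide +kernel) (by decide +kernel)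

theorem base83_ok : Fixes P 220 [5, 4, 5, 4, 5, 4, 0, 3, 5, 4, 5, 4, 5, 4, 3, 0, 3, 0, 5, 4, 5, 4, 5, 4, 0, 3, 2] := fixes_of_wordFix P (by decide +kernel)

theorem base84_ok : Fixes P 220 [5, 4, 5, 4, 5, 4, 5, 4, 5, 4, 5, 4] :=
  fixes_of_powFix P (u := [5, 4]) (e := 6) (by decide +kernel) (by decide +kernel)

theorem base_ok : ∀ w ∈ base, Fixes P 220 w := by
  intro w hw
  rw [base] at hw
  rcases List.mem_cons.1 hw with rfl | hw
  · exact base0_ok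
  rcases List.mem_cons.1 hw with rfl | hw
  · exact base1_ok
  rcases List.mem_cons.1 hw with rfl | hw
  · exact base2_ok
  rcases List.mem_cons.1 hw with rfl | hw
  · exact base3_ok
  rcases List.mem_cons.1 hw with rfl | hw
  · exact base4_ok
  rcases List.mem_cons.1 hw with rfl | hw
  · exact base5_ok
  rcases List.mem_cons.1 hw with rfl | hw
  · exact base6_ok
  rcases List.mem_cons.1 hw with rfl | hw
  · exact base7_ok
  rcases List.mem_cons.1 hw with rfl | hw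
  · exact base8_ok
  rcases List.mem_cons.1 hw with rfl | hw
  · exact base9_ok
  rcases List.mem_cons.1 hw with rfl | hw
  · exact base10_ok
  rcases List.mem_cons.1 hw with rfl | hw
  · exact base11_ok
  rcases List.mem_cons.1 hw with rfl | hw
  · exact base12_ok
  rcases List.mem_cons.1 hw with rfl | hw
  · exact base13_ok
  rcases List.mem_cons.1 hw with rfl | hw
  · exact base14_ok
  rcases List.mem_cons.1 hw with rfl | hw
  · exact base15_ok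
  rcases List.mem_cons.1 hw with rfl | hw
  · exact base16_ok
  rcases List.mem_cons.1 hw with rfl | hw
  · exact base17_ok
  rcases List.mem_cons.1 hw with rfl | hw
  · exact base18_ok
  rcases List.mem_cons.1 hw with rfl | hw
  · exact base19_ok
  rcases List.mem_cons.1 hw with rfl | hw
  · exact base20_ok
  rcases List.mem_cons.1 hw with rfl | hw
  · exact base21_ok
  rcases List.mem_cons.1 hw with rfl | hw
  · exact base22_ok
  rcases List.mem_cons.1 hw with rfl | hw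
  · exact base23_ok
  rcases List.mem_cons.1 hw with rfl | hw
  · exact base24_ok
  rcases List.mem_cons.1 hw with rfl | hw
  · exact base25_ok
  rcases List.mem_cons.1 hw with rfl | hw
  · exact base26_ok
  rcases List.mem_cons.1 hw with rfl | hw
  · exact base27_ok
  rcases List.mem_cons.1 hw with rfl | hw
  · exact base28_ok
  rcases List.mem_cons.1 hw with rfl | hw
  · exact base29_ok
  rcases List.mem_cons.1 hw with rfl | hw
  · exact base30_ok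
  rcases List.mem_cons.1 hw with rfl | hw
  · exact base31_ok
  rcases List.mem_cons.1 hw with rfl | hw
  · exact base32_ok
  rcases List.mem_cons.1 hw with rfl | hw
  · exact base33_ok
  rcases List.mem_cons.1 hw with rfl | hw
  · exact base34_ok
  rcases List.mem_cons.1 hw with rfl | hw
  · exact base35_ok
  rcases List.mem_cons.1 hw with rfl | hw
  · exact base36_ok
  rcases List.mem_cons.1 hw with rfl | hw
  · exact base37_ok
  rcases List.mem_cons.1 hw with rfl | hw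
  · exact base38_ok
  rcases List.mem_cons.1 hw with rfl | hw
  · exact base39_ok
  rcases List.mem_cons.1 hw with rfl | hw
  · exact base40_ok
  rcases List.mem_cons.1 hw with rfl | hw
  · exact base41_ok
  rcases List.mem_cons.1 hw with rfl | hw
  · exact base42_ok
  rcases List.mem_cons.1 hw with rfl | hw
  · exact base43_ok
  rcases List.mem_cons.1 hw with rfl | hw
  · exact base44_ok
  rcases List.mem_cons.1 hw with rfl | hw
  · exact base45_ok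
  rcases List.mem_cons.1 hw with rfl | hw
  · exact base46_ok
  rcases List.mem_cons.1 hw with rfl | hw
  · exact base47_ok
  rcases List.mem_cons.1 hw with rfl | hw
  · exact base48_ok
  rcases List.mem_cons.1 hw with rfl | hw
  · exact base49_ok
  rcases List.mem_cons.1 hw with rfl | hw
  · exact base50_ok
  rcases List.mem_cons.1 hw with rfl | hw
  · exact base51_ok
  rcases List.mem_cons.1 hw with rfl | hw
  · exact base52_ok
  rcases List.mem_cons.1 hw with rfl | hw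
  · exact base53_ok
  rcases List.mem_cons.1 hw with rfl | hw
  · exact base54_ok
  rcases List.mem_cons.1 hw with rfl | hw
  · exact base55_ok
  rcases List.mem_cons.1 hw with rfl | hw
  · exact base56_ok
  rcases List.mem_cons.1 hw with rfl | hw
  · exact base57_ok
  rcases List.mem_cons.1 hw with rfl | hw
  · exact base58_ok
  rcases List.mem_cons.1 hw with rfl | hw
  · exact base59_ok
  rcases List.mem_cons.1 hw with rfl | hw
  · exact base60_ok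
  rcases List.mem_cons.1 hw with rfl | hw
  · exact base61_ok
  rcases List.mem_cons.1 hw with rfl | hw
  · exact base62_ok
  rcases List.mem_cons.1 hw with rfl | hw
  · exact base63_ok
  rcases List.mem_cons.1 hw with rfl | hw
  · exact base64_ok
  rcases List.mem_cons.1 hw with rfl | hw
  · exact base65_ok
  rcases List.mem_cons.1 hw with rfl | hw
  · exact base66_ok
  rcases List.mem_cons.1 hw with rfl | hw
  · exact base67_ok
  rcases List.mem_cons.1 hw with rfl | hw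
  · exact base68_ok
  rcases List.mem_cons.1 hw with rfl | hw
  · exact base69_ok
  rcases List.mem_cons.1 hw with rfl | hw
  · exact base70_ok
  rcases List.mem_cons.1 hw with rfl | hw
  · exact base71_ok
  rcases List.mem_cons.1 hw with rfl | hw
  · exact base72_ok
  rcases List.mem_cons.1 hw with rfl | hw
  · exact base73_ok
  rcases List.mem_cons.1 hw with rfl | hw
  · exact base74_ok
  rcases List.mem_cons.1 hw with rfl | hw
  · exact base75_ok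
  rcases List.mem_cons.1 hw with rfl | hw
  · exact base76_ok
  rcases List.mem_cons.1 hw with rfl | hw
  · exact base77_ok
  rcases List.mem_cons.1 hw with rfl | hw
  · exact base78_ok
  rcases List.mem_cons.1 hw with rfl | hw
  · exact base79_ok
  rcases List.mem_cons.1 hw with rfl | hw
  · exact base80_ok
  rcases List.mem_cons.1 hw with rfl | hw
  · exact base81_ok
  rcases List.mem_cons.1 hw with rfl | hw
  · exact base82_ok
  rcases List.mem_cons.1 hw with rfl | hw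
  · exact base83_ok
  rcases List.mem_cons.1 hw with rfl | hw
  · exact base84_ok
  exact absurd hw List.not_mem_nil

theorem rots_ok : rotsOK base rots.entries hints = true := by decide +kernel

theorem fix_ok : wordsFixBase P sw = true := by decide +kernel

theorem tree_ok : treeOK P tree 0 = true := by decide +kernel

theorem tree_len : tree.length + 1 = 220 := by decide +kernel

end Cfsg.Agent.GL23Amalgam.Data.M220
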