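import Cfsg.Agent.Lib.GL23Amalgam.Certs

/-! Reachability data for the two coset tables. -/

set_option autoImplicit false

namespace Cfsg.Agent.GL23Amalgam.Data

/-- suborbit representatives -/
def repsL13 : List ℕ := [1]

/-- the suborbits cover all other points -/
def coverL13 : List (ℕ × ℕ) := [(1, 2), (1, 4), (3, 3), (2, 0), (2, 2), (7, 1), (7, 4), (6, 2), (10, 4), (8, 0),
    (11, 0)]

/-- every point is reached from the first -/
def rootL13 : List (ℕ × ℕ) := [(0, 4), (1, 0), (1, 1), (2, 1), (2, 2), (3, 5), (4, 0), (4, 5), (7, 3), (5, 5),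
    (8, 3), (9, 3)]

/-- representatives, their paths, and growth to all points -/
def primL13 : List (ℕ × List ℕ × List (ℕ × ℕ)) := [(1, [4],
    [(0, 5), (1, 2), (1, 4), (3, 3), (2, 0), (2, 2), (7, 1), (7, 4), (6, 2), (10, 4),
    (8, 0), (11, 0)])]

/-- suborbit representatives -/
def repsM220 : List ℕ := [1, 10, 85, 88]

/-- the suborbits cover all other points -/
def coverM220 : List (ℕ × ℕ) := [(1, 2), (1, 4), (10, 2), (10, 3), (10, 4), (85, 3), (85, 4), (88, 0), (88, 2), (88, 3),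
    (88, 4), (3, 3), (2, 0), (2, 2), (31, 3), (31, 4), (11, 1), (11, 2), (11, 4), (22, 0),
    (22, 2), (22, 3), (86, 1), (86, 4), (166, 0), (166, 2), (166, 3), (89, 2), (89, 3), (89, 4),
    (136, 3), (136, 4), (90, 1), (90, 2), (90, 4), (167, 0), (167, 2), (167, 3), (7, 1), (7, 4),
    (4, 2), (67, 1), (67, 2), (67, 4), (32, 0), (32, 2), (32, 3), (12, 2), (12, 4), (34, 4),
    (29, 0), (29, 2), (29, 3), (40, 2), (40, 3), (49, 3), (49, 4), (23, 1), (23, 2), (23, 4),
    (87, 4), (190, 0), (190, 2), (190, 3), (176, 2), (176, 3), (142, 3), (142, 4), (168, 1), (168, 2),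
    (137, 3), (137, 4), (91, 1), (91, 2), (91, 4), (202, 0), (202, 2), (202, 3), (138, 1), (138, 2),
    (98, 0), (98, 2), (92, 2), (92, 4), (198, 1), (198, 3), (198, 4), (195, 0), (195, 3), (178, 2),
    (178, 3), (149, 3), (172, 1), (172, 2), (172, 4), (13, 4), (8, 0), (113, 2), (113, 4), (68, 4),
    (69, 0), (69, 2), (69, 3), (33, 2), (33, 3), (16, 4), (83, 1), (83, 2), (35, 3), (35, 4),
    (30, 0), (30, 2), (30, 3), (36, 0), (36, 2), (48, 2), (48, 3), (61, 1), (61, 3), (61, 4),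
    (50, 3), (41, 1), (41, 2), (41, 4), (80, 1), (80, 2), (51, 0), (51, 2), (51, 3), (24, 2),
    (24, 4), (55, 1), (191, 0), (191, 2), (193, 2), (193, 3), (177, 1), (177, 2), (177, 4), (175, 0),
    (175, 3), (139, 1), (97, 0), (97, 2), (97, 3), (93, 4), (183, 4), (218, 3), (95, 4), (204, 1),
    (204, 4), (140, 2), (99, 2), (165, 1), (165, 4), (185, 4), (194, 0), (199, 4), (196, 4), (205, 2),
    (148, 3), (179, 1), (179, 4), (173, 4), (216, 1), (14, 0), (115, 3), (115, 4), (114, 0), (114, 2),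
    (114, 3), (70, 3), (71, 1), (71, 4), (84, 1), (84, 2), (84, 4), (26, 3), (124, 2), (81, 1),
    (100, 4), (37, 0), (37, 3), (47, 3), (60, 3), (28, 2), (28, 4), (62, 3), (64, 0), (79, 1),
    (78, 1), (76, 2), (58, 3), (58, 4), (57, 3), (219, 3), (153, 0), (153, 2), (206, 2), (206, 4),
    (209, 3), (180, 4), (117, 4), (116, 3), (118, 3), (126, 3), (120, 2), (127, 3), (129, 3), (129, 4),
    (128, 3), (101, 0), (39, 3), (119, 3), (111, 0)]

/-- every point is reached from the first -/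
def rootM220 : List (ℕ × ℕ) := [(0, 4), (1, 1), (1, 5), (2, 2), (2, 5), (3, 3), (3, 4), (4, 5), (5, 3), (5, 4),
    (7, 0), (7, 4), (10, 1), (10, 5), (6, 3), (6, 4), (8, 0), (8, 4), (11, 1), (11, 5),
    (13, 4), (16, 1), (16, 3), (16, 5), (22, 2), (22, 3), (22, 5), (31, 3), (31, 4), (9, 0),
    (9, 4), (12, 1), (12, 5), (20, 1), (20, 2), (20, 5), (29, 2), (29, 3), (29, 5), (34, 1),
    (34, 3), (34, 4), (17, 5), (26, 2), (26, 3), (26, 5), (18, 5), (32, 3), (32, 4), (40, 3),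
    (40, 5), (23, 5), (49, 1), (49, 3), (49, 4), (67, 0), (67, 1), (67, 4), (85, 1), (30, 2),
    (30, 3), (30, 5), (35, 3), (35, 4), (24, 2), (24, 5), (21, 5), (37, 3), (37, 4), (48, 3),
    (48, 5), (25, 5), (61, 0), (61, 1), (61, 3), (61, 4), (36, 3), (36, 4), (68, 0), (68, 1),
    (68, 4), (94, 1), (94, 3), (94, 5), (33, 3), (33, 4), (45, 3), (27, 5), (53, 0), (53, 3),
    (53, 4), (38, 3), (38, 4), (83, 0), (83, 4), (88, 1), (88, 3), (88, 5), (41, 5), (50, 3),
    (50, 4), (55, 0), (55, 4), (51, 3), (51, 4), (80, 0), (80, 4), (80, 5), (86, 1), (113, 1),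
    (113, 4), (69, 2), (69, 4), (69, 5), (142, 1), (142, 3), (166, 2), (166, 3), (47, 3), (28, 5),
    (60, 3), (100, 0), (100, 1), (100, 4), (95, 1), (95, 5), (58, 1), (58, 3), (58, 4), (39, 3),
    (39, 4), (107, 0), (109, 1), (109, 5), (59, 4), (62, 3), (62, 4), (72, 0), (72, 4), (96, 5),
    (81, 0), (115, 1), (115, 4), (148, 1), (148, 3), (148, 5), (151, 5), (203, 3), (84, 0), (84, 4),
    (54, 4), (75, 0), (75, 4), (91, 1), (91, 5), (82, 0), (124, 4), (162, 1), (162, 3), (167, 3),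
    (90, 1), (90, 5), (136, 3), (56, 4), (79, 0), (79, 4), (87, 1), (57, 3), (111, 5), (76, 4),
    (92, 1), (92, 5), (146, 1), (146, 2), (78, 0), (78, 4), (190, 2), (190, 3), (114, 2), (70, 4),
    (154, 1), (154, 2), (154, 3), (154, 5), (175, 2), (175, 3), (144, 5), (176, 3), (168, 4), (168, 5),
    (137, 3), (153, 5), (202, 3), (106, 0), (112, 5), (152, 5), (116, 3), (141, 2), (150, 5), (178, 3),
    (165, 3), (93, 1), (93, 5), (159, 1), (218, 2), (171, 2), (195, 2), (198, 4), (194, 2), (169, 2),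
    (169, 5), (193, 3), (157, 1), (173, 2), (156, 1), (170, 2), (210, 3), (219, 2), (180, 1)]

/-- representatives, their paths, and growth to all points -/
def primM220 : List (ℕ × List ℕ × List (ℕ × ℕ)) := [(1, [4],
    [(0, 5), (1, 2), (1, 4), (3, 3), (3, 5), (2, 0), (2, 2), (7, 1), (7, 4), (7, 5),
    (10, 2), (10, 3), (10, 4), (4, 2), (13, 4), (13, 5), (8, 0), (8, 5), (16, 2), (16, 3),
    (16, 4), (31, 3), (31, 5), (11, 1), (11, 2), (11, 4), (22, 0), (22, 2), (22, 3), (14, 0),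
    (17, 2), (17, 3), (17, 4), (20, 0), (20, 2), (20, 4), (32, 3), (32, 5), (18, 2), (26, 0),
    (26, 2), (26, 3), (67, 1), (67, 2), (67, 4), (67, 5), (85, 3), (85, 4), (12, 2), (12, 4),
    (34, 4), (34, 5), (29, 0), (29, 2), (40, 2), (40, 3), (49, 3), (49, 4), (23, 2), (33, 3),
    (33, 5), (25, 0), (25, 2), (21, 2), (21, 4), (37, 3), (37, 5), (24, 0), (24, 2), (83, 1),
    (83, 2), (83, 5), (88, 2), (88, 3), (88, 4), (38, 3), (38, 5), (45, 3), (53, 1), (53, 3),
    (53, 5), (27, 2), (113, 2), (113, 4), (113, 5), (68, 4), (68, 5), (69, 0), (69, 2), (69, 5),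
    (142, 3), (142, 4), (86, 1), (86, 4), (166, 0), (166, 3), (35, 3), (35, 5), (30, 0), (30, 2),
    (36, 5), (94, 2), (94, 3), (94, 4), (48, 2), (61, 1), (61, 3), (61, 4), (61, 5), (50, 3),
    (41, 2), (80, 1), (80, 2), (80, 5), (51, 3), (51, 5), (55, 1), (55, 5), (84, 1), (84, 5),
    (89, 2), (89, 4), (39, 3), (39, 5), (28, 0), (28, 2), (107, 1), (107, 4), (109, 2), (109, 4),
    (58, 3), (58, 4), (58, 5), (124, 2), (124, 5), (81, 1), (162, 0), (162, 3), (162, 4), (136, 3),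
    (136, 4), (136, 5), (90, 2), (90, 4), (167, 0), (167, 2), (167, 3), (110, 2), (54, 5), (75, 5),
    (91, 2), (91, 4), (115, 4), (114, 0), (114, 2), (143, 3), (143, 4), (148, 3), (148, 4), (70, 5),
    (154, 0), (154, 2), (154, 3), (154, 4), (144, 2), (175, 0), (175, 3), (87, 4), (190, 0), (190, 5),
    (176, 3), (168, 1), (168, 2), (168, 5), (100, 4), (95, 4), (203, 3), (151, 2), (62, 3), (62, 5),
    (72, 5), (79, 1), (56, 5), (78, 1), (78, 5), (146, 0), (76, 5), (92, 2), (57, 3), (111, 2),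
    (165, 3), (165, 4), (137, 3), (202, 3), (106, 1), (112, 2), (171, 0), (138, 1), (198, 1), (198, 5),
    (195, 0), (178, 3), (172, 2), (93, 4), (159, 4), (116, 3), (174, 0), (150, 2), (157, 4), (156, 4),
    (173, 0), (192, 5), (186, 3), (182, 2), (170, 0), (153, 2), (179, 4), (216, 1), (213, 0)]),
  (10, [4, 5, 4],
    [(0, 5), (10, 2), (10, 3), (10, 4), (31, 3), (31, 4), (11, 1), (11, 2), (11, 4), (11, 5),
    (22, 0), (22, 2), (22, 3), (22, 5), (67, 1), (67, 2), (67, 4), (67, 5), (32, 0), (32, 2),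
    (32, 3), (32, 5), (12, 2), (12, 4), (12, 5), (34, 4), (34, 5), (29, 0), (29, 2), (29, 3),
    (29, 5), (2, 2), (2, 4), (40, 2), (40, 3), (40, 5), (49, 3), (49, 4), (23, 1), (23, 2),
    (23, 4), (23, 5), (86, 3), (86, 4), (113, 2), (113, 4), (113, 5), (68, 4), (68, 5), (69, 0),
    (69, 2), (69, 3), (69, 5), (167, 2), (167, 3), (167, 4), (33, 2), (33, 3), (33, 5), (16, 4),
    (83, 1), (83, 2), (83, 5), (117, 4), (35, 4), (35, 5), (30, 0), (30, 3), (30, 5), (4, 2),
    (36, 0), (36, 2), (36, 5), (203, 2), (203, 3), (48, 2), (48, 3), (48, 5), (61, 1), (61, 3),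
    (61, 4), (61, 5), (97, 2), (97, 4), (5, 3), (1, 2), (50, 3), (41, 1), (41, 2), (41, 4),
    (41, 5), (87, 4), (80, 1), (80, 2), (80, 5), (51, 0), (51, 2), (51, 3), (51, 5), (24, 2),
    (24, 4), (24, 5), (55, 1), (55, 5), (90, 2), (90, 4), (85, 4), (190, 0), (190, 2), (190, 3),
    (190, 5), (115, 4), (114, 0), (114, 2), (114, 3), (114, 5), (178, 2), (178, 3), (176, 2), (176, 3),
    (70, 3), (70, 5), (71, 1), (71, 4), (71, 5), (52, 5), (211, 2), (211, 3), (211, 4), (149, 3),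
    (172, 1), (172, 4), (88, 0), (88, 2), (88, 5), (84, 2), (84, 4), (100, 4), (26, 3), (26, 5),
    (124, 2), (81, 1), (81, 5), (60, 3), (111, 2), (111, 3), (37, 0), (37, 3), (37, 5), (202, 2),
    (47, 3), (47, 5), (28, 2), (28, 4), (6, 3), (38, 5), (159, 3), (159, 4), (205, 1), (205, 2),
    (98, 2), (62, 3), (64, 0), (125, 4), (162, 1), (162, 4), (8, 1), (79, 1), (42, 5), (56, 5),
    (43, 5), (92, 2), (191, 2), (123, 5), (78, 1), (53, 5), (45, 5), (76, 2), (184, 2), (184, 4),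
    (58, 3), (58, 5), (91, 2), (91, 4), (57, 3), (57, 5), (198, 1), (195, 0), (195, 3), (166, 2),
    (193, 3), (146, 1), (146, 4), (146, 5), (174, 1), (116, 3), (118, 5), (126, 3), (179, 1), (179, 4),
    (177, 1), (177, 4), (210, 2), (210, 4), (150, 1), (216, 1), (151, 5), (173, 2), (89, 5), (112, 3),
    (128, 3), (39, 3), (39, 5), (9, 1), (156, 4), (157, 4), (119, 3), (187, 1), (180, 4)]),
  (85, [4, 5, 4, 5, 4],
    [(0, 5), (85, 3), (85, 4), (86, 1), (86, 4), (166, 0), (166, 2), (166, 3), (166, 5), (87, 4),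
    (190, 0), (190, 2), (190, 3), (190, 5), (176, 3), (142, 3), (142, 4), (168, 1), (168, 2), (168, 5),
    (143, 3), (191, 0), (191, 5), (193, 2), (193, 3), (193, 5), (146, 5), (123, 1), (123, 4), (177, 1),
    (177, 2), (177, 4), (177, 5), (144, 5), (175, 0), (175, 3), (169, 5), (184, 5), (56, 1), (56, 4),
    (145, 5), (79, 3), (79, 4), (147, 5), (122, 4), (116, 3), (116, 4), (80, 3), (80, 4), (124, 0),
    (124, 2), (124, 5), (189, 5), (188, 5), (55, 4), (182, 5), (57, 3), (57, 4), (41, 3), (41, 4),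
    (58, 3), (58, 4), (63, 0), (63, 2), (63, 3), (77, 4), (50, 4), (50, 5), (76, 0), (76, 3),
    (76, 5), (119, 3), (120, 0), (120, 2), (120, 3), (120, 5), (132, 4), (115, 2), (115, 3), (115, 5),
    (83, 0), (83, 2), (83, 3), (83, 5), (125, 2), (125, 5), (129, 1), (129, 3), (129, 4), (129, 5),
    (47, 1), (47, 3), (23, 4), (59, 0), (59, 3), (24, 4), (105, 4), (60, 3), (43, 3), (106, 4),
    (65, 0), (65, 3), (64, 3), (27, 1), (27, 3), (27, 4), (74, 5), (68, 3), (52, 0), (52, 2),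
    (52, 3), (52, 5), (22, 4), (75, 3), (75, 5), (51, 5), (39, 1), (121, 3), (109, 3), (109, 4),
    (114, 2), (130, 0), (130, 2), (130, 5), (117, 1), (117, 5), (67, 3), (84, 3), (81, 4), (32, 2),
    (32, 5), (29, 4), (128, 3), (30, 4), (134, 5), (48, 3), (103, 2), (103, 5), (104, 4), (104, 5),
    (45, 5), (108, 5), (102, 5), (26, 5), (19, 3), (34, 1), (54, 3), (54, 5), (25, 5), (196, 1),
    (196, 3), (196, 4), (10, 5), (170, 3), (170, 4), (111, 5), (112, 5), (183, 4), (100, 5), (7, 3),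
    (7, 4), (33, 5), (16, 5), (136, 3), (136, 4), (135, 5), (101, 5), (199, 4), (185, 4), (141, 4),
    (201, 4), (17, 5), (171, 4), (139, 4), (197, 4), (198, 4), (211, 0), (211, 2), (211, 5), (1, 4),
    (163, 0), (163, 2), (91, 4), (160, 0), (160, 5), (13, 4), (8, 0), (8, 3), (137, 4), (88, 4),
    (200, 4), (93, 4), (207, 0), (207, 2), (207, 5), (158, 0), (148, 2), (216, 2), (89, 4), (162, 0),
    (210, 0), (210, 2), (210, 3), (210, 5), (205, 0), (205, 2), (205, 3), (205, 5), (151, 4), (2, 0),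
    (99, 1), (218, 2), (9, 3), (217, 2), (217, 3), (219, 2), (219, 3), (202, 2), (209, 3)]),
  (88, [4, 5, 3, 4, 5, 4],
    [(0, 5), (88, 0), (88, 2), (88, 3), (88, 4), (88, 5), (89, 2), (89, 3), (89, 4), (89, 5),
    (136, 3), (136, 4), (136, 5), (90, 1), (90, 2), (90, 4), (90, 5), (167, 0), (167, 2), (167, 3),
    (167, 5), (18, 0), (18, 2), (18, 3), (18, 4), (18, 5), (137, 3), (91, 1), (91, 2), (91, 4),
    (91, 5), (202, 0), (202, 2), (202, 3), (202, 5), (20, 0), (20, 2), (20, 4), (138, 1), (138, 2),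
    (138, 5), (98, 0), (98, 2), (98, 5), (166, 0), (166, 2), (166, 3), (166, 4), (166, 5), (92, 2),
    (92, 4), (92, 5), (198, 1), (198, 3), (198, 4), (198, 5), (195, 0), (195, 3), (97, 0), (97, 2),
    (97, 3), (97, 5), (178, 2), (178, 3), (178, 5), (149, 3), (172, 1), (172, 2), (172, 4), (172, 5),
    (135, 0), (135, 3), (135, 4), (19, 2), (19, 3), (19, 4), (38, 1), (38, 3), (38, 5), (16, 2),
    (16, 4), (23, 0), (23, 2), (23, 3), (23, 5), (74, 0), (74, 1), (74, 2), (139, 1), (139, 5),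
    (93, 4), (183, 4), (183, 5), (218, 3), (63, 4), (63, 5), (203, 5), (95, 4), (95, 5), (204, 1),
    (204, 4), (204, 5), (30, 0), (30, 2), (30, 3), (30, 4), (37, 4), (24, 0), (24, 2), (24, 5),
    (140, 2), (140, 5), (44, 1), (44, 5), (99, 2), (99, 5), (165, 1), (101, 0), (101, 1), (101, 2),
    (101, 4), (176, 3), (142, 3), (142, 4), (168, 1), (168, 2), (85, 3), (85, 5), (154, 0), (154, 2),
    (154, 3), (154, 5), (185, 5), (194, 0), (194, 5), (196, 5), (205, 2), (68, 2), (68, 3), (68, 4),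
    (170, 5), (162, 5), (64, 4), (148, 3), (148, 5), (179, 1), (179, 4), (179, 5), (107, 4), (107, 5),
    (151, 5), (173, 5), (216, 1), (155, 5), (192, 1), (134, 3), (134, 4), (134, 5), (128, 1), (128, 2),
    (128, 4), (128, 5), (131, 3), (36, 5), (17, 2), (17, 4), (27, 5), (209, 0), (209, 2), (209, 3),
    (32, 3), (32, 5), (26, 0), (26, 5), (41, 3), (55, 4), (22, 4), (73, 1), (73, 2), (73, 4),
    (110, 2), (76, 3), (76, 4), (8, 3), (8, 4), (8, 5), (219, 3), (219, 5), (130, 5), (56, 3),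
    (29, 0), (29, 4), (4, 2), (143, 4), (47, 2), (28, 5), (58, 3), (120, 3), (14, 4), (163, 5),
    (102, 5), (103, 4), (177, 4), (175, 0), (184, 4), (2, 4), (115, 4), (67, 4), (61, 3), (180, 4),
    (49, 3), (54, 0), (54, 3), (54, 5), (193, 3), (129, 2), (133, 3), (50, 5), (127, 2)])]

end Cfsg.Agent.GL23Amalgam.Data
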